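import Cfsg.Agent.Lib.OrthMax.Unitary
import Cfsg.Agent.Lib.FieldMax.Meet

/-!
Orthogonal spaces over an extension field, seen over the base field: setting and geometric lemmas.
-/

set_option autoImplicit false
set_option linter.unusedSectionVars false
set_option linter.style.haveILetI false

namespace CfsgLib.OrthField

open QuadraticMap CfsgLib.Geometry CfsgLib.OrthMax CfsgLib.FieldMax

section Space

variable {L V : Type*} [Field L] [AddCommGroup V] [Module L V] {QL : QuadraticForm L V}

/-- A subspace on which the form is non-degenerate. -/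
def NdOn (QL : QuadraticForm L V) (U : Submodule L V) : Prop :=
  ∀ x ∈ U, (∀ u ∈ U, polar QL x u = 0) → x = 0

theorem ndOn_single (h2 : (2 : L) ≠ 0) {w : V} (hw : QL w ≠ 0) : NdOn QL (L ∙ w) := by
  intro x hx hxu
  obtain ⟨c, rfl⟩ := Submodule.mem_span_singleton.1 hx
  have := hxu w (Submodule.mem_span_singleton_self w)
  rw [polar_smul_left', polar_self'] at this
  simp [(mul_eq_zero.1 this).resolve_right (mul_ne_zero h2 hw)]

theorem ndOn_pair {a y : V} (ha : QL a = 0) (hay : polar QL a y ≠ 0) : NdOn QL (Submodule.span L {a, y}) := by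
  intro x hx hxu
  obtain ⟨c, d, rfl⟩ := Submodule.mem_span_pair.1 hx
  have e1 := hxu a (Submodule.subset_span (by simp))
  have e2 := hxu y (Submodule.subset_span (by simp))
  simp only [polar_add_left, polar_smul_left', polar_self', ha, polar_comm QL y a, mul_zero, zero_add] at e1 e2
  obtain rfl : d = 0 := (mul_eq_zero.1 e1).resolve_right hay
  rw [zero_mul, add_zero] at e2
  rw [(mul_eq_zero.1 e2).resolve_right hay]
  simp

/-- Adding an orthogonal non-singular vector. -/
theorem ndOn_insert (h2 : (2 : L) ≠ 0) {s : Set V} {w : V} (hs : NdOn QL (Submodule.span L s)) (hw : QL w ≠ 0)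
    (hp : ∀ u ∈ Submodule.span L s, polar QL w u = 0) : NdOn QL (Submodule.span L (insert w s)) := by
  intro x hx hxu
  obtain ⟨c, u, hu, rfl⟩ := Submodule.mem_span_insert.1 hx
  have e1 := hxu w (Submodule.subset_span (Set.mem_insert _ _))
  rw [polar_add_left, polar_smul_left', polar_self', polar_comm QL u w, hp u hu, add_zero] at e1
  obtain rfl : c = 0 := (mul_eq_zero.1 e1).resolve_right (mul_ne_zero h2 hw)
  simp only [zero_smul, zero_add] at hxu ⊢
  exact hs u hu fun v hv => hxu v (Submodule.span_mono (Set.subset_insert _ _) hv)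

variable [FiniteDimensional L V] (hQ : (polarBilin QL).Nondegenerate)

include hQ

/-- The perp of a non-degenerate subspace, as a quadratic space. -/
theorem perp_space {U : Submodule L V} (hU : NdOn QL U) :
    (polarBilin (QL.comp (polarPerp QL U).subtype)).Nondegenerate ∧
      Module.finrank L (polarPerp QL U) + Module.finrank L U = Module.finrank L V := by
  have hd : U ⊓ polarPerp QL U = ⊥ := eq_bot_iff.2 fun x hx => by
    rw [Submodule.mem_bot]
    exact hU x hx.1 fun u hu => by rw [polar_comm]; exact mem_polarPerp.1 hx.2 u hu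
  have hdim := finrank_polarPerp hQ U
  have hsum := Submodule.finrank_sup_add_finrank_inf_eq U (polarPerp QL U)
  rw [hd, finrank_bot, add_zero] at hsum
  refine ⟨?_, by omega⟩
  have htop : U ⊔ polarPerp QL U = ⊤ := Submodule.eq_top_of_finrank_eq (by omega)
  have key : ∀ x : polarPerp QL U, (∀ y : polarPerp QL U, polar QL (x : V) y = 0) → x = 0 := fun x hx =>
    Subtype.ext (hQ.1 (x : V) fun v => by
      obtain ⟨u, hu, p, hp, rfl⟩ := Submodule.mem_sup.1 (htop ▸ Submodule.mem_top : v ∈ U ⊔ polarPerp QL U)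
      show polar QL (x : V) (u + p) = 0
      rw [polar_add_right, polar_comm, mem_polarPerp.1 x.2 u hu, hx ⟨p, hp⟩, add_zero])
  have hc : ∀ x y : polarPerp QL U, polar (⇑(QL.comp (polarPerp QL U).subtype)) x y = polar QL (x : V) y :=
    fun x y => by simp [QuadraticMap.polar]
  exact ⟨fun x hx => key x fun y => (hc x y).symm.trans (hx y),
    fun x hx => key x fun y => by rw [polar_comm, ← hc]; exact hx y⟩

theorem exists_value [Finite L] {U : Submodule L V} (hU : NdOn QL U)
    (hd : Module.finrank L U + 2 ≤ Module.finrank L V) (c : L) : ∃ b, (∀ u ∈ U, polar QL b u = 0) ∧ QL b = c := by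
  obtain ⟨hn, hf⟩ := perp_space hQ hU
  obtain ⟨b, hb⟩ := exists_represents hn (by omega) c
  exact ⟨b, fun u hu => by rw [polar_comm]; exact mem_polarPerp.1 b.2 u hu, by simpa using hb⟩

theorem exists_singular_perp [Finite L] {U : Submodule L V} (hU : NdOn QL U)
    (hd : Module.finrank L U + 3 ≤ Module.finrank L V) : ∃ e, e ≠ 0 ∧ QL e = 0 ∧ ∀ u ∈ U, polar QL e u = 0 := by
  obtain ⟨hn, hf⟩ := perp_space hQ hU
  obtain ⟨b, hb0, hb⟩ := exists_singular hn (by omega)
  exact ⟨b, fun e => hb0 (Subtype.ext e), by simpa using hb, fun u hu => by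
    rw [polar_comm]; exact mem_polarPerp.1 b.2 u hu⟩

theorem exists_aniso_perp {U : Submodule L V} (hU : NdOn QL U)
    (hd : Module.finrank L U < Module.finrank L V) : ∃ b, (∀ u ∈ U, polar QL b u = 0) ∧ QL b ≠ 0 := by
  obtain ⟨hn, hf⟩ := perp_space hQ hU
  by_contra hcon
  push Not at hcon
  haveI : Nontrivial (polarPerp QL U) := Module.nontrivial_of_finrank_pos (R := L) (by omega)
  obtain ⟨x, hx⟩ := exists_ne (0 : polarPerp QL U)
  refine hx (hn.1 x fun y => ?_)
  have hz : ∀ z : polarPerp QL U, QL.comp (polarPerp QL U).subtype z = 0 := fun z => by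
    simpa using hcon z fun u hu => by rw [polar_comm]; exact mem_polarPerp.1 z.2 u hu
  simp only [polarBilin_apply_apply, QuadraticMap.polar, hz, sub_zero]

/-- The singular vectors of a large perp span it. -/
theorem eq_zero_of_singular_perp [Finite L] {U : Submodule L V} (hU : NdOn QL U)
    (hd : Module.finrank L U + 3 ≤ Module.finrank L V) {y : V} (hy : ∀ u ∈ U, polar QL y u = 0)
    (he : ∀ e, e ≠ 0 → QL e = 0 → (∀ u ∈ U, polar QL e u = 0) → polar QL y e = 0) : y = 0 := by
  obtain ⟨hn, hf⟩ := perp_space hQ hU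
  have hy' : y ∈ polarPerp QL U := mem_polarPerp.2 fun u hu => by rw [polar_comm]; exact hy u hu
  have hsing : ∀ x, QL x = 0 → (∀ u ∈ U, polar QL x u = 0) → polar QL y x = 0 := fun x h1 h2' => by
    rcases eq_or_ne x 0 with rfl | hx
    · exact polar_zero_right _ _
    · exact he x hx h1 h2'
  obtain ⟨e, he0, hQe, heU⟩ := exists_singular_perp hQ hU hd
  obtain ⟨f, hQf, hef, hfU⟩ := exists_partner hQ U (fun h => he0 (hU e h fun u hu => heU u hu)) hQe heU
  have hye := hsing e hQe heU
  have hyf := hsing f hQf hfU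
  have key : ∀ x : polarPerp QL U, polar QL y (x : V) = 0 := by
    intro x
    have hxU : ∀ u ∈ U, polar QL (x : V) u = 0 := fun u hu => by rw [polar_comm]; exact mem_polarPerp.1 x.2 u hu
    by_cases hxe : polar QL (x : V) e = 0
    · by_cases hxf : polar QL ((x : V) + f) e = 0
      · rw [polar_add_left, hxe, polar_comm QL f e, hef, zero_add] at hxf
        exact absurd hxf one_ne_zero
      · have h1 := hsing ((x : V) + f + (-(QL ((x : V) + f) / polar QL ((x : V) + f) e)) • e)
          (by rw [map_add', map_smul', hQe, polar_smul_right']; field_simp; ring)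
          (fun u hu => by rw [polar_add_left, polar_add_left, polar_smul_left', hxU u hu, hfU u hu, heU u hu]; ring)
        simpa [polar_add_right, polar_smul_right', hye, hyf] using h1
    · have h1 := hsing ((x : V) + (-(QL (x : V) / polar QL (x : V) e)) • e)
        (by rw [map_add', map_smul', hQe, polar_smul_right']; field_simp; ring)
        (fun u hu => by rw [polar_add_left, polar_smul_left', hxU u hu, heU u hu]; ring)
      simpa [polar_add_right, polar_smul_right', hye] using h1
  have := hn.1 ⟨y, hy'⟩ fun x => by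
    simpa [QuadraticMap.polar] using key x
  exact congrArg Subtype.val this

end Space

section Setting

variable {F L V : Type*} [Field F] [Field L] [Algebra F L] [AddCommGroup V] [Module F V] [Module L V]
  [IsScalarTower F L V]

/-- Restriction of scalars, as a homomorphism. -/
def res : (V ≃ₗ[L] V) →* (V ≃ₗ[F] V) where
  toFun h := h.restrictScalars F
  map_one' := rfl
  map_mul' _ _ := rfl

/-- A group of isometries of the traced form containing the isometries over the extension field. -/
structure OExt (QL : QuadraticForm L V) (ε : Module.Dual F L) (Q : QuadraticForm F V)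
    (M : Subgroup (V ≃ₗ[F] V)) : Prop where
  nd : (polarBilin QL).Nondegenerate
  form : ∀ v, Q v = ε (QL v)
  eps : ε ≠ 0
  prime : (Module.finrank F L).Prime
  two : (2 : F) ≠ 0
  le : M ≤ siegelGroup Q
  lin : ∀ g ∈ siegelGroup Q, (∀ (l : L) (v : V), g (l • v) = l • g v) → g ∈ M
  dim : 3 ≤ Module.finrank L V

theorem eps_smul' (ε : Module.Dual F L) (c : F) (x : L) : ε (c • x) = c * ε x := by rw [map_smul, smul_eq_mul]

theorem lpolar_smul_left (QL : QuadraticForm L V) (c : F) (u v : V) : polar QL (c • u) v = c • polar QL u v := by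
  rw [← algebraMap_smul L c u, polar_smul_left', Algebra.smul_def]

theorem lpolar_smul_right (QL : QuadraticForm L V) (c : F) (u v : V) : polar QL u (c • v) = c • polar QL u v := by
  rw [polar_comm, lpolar_smul_left, polar_comm]

namespace OExt

variable {QL : QuadraticForm L V} {ε : Module.Dual F L} {Q : QuadraticForm F V} {M : Subgroup (V ≃ₗ[F] V)}
variable (hS : OExt QL ε Q M)

include hS

theorem two' : (2 : L) ≠ 0 := fun h => hS.two ((algebraMap F L).injective (by rw [map_ofNat, map_zero, h]))

theorem polarQ (u v : V) : polar Q u v = ε (polar QL u v) := by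
  simp only [QuadraticMap.polar, hS.form, map_sub]

theorem singQ {v : V} (h : QL v = 0) : Q v = 0 := by rw [hS.form, h, map_zero]

theorem perpQ {u v : V} (h : polar QL u v = 0) : polar Q u v = 0 := by rw [hS.polarQ, h, map_zero]

theorem eps_ext {x y : L} (h : ∀ t, ε (t * x) = ε (t * y)) : x = y := by
  by_contra hne
  refine hS.eps (LinearMap.ext fun z => ?_)
  have := h (z / (x - y))
  rw [← sub_eq_zero, ← map_sub, ← mul_sub, div_mul_cancel₀ _ (sub_ne_zero.2 hne)] at this
  exact this

theorem exists_eps_one : ∃ t, ε t = 1 := by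
  obtain ⟨t, ht⟩ := DFunLike.ne_iff.1 hS.eps
  exact ⟨(ε t)⁻¹ • t, by rw [eps_smul', inv_mul_cancel₀ ht]⟩

theorem mem_orthQ {g : V ≃ₗ[F] V} (hg : g ∈ M) : g ∈ orth Q := siegelGroup_le_orth (hS.le hg)

variable [Finite F] [FiniteDimensional F L] [FiniteDimensional L V]

theorem ndQ : (polarBilin Q).Nondegenerate := by
  have key : ∀ u, (∀ v, polar Q u v = 0) → u = 0 := fun u hu => hS.nd.1 u fun v => hS.eps_ext fun t => by
    show ε (t * polar QL u v) = ε (t * 0)
    rw [← polar_smul_right', ← hS.polarQ, hu, mul_zero, map_zero]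
  exact ⟨key, fun u hu => key u fun v => by rw [polar_comm]; exact hu v⟩

theorem dimQ : 5 ≤ Module.finrank F V := by
  have := Module.finrank_mul_finrank F L V
  have := Nat.mul_le_mul hS.prime.two_le hS.dim
  omega

theorem sq_mem {h : V ≃ₗ[L] V} (ho : h ∈ orth QL) : res (F := F) (h * h) ∈ M := by
  haveI : FiniteDimensional F V := Module.Finite.trans L V
  have hgo : res (F := F) h ∈ orth Q := fun v => by
    show Q (h v) = Q v
    rw [hS.form, hS.form, mem_orth.1 ho]
  refine hS.lin _ ?_ fun l v => (h * h).map_smul l v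
  have hR := reflGroup_eq_orth_of_two_ne hS.ndQ hS.two
  refine (mem_commutator_iff_siegelGroup hS.ndQ hS.dimQ (⟨_, hgo⟩ * ⟨_, hgo⟩)).1 ?_
  rw [mem_commutator_orth_iff hS.ndQ hR, map_mul]
  generalize orthInvariant hS.ndQ hR ⟨_, hgo⟩ = x
  obtain ⟨s, d⟩ := x
  refine Prod.ext ?_ ?_
  · show s * s = 1
    induction s using QuotientGroup.induction_on with
    | H u => exact (QuotientGroup.eq_one_iff _).2 ⟨u, pow_two u⟩
  · show d * d = 1
    exact Multiplicative.toAdd.injective (by rw [toAdd_mul, toAdd_one, ← two_nsmul]; exact ZModModule.char_nsmul_eq_zero 2 _)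

theorem siegelL_mem {h : V ≃ₗ[L] V} (hh : h ∈ siegelGroup QL) : res (F := F) h ∈ M := by
  induction hh using Subgroup.closure_induction with
  | mem x hx =>
    obtain ⟨e, w, he, hw, rfl⟩ := hx
    have hw' : polar QL e ((2 : L)⁻¹ • w) = 0 := by rw [polar_smul_right', hw, mul_zero]
    convert hS.sq_mem (siegel_mem_orth QL e _ he hw') using 2
    rw [siegel_mul e _ _ he hw' hw']
    exact siegel_congr he hw _ _ rfl (by rw [← two_smul L, smul_smul, mul_inv_cancel₀ hS.two', one_smul])
  | one => rw [map_one]; exact one_mem _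
  | mul x y _ _ hx hy => rw [map_mul]; exact mul_mem hx hy
  | inv x _ hx => rw [map_inv]; exact inv_mem hx

/-- A linear isometry over the extension field in its commutator group. -/
theorem omega_mem (h : orth QL) (hh : h ∈ commutator (orth QL)) : res (F := F) (h : V ≃ₗ[L] V) ∈ M := by
  haveI : FiniteDimensional F V := Module.Finite.trans L V
  have hgo : ∀ k : orth QL, res (F := F) (k : V ≃ₗ[L] V) ∈ orth Q := fun k v => by
    show Q ((k : V ≃ₗ[L] V) v) = Q v
    rw [hS.form, hS.form, mem_orth.1 k.2]
  let R : orth QL →* orth Q := ((res (F := F)).comp (orth QL).subtype).codRestrict (orth Q) hgo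
  have hmap : (commutator (orth QL)).map R ≤ commutator (orth Q) := by
    rw [commutator_def, commutator_def, Subgroup.map_commutator]
    exact Subgroup.commutator_mono le_top le_top
  exact hS.lin _ ((mem_commutator_iff_siegelGroup hS.ndQ hS.dimQ _).1 (hmap (Subgroup.mem_map_of_mem R hh)))
    fun l v => (h : V ≃ₗ[L] V).map_smul l v

/-- Two reflections of the same class. -/
theorem refl2_mem {u v : V} (hu : QL u ≠ 0) (hv : QL v ≠ 0) (h : IsSquare (QL u * QL v)) :
    res (F := F) (refl QL u hu * refl QL v hv) ∈ M := by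
  haveI : Finite L := Module.finite_of_finite F
  have hR := reflGroup_eq_orth_of_two_ne hS.nd hS.two'
  refine hS.omega_mem (oRefl QL u hu * oRefl QL v hv) ((mem_commutator_orth_iff hS.nd hR _).2 ?_)
  rw [map_mul, orthInvariant_oRefl, orthInvariant_oRefl]
  refine Prod.ext ?_ ?_
  · show sqMk hu * sqMk hv = 1
    rw [← sqMk_mul, sqMk_eq_one_iff]; exact h
  · show Multiplicative.ofAdd (1 : ZMod 2) * Multiplicative.ofAdd 1 = 1
    rfl

/-- Four reflections with square product of classes. -/
theorem refl4_mem {u v u' v' : V} (hu : QL u ≠ 0) (hv : QL v ≠ 0) (hu' : QL u' ≠ 0) (hv' : QL v' ≠ 0)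
    (h : IsSquare (QL u * QL v * (QL u' * QL v'))) :
    res (F := F) ((refl QL u hu * refl QL v hv) * (refl QL u' hu' * refl QL v' hv')) ∈ M := by
  haveI : Finite L := Module.finite_of_finite F
  have hR := reflGroup_eq_orth_of_two_ne hS.nd hS.two'
  refine hS.omega_mem ((oRefl QL u hu * oRefl QL v hv) * (oRefl QL u' hu' * oRefl QL v' hv'))
    ((mem_commutator_orth_iff hS.nd hR _).2 ?_)
  simp only [map_mul, orthInvariant_oRefl]
  refine Prod.ext ?_ ?_
  · show sqMk hu * sqMk hv * (sqMk hu' * sqMk hv') = 1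
    rw [← sqMk_mul, ← sqMk_mul, ← sqMk_mul, sqMk_eq_one_iff]; exact h
  · show Multiplicative.ofAdd (1 : ZMod 2) * Multiplicative.ofAdd 1 * (Multiplicative.ofAdd 1 * Multiplicative.ofAdd 1) = 1
    rfl

/-- The Siegel element over the extension field. -/
theorem exists_E {a b : V} (ha : QL a = 0) (hab : polar QL a b = 0) :
    ∃ x ∈ M, (∀ v, x v = v + polar QL v a • b - polar QL v b • a - (QL b * polar QL v a) • a) ∧
      ∀ (l : L) (v : V), x (l • v) = l • x v :=
  ⟨_, hS.siegelL_mem (siegel_mem a b ha hab), fun v => siegel_apply QL a b ha hab v,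
    fun l v => (siegel QL a b ha hab).map_smul l v⟩

/-- Transitivity on singular vectors. -/
theorem exists_move (h4 : 4 ≤ Module.finrank L V) {a b : V} (ha : a ≠ 0) (hb : b ≠ 0) (hQa : QL a = 0) (hQb : QL b = 0) :
    ∃ x ∈ M, x a = b ∧ ∀ (l : L) (v : V), x (l • v) = l • x v := by
  haveI : Finite L := Module.finite_of_finite F
  obtain ⟨s, hs, hsa⟩ := siegel_trans_singular hS.nd h4 ha hb hQa hQb
  exact ⟨_, hS.siegelL_mem hs, hsa, fun l v => s.map_smul l v⟩

/-- The square of a product of two reflections. -/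
theorem exists_rot {u v : V} (hu : QL u ≠ 0) (hv : QL v ≠ 0) :
    ∃ x ∈ M, (∀ p, x p = refl QL u hu (refl QL v hv (refl QL u hu (refl QL v hv p)))) ∧
      (∀ (l : L) (p : V), x (l • p) = l • x p) ∧ ∀ p, polar QL p u = 0 → polar QL p v = 0 → x p = p := by
  refine ⟨_, hS.sq_mem (mul_mem (refl_mem_orth QL u hu) (refl_mem_orth QL v hv)), fun p => rfl,
    fun l p => LinearEquiv.map_smul _ l p, fun p h1 h2 => ?_⟩
  show refl QL u hu (refl QL v hv (refl QL u hu (refl QL v hv p))) = p
  simp [refl_apply, h1, h2]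

/-- In a finite field of odd characteristic a multiplier makes a given value a square. -/
theorem exists_class (hr : Odd (Module.finrank F L)) {x : L} :
    ∃ c : F, c ≠ 0 ∧ IsSquare (algebraMap F L c * x) := by
  haveI : Finite L := Module.finite_of_finite F
  by_cases hx : IsSquare x
  · exact ⟨1, one_ne_zero, by rwa [map_one, one_mul]⟩
  haveI := Fintype.ofFinite F
  obtain ⟨c, hc⟩ := FiniteField.exists_nonsquare (F := F) fun h => hS.two (by
    haveI := ringChar.of_eq h
    exact CharTwo.two_eq_zero)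
  refine ⟨c, fun e => hc (e ▸ IsSquare.zero), isSquare_mul_of_not (fun ⟨l, hl⟩ => hc ?_) hx⟩
  obtain ⟨k, hk⟩ := hr
  have h1 := congrArg (Algebra.norm F) hl
  rw [Algebra.norm_algebraMap, map_mul, hk, pow_succ] at h1
  have hc0 : c ≠ 0 := fun e => hc (e ▸ IsSquare.zero)
  refine ⟨Algebra.norm F l / c ^ k, ?_⟩
  rw [div_mul_div_comm, ← h1, ← pow_add, ← two_mul, mul_div_cancel_left₀ _ (pow_ne_zero _ hc0)]

/-- Transitivity on singular points, up to a scalar of the small field. -/
theorem exists_move' (hr : 4 ≤ Module.finrank L V ∨ Odd (Module.finrank F L)) {a b : V} (ha : a ≠ 0) (hb : b ≠ 0)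
    (hQa : QL a = 0) (hQb : QL b = 0) :
    ∃ x ∈ M, ∃ c : F, c ≠ 0 ∧ x a = c • b ∧ ∀ (l : L) (v : V), x (l • v) = l • x v := by
  haveI : FiniteDimensional F V := Module.Finite.trans L V
  haveI : Finite L := Module.finite_of_finite F
  rcases hr with h4 | hr
  · obtain ⟨x, hx, h, hl⟩ := hS.exists_move h4 ha hb hQa hQb
    exact ⟨x, hx, 1, one_ne_zero, by rw [one_smul]; exact h, hl⟩
  have hne : ∀ p q : V, QL p = 0 → QL q = 0 → polar QL p q ≠ 0 →
      ∃ x ∈ M, ∃ c : F, c ≠ 0 ∧ x p = c • q ∧ ∀ (l : L) (v : V), x (l • v) = l • x v := by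
    intro p q hp hq hpq
    obtain ⟨n, hn, hQn⟩ := exists_aniso_perp hS.nd (ndOn_pair hp hpq)
      (lt_of_le_of_lt (finrank_pair_le (F := L) p q) hS.dim)
    obtain ⟨c, hc, hsq⟩ := hS.exists_class hr (x := -(polar QL p q * QL n))
    set d := algebraMap F L c with hd
    have hd0 : d ≠ 0 := fun e => hc ((algebraMap F L).injective (by rw [← hd, e, map_zero]))
    have hQ : QL (p - d • q) = -(d * polar QL p q) := by
      rw [CfsgLib.Geometry.map_sub', map_smul', polar_smul_right', hp, hq]; ring
    have hQ0 : QL (p - d • q) ≠ 0 := by rw [hQ]; exact neg_ne_zero.2 (mul_ne_zero hd0 hpq)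
    refine ⟨_, hS.refl2_mem hQ0 hQn (by rw [hQ]; convert hsq using 1; ring), c, hc, ?_, fun l v =>
      LinearEquiv.map_smul _ l v⟩
    show refl QL (p - d • q) hQ0 (refl QL n hQn p) = _
    rw [refl_eq_self QL n hQn (by rw [polar_comm]; exact hn p (Submodule.subset_span (by simp))), refl_apply,
      polar_sub_right, polar_smul_right', polar_self', hp, mul_zero, zero_sub, ← hQ, inv_mul_cancel₀ hQ0,
      one_smul, sub_sub_cancel, hd, algebraMap_smul]
  by_cases hab : polar QL a b = 0
  swap
  · exact hne a b hQa hQb hab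
  obtain ⟨f, hf, haf⟩ := exists_pair hS.nd ha hQa
  obtain ⟨e, he, hae, hbe⟩ : ∃ e, QL e = 0 ∧ polar QL a e ≠ 0 ∧ polar QL b e ≠ 0 := by
    by_cases hbf : polar QL b f = 0
    swap
    · exact ⟨f, hf, by rw [haf]; exact one_ne_zero, hbf⟩
    obtain ⟨f', hf', hbf'⟩ := exists_pair hS.nd hb hQb
    by_cases haf' : polar QL a f' = 0
    swap
    · exact ⟨f', hf', haf', by rw [hbf']; exact one_ne_zero⟩
    refine ⟨f + f' + (-polar QL f f') • a, ?_, ?_, ?_⟩
    · simp only [map_add', map_smul', hf, hf', hQa, polar_smul_right', polar_add_left, polar_comm QL f a,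
        polar_comm QL f' a, haf, haf']
      ring
    · simp [polar_add_right, polar_smul_right', haf, haf', polar_self', hQa]
    · simp [polar_add_right, polar_smul_right', hbf, hbf', polar_comm QL b a, hab]
  obtain ⟨x, hx, c, hc, hxa, hxl⟩ := hne a e hQa he hae
  obtain ⟨y, hy, c', hc', hye, hyl⟩ := hne e b he hQb (by rw [polar_comm]; exact hbe)
  refine ⟨y * x, mul_mem hy hx, c * c', mul_ne_zero hc hc', ?_, fun l v => ?_⟩
  · show y (x a) = _
    rw [hxa, map_smul y c, hye, smul_smul]
  · show y (x (l • v)) = l • y (x v)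
    rw [hxl, hyl]

theorem of_smul_left {e w : V} {c : F} (h : RootIn Q M (c • e) w) (he : Q e = 0)
    (hw : polar Q e w = 0) : RootIn Q M e (c • w) := fun t he' hw' => by
  have h1 : Q (c • e) = 0 := by rw [map_smul' Q, he, mul_zero]
  have h2 : polar Q (c • e) (t • w) = 0 := by rw [polar_smul_left', polar_smul_right', hw, mul_zero, mul_zero]
  have h3 := h t h1 h2
  rw [siegel_smul_left e (t • w) c he' h1 h2 (by rw [smul_comm]; exact hw')] at h3
  convert h3 using 2
  exact smul_comm t c w

end OExt

end Setting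

end CfsgLib.OrthField
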