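import Cfsg.Agent.Lib.OrthField.ThreeNoLam

/-!
The stabiliser of the big field is maximal also in dimension three.
-/

set_option autoImplicit false
set_option linter.unusedSectionVars false
set_option linter.style.haveILetI false

namespace CfsgLib.OrthField

open QuadraticMap CfsgLib.Geometry CfsgLib.OrthMax CfsgLib.FieldMax

variable {F L V : Type*} [Field F] [Field L] [Algebra F L] [AddCommGroup V] [Module F V] [Module L V]
  [IsScalarTower F L V]

namespace OExt3

variable {QL : QuadraticForm L V} {ε : Module.Dual F L} {Q : QuadraticForm F V} {M : Subgroup (V ≃ₗ[F] V)}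
variable (hT : OExt3 QL ε Q M) [Finite F] [FiniteDimensional F L] [FiniteDimensional L V]

include hT

theorem pair_of_lam {a : V} {T : L →ₗ[F] L} (ha0 : a ≠ 0) (ha : QL a = 0) (h : Lam QL M a T) (hT0 : T ≠ 0) :
    ∃ g f, Pair QL M g f := by
  obtain ⟨f, u, hF⟩ := hT.exists_frame ha0 ha
  let K : LinearMap.BilinForm F L := LinearMap.mk₂ F (fun x y => ε (y * T x))
    (fun x x' y => by rw [map_add, mul_add, map_add])
    (fun c x y => by rw [map_smul, mul_smul_comm, eps_smul', smul_eq_mul])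
    (fun x y y' => by rw [add_mul, map_add])
    (fun c x y => by rw [smul_mul_assoc, eps_smul', smul_eq_mul])
  have hK : K.IsAlt := fun x => by
    show ε (x * T x) = 0
    have h1 := hT.lam_skew ha0 ha h x x
    rw [← two_mul] at h1
    exact (mul_eq_zero.1 h1).resolve_left hT.two
  have hodd := odd_finrank_ker hK hT.odd
  obtain ⟨t₀, ht₀, ht₀0⟩ := Submodule.exists_mem_ne_zero_of_ne_bot (p := LinearMap.ker K) fun e => by
    rw [e, finrank_bot] at hodd
    exact Nat.not_odd_zero hodd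
  have hTt₀ : T t₀ = 0 := hT.toOExt.eps_ext fun t => by
    rw [mul_zero, map_zero]
    exact LinearMap.congr_fun (LinearMap.mem_ker.1 ht₀) t
  obtain ⟨x, hx, hxv⟩ := h
  have hxf : ∀ t : L, x (t • f) = t • f + T t • a := fun t => by
    rw [hxv, polar_smul_left', hF.fa, mul_one]
  have hf0 : f ≠ 0 := fun e => zero_ne_one (by rw [← hF.af, e, polar_zero_right])
  refine ⟨x, f, hx, hf0, hF.sf, fun e => hT0 (LinearMap.ext fun t => ?_), fun e => ?_⟩
  · obtain ⟨s, hs⟩ := mem_line.1 (e ▸ apply_mem_img x f t)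
    have h1 := congrArg (fun v => polar QL v f) hs
    simp only [hxf, polar_add_left, polar_smul_left', polar_self', hF.sf, hF.af, mul_zero, zero_add, mul_one] at h1
    rw [LinearMap.zero_apply, ← h1]
  · have hm : t₀ • f ∈ meet L x f :=
      ⟨smul_mem_line f t₀, mem_img.2 ⟨t₀, by rw [hxf, hTt₀, zero_smul, add_zero]⟩⟩
    rw [e, Submodule.mem_bot, smul_eq_zero] at hm
    exact hm.elim ht₀0 hf0

/-- An orthogonal vector in the image of some pair. -/
theorem to_hperp3 {g : V ≃ₗ[F] V} {a : V} {T : L →ₗ[F] L} (hp : Pair QL M g a) (hTa : Lam QL M a T) (hT0 : T ≠ 0) :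
    ∃ g', Pair QL M g' a ∧ Module.finrank F (meet L g a) ≤ Module.finrank F (meet L g' a) ∧
      ∃ y ∈ img L g' a, y ∉ line F L a ∧ polar QL y a = 0 := by
  classical
  haveI : FiniteDimensional F V := Module.Finite.trans L V
  haveI : Finite L := Module.finite_of_finite F
  haveI := Fintype.ofFinite F
  by_cases hh : ∃ y ∈ img L g a, y ∉ line F L a ∧ polar QL y a = 0
  · exact ⟨g, hp, le_rfl, hh⟩
  push Not at hh
  set B := img L g a with hBdef
  have ha := hp.sing
  have h2 := hT.toOExt.two'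
  obtain ⟨y₀, hy₀, hy₀A⟩ : ∃ y ∈ B, y ∉ line F L a := by
    by_contra hc
    push Not at hc
    exact hp.ne (Submodule.eq_of_le_of_finrank_eq hc (by rw [finrank_img g hp.ne0, finrank_line hp.ne0]))
  obtain ⟨f, u, hF⟩ := hT.exists_frame hp.ne0 ha
  set η₀ := polar QL y₀ a with hη₀
  have hη₀0 : η₀ ≠ 0 := hh y₀ hy₀ hy₀A
  set d := QL u with hd
  set κ := d * η₀ * η₀ with hκ
  have hκ0 : κ ≠ 0 := mul_ne_zero (mul_ne_zero hF.du hη₀0) hη₀0
  let q : QuadraticForm F L := ε.compQuadraticMap' (κ • QuadraticMap.sq (R := L) (A := L))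
  have hqv : ∀ x, q x = ε (κ * (x * x)) := fun x => rfl
  have hqp : ∀ x y, polar q x y = ε (x * (2 * κ * y)) := fun x y => by
    simp only [QuadraticMap.polar, hqv, ← map_sub]
    congr 1
    ring
  have hqnd : (polarBilin q).Nondegenerate := by
    have key : ∀ x, (∀ y, polar q x y = 0) → x = 0 := fun x hx => hT.toOExt.eps_ext fun t => by
      have h1 := hx (t / (2 * κ))
      rw [hqp, mul_div_cancel₀ _ (mul_ne_zero h2 hκ0), mul_comm] at h1
      rw [h1, mul_zero, map_zero]
    exact ⟨key, fun x hx => key x fun y => by rw [polar_comm]; exact hx y⟩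
  obtain ⟨c, hc0, hqc⟩ := exists_singular hqnd (by have := hT.three_le; omega)
  rw [hqv] at hqc
  have hkerη : ∀ y ∈ B, polar QL y a = 0 → polar QL y u = 0 := fun y hy hya => by
    by_contra hne
    refine hh y hy (fun h => hne ?_) hya
    obtain ⟨t, rfl⟩ := mem_line.1 h
    rw [polar_smul_left', hF.au, mul_zero]
  let η : B →ₗ[F] L :=
    { toFun := fun y => polar QL (y : V) a
      map_add' := fun y y' => by rw [Submodule.coe_add, polar_add_left]
      map_smul' := fun c y => by rw [Submodule.coe_smul, lpolar_smul_left, RingHom.id_apply] }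
  let φ : Module.Dual F B :=
    ε ∘ₗ { toFun := fun y => c * η₀ * polar QL (y : V) u - (c * polar QL y₀ u + c * c * d * η₀) * polar QL (y : V) a
           map_add' := fun y y' => by rw [Submodule.coe_add, polar_add_left, polar_add_left]; ring
           map_smul' := fun k y => by
             simp only [Submodule.coe_smul, lpolar_smul_left, RingHom.id_apply, Algebra.smul_def]; ring }
  obtain ⟨ψ, hψ⟩ : φ ∈ LinearMap.range η.dualMap := by
    rw [LinearMap.range_dualMap_eq_dualAnnihilator_ker, Submodule.mem_dualAnnihilator]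
    intro y hy
    show ε (c * η₀ * polar QL (y : V) u - (c * polar QL y₀ u + c * c * d * η₀) * polar QL (y : V) a) = 0
    rw [show polar QL (y : V) a = 0 from hy, hkerη _ y.2 hy, mul_zero, mul_zero, sub_zero, map_zero]
  obtain ⟨μ, hμ⟩ := exists_form ε hT.eps ψ
  set X := μ 1 with hX
  have hXv : ∀ y ∈ B, ε (X * polar QL y a) =
      ε (c * η₀ * polar QL y u - (c * polar QL y₀ u + c * c * d * η₀) * polar QL y a) := fun y hy => by
    have h1 : ψ (polar QL y a) = φ ⟨y, hy⟩ := LinearMap.congr_fun hψ ⟨y, hy⟩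
    rw [hμ, show μ (polar QL y a) = X * polar QL y a by
      rw [hX, mul_comm, ← smul_eq_mul (polar QL y a), ← map_smul, smul_eq_mul, mul_one]] at h1
    exact h1
  obtain ⟨T', hT', hT'v⟩ := hT.row_surj hp.ne0 ha hTa hT0 hη₀0 (x := -X) (by
    rw [mul_neg, map_neg, neg_eq_zero, mul_comm, hXv y₀ hy₀, ← hη₀,
      show c * η₀ * polar QL y₀ u - (c * polar QL y₀ u + c * c * d * η₀) * η₀ = -(κ * (c * c)) by rw [hκ]; ring,
      map_neg, hqc, neg_zero])
  obtain ⟨l, hl, hlv⟩ := hT'
  obtain ⟨e, he, hev⟩ := hT.exists_isE hF c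
  have hxy : (e * l) y₀ =
      y₀ + (c * η₀) • u - (X + c * polar QL y₀ u + c * c * d * η₀) • a := by
    show e (l y₀) = _
    rw [hlv, ← hη₀, hT'v, hev]
    simp only [polar_add_left, polar_smul_left', polar_self', hF.sa, hF.au, mul_zero, add_zero, ← hη₀, ← hd]
    module
  have hfix : ∀ z ∈ meet L g a, (e * l) z = z := fun z hz => by
    obtain ⟨t, rfl⟩ := mem_line.1 hz.1
    show e (l (t • a)) = _
    rw [hlv, polar_smul_left', polar_self', ha, mul_zero, mul_zero, map_zero, zero_smul, add_zero, hF.isE_fix hev]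
  have hxB : (e * l) y₀ ∉ B := fun h => by
    have h1 := B.sub_mem h hy₀
    rw [hxy, add_sub_assoc, add_sub_cancel_left] at h1
    refine hh _ h1 (fun hA => ?_) (by simp [polar_sub_left, polar_smul_left', polar_self', ha, hF.ua])
    obtain ⟨t, ht⟩ := mem_line.1 hA
    have h3 := congrArg (fun v => polar QL v u) ht
    simp [polar_sub_left, polar_smul_left', polar_self', hF.au, hc0, hη₀0, hF.du, h2, hd] at h3
  obtain ⟨hp', hle⟩ := hT.toOExt.conj_pair hp (mul_mem he hl) hfix hy₀ hxB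
  refine ⟨_, hp', ?_, g.symm ((e * l) y₀), ?_, fun hm => hxB ?_, ?_⟩
  · rw [(Submodule.equivMapOfInjective (g.symm : V →ₗ[F] V) g.symm.injective (meet L g a)).finrank_eq]
    exact Submodule.finrank_mono hle
  · obtain ⟨t, ht⟩ := mem_img.1 hy₀
    refine mem_img.2 ⟨t, ?_⟩
    show g.symm ((e * l) (g (t • a))) = _
    rw [ht]
  · obtain ⟨s, hs⟩ := mem_line.1 hm
    exact mem_img.2 ⟨s, by rw [hs, g.apply_symm_apply]⟩
  · refine hT.toOExt.eps_ext fun t => ?_
    rw [← polar_smul_right', ← hT.toOExt.polarQ, mul_zero, map_zero, ← orth_polar (hT.toOExt.mem_orthQ hp.mem),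
      g.apply_symm_apply, hxy]
    have hy := apply_mem_img (F := F) g a t
    have hiso : polar Q y₀ (g (t • a)) = 0 := by
      obtain ⟨s, hs⟩ := mem_img.1 hy₀
      rw [← hs, orth_polar (hT.toOExt.mem_orthQ hp.mem), hT.toOExt.perpQ]
      rw [polar_smul_left', polar_smul_right', polar_self', ha, mul_zero, mul_zero, mul_zero]
    set y := g (t • a)
    rw [polar_sub_left, polar_add_left, hiso, zero_add, hT.toOExt.polarQ, hT.toOExt.polarQ, polar_smul_left',
      polar_smul_left', polar_comm QL u y, polar_comm QL a y, ← map_sub,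
      show c * η₀ * polar QL y u - (X + c * polar QL y₀ u + c * c * d * η₀) * polar QL y a =
        (c * η₀ * polar QL y u - (c * polar QL y₀ u + c * c * d * η₀) * polar QL y a) - X * polar QL y a by ring,
      map_sub, hXv y hy, sub_self]

/-- A displacement element improves a pair which meets in a point and is not orthogonal. -/
theorem bigger_of_lam {g : V ≃ₗ[F] V} {a y₀ : V} {T : L →ₗ[F] L} (hp : Pair QL M g a) (hTa : Lam QL M a T)
    (hT0 : T ≠ 0) (hy₀ : y₀ ∈ img L g a) (hy₀A : y₀ ∉ line F L a) (hy₀a : polar QL y₀ a = 0)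
    (hk : Module.finrank F (meet L g a) ≤ 1) (hnp : ¬ PerpImg QL g a) :
    ∃ g', Pair QL M g' a ∧ Module.finrank F (meet L g a) < Module.finrank F (meet L g' a) := by
  haveI : FiniteDimensional F V := Module.Finite.trans L V
  obtain ⟨y₁, hy₁, hη⟩ : ∃ y ∈ img L g a, polar QL y a ≠ 0 := by
    by_contra hc
    push Not at hc
    exact hnp hc
  set η := polar QL y₁ a with hηdef
  obtain ⟨z, hz, hz0⟩ := Submodule.exists_mem_ne_zero_of_ne_bot hp.meets
  obtain ⟨σ, rfl⟩ := mem_line.1 hz.1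
  have hσ0 : σ ≠ 0 := fun e => hz0 (by rw [e, zero_smul])
  obtain ⟨τ, hτ, hτσ⟩ : ∃ τ, ε (η * τ) = 0 ∧ τ ∉ F ∙ σ := by
    by_contra hcon
    push Not at hcon
    have h1 := Submodule.finrank_mono (show LinearMap.ker (ε ∘ₗ LinearMap.mulLeft F η) ≤ F ∙ σ from
      fun t ht => hcon t (by simpa using ht))
    have h2 := (ε ∘ₗ LinearMap.mulLeft F η).finrank_range_add_finrank_ker
    have h3 := Submodule.finrank_le (LinearMap.range (ε ∘ₗ LinearMap.mulLeft F η))
    rw [Module.finrank_self] at h3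
    rw [finrank_span_singleton hσ0] at h1
    have := hT.three_le
    omega
  obtain ⟨T', hT', hT'v⟩ := hT.row_surj hp.ne0 hp.sing hTa hT0 hη hτ
  obtain ⟨l, hl, hlv⟩ := hT'
  refine hT.toOExt.bigger hp hl (fun z hz => ?_) hy₀ hy₀A ?_ hy₁ fun h => hτσ ?_
  · obtain ⟨t, rfl⟩ := mem_line.1 hz.1
    rw [hlv, polar_smul_left', polar_self', hp.sing, mul_zero, mul_zero, map_zero, zero_smul, add_zero]
  · rw [hlv, hy₀a, map_zero, zero_smul, add_zero]
    exact hy₀
  · have h1 : τ • a ∈ meet L g a := ⟨smul_mem_line a τ, by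
      have := (img L g a).sub_mem h hy₁
      rwa [hlv, ← hηdef, hT'v, add_sub_cancel_left] at this⟩
    have heq : F ∙ (σ • a) = meet L g a := Submodule.eq_of_le_of_finrank_le
      ((Submodule.span_singleton_le_iff_mem _ _).2 hz) (by rw [finrank_span_singleton hz0]; exact hk)
    obtain ⟨c, hc⟩ := Submodule.mem_span_singleton.1 (heq ▸ h1)
    rw [← smul_assoc] at hc
    exact Submodule.mem_span_singleton.2 ⟨c, smul_left_injective L hp.ne0 hc⟩

theorem exists_touching3 {g₀ : V ≃ₗ[F] V} {a : V} {T : L →ₗ[F] L} (hp₀ : Pair QL M g₀ a) (hTa : Lam QL M a T)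
    (hT0 : T ≠ 0) :
    ∃ g, Pair QL M g a ∧ PerpImg QL g a ∧ Module.finrank F (meet L g a) + 1 = Module.finrank F L := by
  haveI : FiniteDimensional F V := Module.Finite.trans L V
  suffices ∀ n g, Pair QL M g a → Module.finrank F L ≤ Module.finrank F (meet L g a) + n →
      ∃ g', Pair QL M g' a ∧ PerpImg QL g' a ∧ Module.finrank F (meet L g' a) + 1 = Module.finrank F L from
    this _ g₀ hp₀ (Nat.le_add_left _ _)
  intro n
  induction n with
  | zero =>
    intro g hp hle
    have := hT.toOExt.meet_lt hp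
    omega
  | succ n ih =>
    intro g hp hle
    obtain ⟨g', hp', hle', y, hy, hyA, hya⟩ := hT.to_hperp3 hp hTa hT0
    rcases hT.hperp_step3 hp' hy hyA hya with h | ⟨g'', hp'', hlt⟩ | ⟨-, hk1, hnp⟩
    · exact ⟨g', hp', h⟩
    · exact ih g'' hp'' (by omega)
    · obtain ⟨g'', hp'', hlt⟩ := hT.bigger_of_lam hp' hTa hT0 hy hyA hya hk1 hnp
      exact ih g'' hp'' (by omega)

/-- A root element joins two vectors of the line. -/
theorem root_in_line3 {g : V ≃ₗ[F] V} {a : V} {T : L →ₗ[F] L} (hp : Pair QL M g a) (hperp : PerpImg QL g a)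
    (hk : Module.finrank F (meet L g a) + 1 = Module.finrank F L) (hTa : Lam QL M a T) (hT0 : T ≠ 0) :
    ∃ s t : L, s ≠ 0 ∧ (∀ c : F, t ≠ c • s) ∧ RootIn Q M (s • a) (t • a) := by
  haveI : FiniteDimensional F V := Module.Finite.trans L V
  have ha := hp.sing
  obtain ⟨z, hz, hz0⟩ := Submodule.exists_mem_ne_zero_of_ne_bot hp.meets
  obtain ⟨σ, rfl⟩ := mem_line.1 hz.1
  have hσ0 : σ ≠ 0 := fun e => hz0 (by rw [e, zero_smul])
  obtain ⟨c, η, d, hc, hη, hησ, hcB, -, -, hca, -⟩ := hT.toOExt.exists_shift hp hperp hk hz.2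
  have hcσ : c (σ • a) = σ • a := hcB _ hz.2
  obtain ⟨τ, hτ, hτσ⟩ : ∃ τ, ε (η * τ) = 0 ∧ τ ∉ F ∙ σ := by
    by_contra hcon
    push Not at hcon
    have h1 := Submodule.finrank_mono (show LinearMap.ker (ε ∘ₗ LinearMap.mulLeft F η) ≤ F ∙ σ from
      fun t ht => hcon t (by simpa using ht))
    have h2 := (ε ∘ₗ LinearMap.mulLeft F η).finrank_range_add_finrank_ker
    have h3 := Submodule.finrank_le (LinearMap.range (ε ∘ₗ LinearMap.mulLeft F η))
    rw [Module.finrank_self] at h3
    rw [finrank_span_singleton hσ0] at h1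
    have := hT.three_le
    omega
  refine ⟨σ, τ, hσ0, fun f e => hτσ (e ▸ Submodule.smul_mem _ f (Submodule.mem_span_singleton_self σ)), ?_⟩
  intro k h1 h2
  set τ' := k • τ with hτ'
  obtain ⟨T', hT', hT'v⟩ := hT.row_surj hp.ne0 ha hTa hT0 hη (x := τ')
    (by rw [hτ', mul_smul_comm, eps_smul', hτ, mul_zero])
  have hsk := fun x => hT.lam_skew hp.ne0 ha hT' η x
  obtain ⟨l, hl, hlv⟩ := hT'
  have hτa : k • τ • a = τ' • a := by rw [hτ', smul_assoc]
  have key : c * l = siegel Q (σ • a) (k • τ • a) h1 h2 * l * c := by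
    refine LinearEquiv.ext fun z => ?_
    simp only [LinearEquiv.mul_apply]
    set w := T' (polar QL z a) with hw
    have e1 : c (l z) = c z + w • a + ε (η * w) • σ • a := by
      rw [hlv, map_add, hca, add_assoc]
    have hβ : polar QL (c z) a = polar QL z a - ε (σ * polar QL z a) • η := hT.toOExt.eps_ext fun t => by
      have e : t • a = c (t • a - ε (η * t) • σ • a) := by rw [map_sub, hca, map_smul c, hcσ, add_sub_cancel_right]
      rw [← polar_smul_right', ← hT.toOExt.polarQ]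
      conv_lhs => rw [e, orth_polar (hT.toOExt.mem_orthQ hc)]
      rw [polar_sub_right, polar_smul_right' _ (ε (η * t)), hT.toOExt.polarQ, hT.toOExt.polarQ, polar_smul_right',
        polar_smul_right', mul_sub, map_sub, mul_smul_comm, eps_smul', mul_comm t η]
      ring
    have hT'β : T' (polar QL (c z) a) = w - ε (σ * polar QL z a) • τ' := by
      rw [hβ, map_sub, map_smul, hT'v]
    have hla : polar QL (l (c z)) a = polar QL (c z) a := by
      rw [hlv, polar_add_left, polar_smul_left', polar_self', ha, mul_zero, mul_zero, add_zero]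
    have hQτ : Q (τ' • a) = 0 := hT.toOExt.singQ (by rw [map_smul', ha, mul_zero])
    have hs1 : polar Q (l (c z)) (σ • a) = ε (σ * polar QL z a) := by
      rw [hT.toOExt.polarQ, polar_smul_right', hla, hβ, mul_sub, map_sub, mul_smul_comm, eps_smul', mul_comm σ η, hησ,
        mul_zero, sub_zero]
    have hs2 : polar Q (l (c z)) (τ' • a) = -ε (η * w) := by
      rw [hT.toOExt.polarQ, polar_smul_right', hla, hβ, mul_sub, map_sub, mul_smul_comm, eps_smul', mul_comm τ' η,
        hτ', mul_smul_comm, eps_smul', hτ, mul_zero, mul_zero, sub_zero]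
      have := hsk (polar QL z a)
      rw [hT'v] at this
      linear_combination this + congrArg ε (show k • τ * polar QL z a = polar QL z a * τ' by rw [hτ', mul_comm])
    rw [e1, siegel_apply]
    simp only [hτa]
    rw [hs1, hs2, hQτ, hlv (c z), hT'β, sub_smul, smul_assoc]
    module
  rw [show siegel Q (σ • a) (k • τ • a) h1 h2 = c * l * c⁻¹ * l⁻¹ by rw [key]; group]
  exact mul_mem (mul_mem (mul_mem hc hl) (inv_mem hc)) (inv_mem hl)

theorem stab_max3 {u : V ≃ₗ[F] V} (hu : u ∈ M) (hn : ¬ ∀ s : L, ∃ t : L, ∀ v : V, u (t • v) = s • u v) :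
    siegelGroup Q ≤ M := by
  classical
  haveI : FiniteDimensional F V := Module.Finite.trans L V
  obtain ⟨s, u₀, hu₀0, hu₀, hs⟩ : ∃ s : L, ∃ u₀, u₀ ≠ 0 ∧ QL u₀ = 0 ∧ s • u u₀ ∉ img L u u₀ := by
    by_contra hcon
    push Not at hcon
    refine hn fun s => ?_
    let T : V →ₗ[F] V := (u.symm : V →ₗ[F] V) ∘ₗ ((s • LinearMap.id : V →ₗ[L] V).restrictScalars F) ∘ₗ (u : V →ₗ[F] V)
    obtain ⟨t, ht⟩ := hT.toOExt.scalar_of_lines (T := T) fun v hv0 hv => by
      obtain ⟨t, ht⟩ := mem_img.1 (hcon s v hv0 hv)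
      exact ⟨t, u.injective (by rw [ht]; simp [T])⟩
    exact ⟨t, fun v => by rw [← ht v]; simp [T]⟩
  have hI : Img QL M u u₀ := ⟨hu, hu₀0, hu₀, fun y hy e => hs (by
    have : u u₀ ∈ line F L y := e ▸ (by simpa using apply_mem_img u u₀ (1 : L))
    obtain ⟨r, hr⟩ := mem_line.1 this
    rw [e, ← hr, smul_smul]; exact smul_mem_line y _)⟩
  have hex := hT.exists_lam hI
  simp only [NoLam, not_forall] at hex
  obtain ⟨a₀, T₀, ha₀0, ha₀, hTa₀, hT₀⟩ := hex
  obtain ⟨g₀, a, hp₀⟩ := hT.pair_of_lam ha₀0 ha₀ hTa₀ hT₀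
  obtain ⟨T, hTa, hT0⟩ := hT.lam_transfer ha₀0 ha₀ hp₀.ne0 hp₀.sing hTa₀ hT₀
  obtain ⟨g, hp, hperp, hk⟩ := hT.exists_touching3 hp₀ hTa hT0
  obtain ⟨s, t, hs, hst, hroot⟩ := hT.root_in_line3 hp hperp hk hTa hT0
  have h3 : 3 ≤ Module.finrank F L := by have := hT.three_le; omega
  obtain ⟨a', f, ν, ha'0, ha', hf, haf, hν, hεν, h'⟩ := hT.toOExt.mix hp.ne0 hp.sing hs hst hroot h3 (Or.inr hT.odd)
  exact hT.toOExt.le_of_spread ha'0 ha' (hT.toOExt.spread_of_mixed ha' hf haf hν hεν h') (Or.inr hT.odd)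

end OExt3

end CfsgLib.OrthField
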