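import Cfsg.Agent.Lib.OrthField.Four
import Cfsg.Agent.Lib.OrthField.ThreeMain
import Cfsg.Agent.Lib.AschbacherOrth.Proper
import Cfsg.Agent.Lib.FieldMax.Main

/-!
Maximality of self-adjoint extension-field normalisers in the orthogonal groups.
-/

set_option autoImplicit false
set_option linter.unusedSectionVars false
set_option linter.style.haveILetI false

namespace CfsgLib.OrthField

open QuadraticMap CfsgLib.Geometry CfsgLib.FieldMax
open scoped Matrix
open Cfsg Cfsg.Geo

universe u

variable {F : Type u} [Field F] [Fintype F] {ι : Type} [Fintype ι] [DecidableEq ι]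

/-- The quadratic form over a self-adjoint field of matrices. -/
theorem exists_quad [Nonempty ι] {Q : QuadraticForm F (ι → F)} (h2 : (2 : F) ≠ 0) {r : ℕ}
    {K : Subalgebra F (Matrix ι ι F)} (hr : 0 < r) (hK : IsFieldSubalgebra r K) (hsa : IsSelfAdjointFor (polar ⇑Q) K) :
    ∃ (L : Type u) (_ : Field L) (_ : Algebra F L) (ρ : L →ₐ[F] Matrix ι ι F) (_ : Module L (ι → F))
      (_ : IsScalarTower F L (ι → F)) (QL : QuadraticForm L (ι → F)) (ε : Module.Dual F L),
      Module.finrank F L = r ∧ ρ.range = K ∧ (∀ (x : L) (v : ι → F), x • v = ρ x *ᵥ v) ∧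
      (∀ v, Q v = ε (QL v)) ∧ ε ≠ 0 ∧ ∀ u v : ι → F, (∀ x : L, polar Q (x • u) v = 0) → polar QL u v = 0 := by
  classical
  obtain ⟨L, iL, aL, ρ, hfin, hρ⟩ := exists_field_model hK
  letI : Module L (ι → F) := Module.compHom (ι → F)
    ((Matrix.toLinAlgEquiv' (R := F) (n := ι)).toAlgHom.toRingHom.comp ρ.toRingHom)
  have hsmul : ∀ (x : L) (v : ι → F), x • v = ρ x *ᵥ v := fun _ _ => rfl
  haveI : IsScalarTower F L (ι → F) := ⟨fun a x v => by
    rw [hsmul, hsmul, map_smul]
    exact Matrix.smul_mulVec a (ρ x) v⟩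
  haveI : FiniteDimensional F L := Module.finite_of_finrank_pos (by rw [hfin]; exact hr)
  obtain ⟨ε, hε⟩ : ∃ ε : Module.Dual F L, ε ≠ 0 := exists_ne 0
  have hex : ∀ u v : ι → F, ∃ x : L, ∀ c : L, ε (c * x) = polar Q (c • u) v := by
    intro u v
    let φ : Module.Dual F L :=
      { toFun := fun c => polar Q (c • u) v
        map_add' := fun c d => by rw [add_smul, polar_add_left]
        map_smul' := fun a c => by rw [smul_assoc, polar_smul_left']; rfl }
    obtain ⟨μ, hμ⟩ := exists_form ε hε φ (L := L) (V := L)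
    refine ⟨μ 1, fun c => ?_⟩
    rw [← smul_eq_mul, ← map_smul, smul_eq_mul, mul_one, ← hμ]
    rfl
  choose b hb using hex
  have huniq : ∀ {x y : L}, (∀ c, ε (c * x) = ε (c * y)) → x = y := fun {x y} h => by
    by_contra hne
    refine hε (LinearMap.ext fun z => ?_)
    have := h (z / (x - y))
    rw [← sub_eq_zero, ← map_sub, ← mul_sub, div_mul_cancel₀ _ (sub_ne_zero.2 hne)] at this
    exact this
  have hadj : ∀ (c : L) u v, polar Q (c • u) v = polar Q u (c • v) := fun c u v => hsa _ (hρ ▸ ⟨c, rfl⟩) u v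
  let β : LinearMap.BilinForm L (ι → F) := LinearMap.mk₂ L b
    (fun u u' v => huniq fun c => by rw [mul_add, map_add, hb, hb, hb, smul_add, polar_add_left])
    (fun t u v => huniq fun c => by rw [hb, smul_eq_mul, ← mul_assoc, hb, mul_smul])
    (fun u v v' => huniq fun c => by rw [mul_add, map_add, hb, hb, hb, polar_add_right])
    (fun t u v => huniq fun c => by rw [hb, smul_eq_mul, ← mul_assoc, hb, mul_comm c, mul_smul, hadj t])
  have hβc : ∀ u v, β u v = β v u := fun u v => huniq fun c => by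
    show ε (c * b u v) = ε (c * b v u)
    rw [hb, hb, hadj, polar_comm]
  have h2L : (2 : L) ≠ 0 := fun h => h2 ((algebraMap F L).injective (by rw [map_ofNat, map_zero, h]))
  refine ⟨L, iL, aL, ρ, inferInstance, inferInstance, (2 : L)⁻¹ • LinearMap.BilinMap.toQuadraticMap β, ε, hfin, hρ,
    hsmul, fun v => ?_, hε, fun u v h => ?_⟩
  · show Q v = ε ((2 : L)⁻¹ * b v v)
    have h1 := hb v v 1
    rw [one_mul, one_smul, polar_self'] at h1
    rw [show (2 : L)⁻¹ * b v v = (2 : F)⁻¹ • b v v by rw [Algebra.smul_def, map_inv₀, map_ofNat], eps_smul', h1,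
      inv_mul_cancel_left₀ h2]
  · have hp : polar (⇑((2 : L)⁻¹ • LinearMap.BilinMap.toQuadraticMap β)) u v = β u v := by
      refine mul_left_cancel₀ h2L ?_
      simp only [polar, QuadraticMap.smul_apply, LinearMap.BilinMap.toQuadraticMap_apply, map_add,
        LinearMap.add_apply, hβc v u, smul_eq_mul]
      field_simp
      ring
    rw [hp]
    refine huniq fun c => ?_
    show ε (c * b u v) = ε (c * 0)
    rw [hb, h, mul_zero, map_zero]

/-- The normaliser of a self-adjoint field is maximal in the orthogonal group. -/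
theorem orth_field_maximal_core {Q : QuadraticForm F (ι → F)} (hQ : (polarBilin Q).Nondegenerate) (h2 : (2 : F) ≠ 0)
    {r : ℕ} (hr : r.Prime) {K : Subalgebra F (Matrix ι ι F)} (hK : IsFieldSubalgebra r K)
    (hsa : IsSelfAdjointFor (polar ⇑Q) K) (h3 : 3 * r ≤ Fintype.card ι)
    (hd : (4 * r ≤ Fintype.card ι ∧ (3 ≤ r ∨ 5 * r ≤ Fintype.card ι) ∨ 3 ≤ r) ∨
      (r = 2 ∧ Fintype.card ι = 8 ∧ ∀ U : Submodule F (ι → F), (∀ u ∈ U, Q u = 0) → Module.finrank F U ≠ 4)) :
    IsMaximalIn (omegaGL ⇑Q) (subalgebraNormalizer K ⊓ omegaGL ⇑Q) := by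
  classical
  have h5 : 5 ≤ Fintype.card ι := by have := hr.two_le; omega
  haveI : Nonempty ι := Fintype.card_pos_iff.1 (by omega)
  obtain ⟨L, iL, aL, ρ, iM, iT, QL, ε, hfin, hρ, hsmul, hform, hε, hnd⟩ := exists_quad h2 hr.pos hK hsa
  haveI : FiniteDimensional F L := Module.finite_of_finrank_pos (by rw [hfin]; exact hr.pos)
  haveI : Finite L := Module.finite_of_finite F
  haveI : FiniteDimensional L (ι → F) := Module.Finite.of_restrictScalars_finite F L (ι → F)
  have hρmem : ∀ x, ρ x ∈ K := fun x => hρ ▸ ⟨x, rfl⟩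
  have hρK : ∀ k ∈ K, ∃ x, ρ x = k := fun k hk => by rw [← hρ] at hk; exact hk
  have hdim : r * Module.finrank L (ι → F) = Fintype.card ι := by
    rw [← hfin, Module.finrank_mul_finrank, Module.finrank_fintype_fun_eq_card]
  have hdim3 : 3 ≤ Module.finrank L (ι → F) := Nat.le_of_mul_le_mul_left (by rw [hdim, mul_comm]; exact h3) hr.pos
  have hndL : (polarBilin QL).Nondegenerate := by
    have key : ∀ u, (∀ v, polar QL u v = 0) → u = 0 := fun u hu => hQ.1 u fun v => by
      show polar Q u v = 0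
      simp only [QuadraticMap.polar, hform, ← map_sub]
      rw [show QL (u + v) - QL u - QL v = polar QL u v from rfl, hu, map_zero]
    exact ⟨key, fun u hu => key u fun v => by rw [polar_comm]; exact hu v⟩
  have hC := fun g => OrthMax.mem_commutator_iff_siegelGroup hQ
    (by rw [Module.finrank_fintype_fun_eq_card]; exact h5) (Q := Q) g
  refine ⟨lt_of_le_of_ne inf_le_right fun h => CfsgLib.AschbacherOrth.not_field hQ h5 hr.two_le hK (inf_eq_right.1 h),
    fun M hHM hMK => ?_⟩
  set N := (M.comap (orthToGL Q) ⊓ commutator (orth Q)).map (orth Q).subtype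
  have hNle : N ≤ siegelGroup Q := by
    rintro _ ⟨g, hg, rfl⟩; exact (hC g).1 hg.2
  have hmul : ∀ (g : orth Q) v, (orthToGL Q g : Matrix ι ι F) *ᵥ v = (g : (ι → F) ≃ₗ[F] (ι → F)) v :=
    orthToGL_mulVec Q
  have hlin : ∀ g ∈ siegelGroup Q, (∀ (l : L) (v : ι → F), g (l • v) = l • g v) → g ∈ N := fun g hg hgl => by
    refine ⟨⟨g, siegelGroup_le_orth hg⟩, ⟨hHM ⟨mem_normalizer_of_commute fun k hk => ?_, ?_⟩, (hC _).2 hg⟩, rfl⟩
    · obtain ⟨x, rfl⟩ := hρK k hk
      refine Matrix.ext_of_mulVec_single fun i => ?_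
      rw [← Matrix.mulVec_mulVec, ← Matrix.mulVec_mulVec, hmul, hmul, ← hsmul, ← hsmul]
      exact hgl _ _
    · rw [omegaGL_eq_map]
      exact Subgroup.mem_map_of_mem _ ((hC _).2 hg)
  have hS : OExt QL ε Q N := ⟨hndL, hform, hε, hfin ▸ hr, h2, hNle, hlin, hdim3⟩
  by_cases hmv : ∃ g ∈ N, ¬ ∀ s : L, ∃ t : L, ∀ v, g (t • v) = s • g v
  · obtain ⟨g, hg, hgn⟩ := hmv
    refine Or.inr (le_antisymm hMK ?_)
    rw [omegaGL_eq_map]
    rintro _ ⟨h, hh, rfl⟩
    have hle : siegelGroup Q ≤ N := by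
      rcases hd with hd | ⟨rfl, h8, hno⟩
      swap
      · have h4 : Module.finrank L (ι → F) = 4 := by omega
        refine hS.stab_max_four hg hgn hfin h4 fun a e ha0 ha hae he => by_contra fun hea => ?_
        have hli : LinearIndependent L ![a, e] := LinearIndependent.pair_iff.2 fun p q hpq => by
          by_cases hq : q = 0
          · rw [hq, zero_smul, add_zero] at hpq
            exact ⟨(smul_eq_zero.1 hpq).resolve_right ha0, hq⟩
          · refine absurd (Submodule.mem_span_singleton.2 ⟨-(p / q), ?_⟩) hea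
            have h1 : q • e = -(p • a) := eq_neg_of_add_eq_zero_right hpq
            rw [neg_smul, div_eq_inv_mul, mul_smul, ← smul_neg, ← h1, inv_smul_smul₀ hq]
        have h2' := finrank_span_eq_card hli
        rw [Matrix.range_cons_cons_empty, Fintype.card_fin] at h2'
        refine hno ((Submodule.span L ({a, e} : Set (ι → F))).restrictScalars F) (fun u hu => ?_) ?_
        · obtain ⟨p, q, rfl⟩ := Submodule.mem_span_pair.1 hu
          rw [hform, CfsgLib.Geometry.map_add', map_smul', map_smul', polar_smul_left', polar_smul_right', ha, he, hae]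
          simp
        · calc Module.finrank F ((Submodule.span L ({a, e} : Set (ι → F))).restrictScalars F)
              = 2 * Module.finrank L (Submodule.span L ({a, e} : Set (ι → F))) := by
                rw [← hfin, Module.finrank_mul_finrank F L]; rfl
            _ = 4 := by rw [h2']
      rcases eq_or_lt_of_le hdim3 with h | h
      · have h3r : 3 ≤ r := by
          rcases hd with ⟨hd, -⟩ | hd
          · rw [← hdim, ← h] at hd; have := hr.pos; omega
          · exact hd
        exact OExt3.stab_max3 ⟨hS, h.symm, hfin ▸ h3r⟩ hg hgn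
      · refine hS.stab_max hg hgn h ?_
        rcases hd with ⟨-, hd | hd⟩ | hd
        · exact Or.inl (hfin ▸ hd)
        · exact Or.inr (Nat.le_of_mul_le_mul_left (by rw [hdim, mul_comm]; exact hd) hr.pos)
        · exact Or.inl (by omega)
    obtain ⟨h', hh', he⟩ := hle ((hC h).1 hh)
    rw [← Subtype.ext he]
    exact hh'.1
  · push Not at hmv
    refine Or.inl (le_antisymm (fun m hm => ?_) hHM)
    have hm' := hMK hm
    rw [omegaGL_eq_map] at hm'
    obtain ⟨g, hg, rfl⟩ := hm'
    refine ⟨mem_normalizer_of_le fun k hk => ?_, by rw [omegaGL_eq_map]; exact Subgroup.mem_map_of_mem _ hg⟩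
    obtain ⟨x, rfl⟩ := hρK k hk
    choose τ hτ using hmv (g : (ι → F) ≃ₗ[F] (ι → F)) ⟨g, ⟨hm, hg⟩, rfl⟩
    have hinj : Function.Injective τ := fun s s' h => by
      obtain ⟨v, hv⟩ := exists_ne (0 : ι → F)
      have hgv : (g : (ι → F) ≃ₗ[F] (ι → F)) v ≠ 0 := fun e => hv (LinearEquiv.map_eq_zero_iff _ |>.1 e)
      exact smul_left_injective L hgv (by simp only; rw [← hτ, ← hτ, h])
    obtain ⟨s, rfl⟩ := Finite.injective_iff_surjective.1 hinj x
    have e : (orthToGL Q g : Matrix ι ι F) * ρ (τ s) = ρ s * (orthToGL Q g : Matrix ι ι F) :=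
      Matrix.ext_of_mulVec_single fun i => by
        rw [← Matrix.mulVec_mulVec, ← Matrix.mulVec_mulVec, ← hsmul, ← hsmul, hmul, hmul]
        exact hτ s _
    rw [e, mul_assoc, ← Units.val_mul, mul_inv_cancel, Units.val_one, mul_one]
    exact hρmem s

/-- The normaliser of a self-adjoint field is maximal in the orthogonal group, in large dimension. -/
theorem orth_field_maximal {Q : QuadraticForm F (ι → F)} (hQ : (polarBilin Q).Nondegenerate) (h2 : (2 : F) ≠ 0)
    {r : ℕ} (hr : r.Prime) {K : Subalgebra F (Matrix ι ι F)} (hK : IsFieldSubalgebra r K)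
    (hsa : IsSelfAdjointFor (polar ⇑Q) K) (h3 : 3 * r ≤ Fintype.card ι)
    (hd : 4 * r ≤ Fintype.card ι ∧ (3 ≤ r ∨ 5 * r ≤ Fintype.card ι) ∨ 5 ≤ r) :
    IsMaximalIn (omegaGL ⇑Q) (subalgebraNormalizer K ⊓ omegaGL ⇑Q) :=
  orth_field_maximal_core hQ h2 hr hK hsa h3 (Or.inl (hd.imp_right fun h => by omega))

/-- The normaliser of a self-adjoint field of odd prime degree is maximal. -/
theorem orth_field_maximal_odd {Q : QuadraticForm F (ι → F)} (hQ : (polarBilin Q).Nondegenerate) (h2 : (2 : F) ≠ 0)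
    {r : ℕ} (hr : r.Prime) (hr3 : 3 ≤ r) {K : Subalgebra F (Matrix ι ι F)} (hK : IsFieldSubalgebra r K)
    (hsa : IsSelfAdjointFor (polar ⇑Q) K) (h3 : 3 * r ≤ Fintype.card ι) :
    IsMaximalIn (omegaGL ⇑Q) (subalgebraNormalizer K ⊓ omegaGL ⇑Q) :=
  orth_field_maximal_core hQ h2 hr hK hsa h3 (Or.inl (Or.inr hr3))

end CfsgLib.OrthField
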