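import Cfsg.Agent.Lib.OrthField.Full

/-!
The quadratic extension in dimension four of minus type.
-/

set_option autoImplicit false
set_option linter.unusedSectionVars false
set_option linter.style.haveILetI false

namespace CfsgLib.OrthField

open QuadraticMap CfsgLib.Geometry CfsgLib.OrthMax CfsgLib.FieldMax

variable {F L V : Type*} [Field F] [Field L] [Algebra F L] [AddCommGroup V] [Module F V] [Module L V]
  [IsScalarTower F L V]

/-- Some parameter gives a ratio whose square lies outside the small field. -/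
theorem exists_ratio [Finite F] [FiniteDimensional F L] (hr : Module.finrank F L = 2) (h2 : (2 : L) ≠ 0) {δ : L}
    (hδ : δ ≠ 0) (hns : ∀ z : L, δ + z * z ≠ 0) :
    ∃ z : L, z ≠ 0 ∧ ∀ f : F, (δ - z * z) / (δ + z * z) * ((δ - z * z) / (δ + z * z)) ≠ algebraMap F L f := by
  classical
  haveI : Finite L := Module.finite_of_finite F
  haveI := Fintype.ofFinite F
  haveI := Fintype.ofFinite L
  by_contra hcon
  push Not at hcon
  have hQ : Fintype.card L = Fintype.card F ^ 2 := by rw [← hr]; exact Module.card_eq_pow_finrank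
  have h3 : 3 ≤ Fintype.card F := by
    by_contra hlt
    have h1 := Fintype.one_lt_card (α := F)
    have hc : Fintype.card F = 2 := by omega
    have := FiniteField.cast_card_eq_zero F
    rw [hc] at this
    exact h2 (by rw [← map_ofNat (algebraMap F L) 2]; simpa using congrArg (algebraMap F L) this)
  set R : L → L := fun z => (δ - z * z) / (δ + z * z) with hR
  let T : Finset L := Finset.univ.filter fun r => r ^ (2 * (Fintype.card F - 1)) = 1
  have hT : T.card ≤ 2 * (Fintype.card F - 1) := by
    refine le_trans ?_ (Polynomial.card_nthRoots (2 * (Fintype.card F - 1)) (1 : L))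
    refine le_trans (Finset.card_le_card (t := (Polynomial.nthRoots (2 * (Fintype.card F - 1)) (1 : L)).toFinset)
      fun r hr => ?_) (Multiset.toFinset_card_le _)
    rw [Multiset.mem_toFinset, Polynomial.mem_nthRoots (by omega)]
    exact (Finset.mem_filter.1 hr).2
  let S : Finset L := ((insert (0 : L) T).erase 1).erase (-1)
  have hne : (-1 : L) ≠ 1 := fun e => h2 (by linear_combination -e)
  have hT1 : (1 : L) ∈ T := Finset.mem_filter.2 ⟨Finset.mem_univ _, one_pow _⟩
  have hTm : (-1 : L) ∈ T := Finset.mem_filter.2 ⟨Finset.mem_univ _, by rw [pow_mul, neg_one_sq, one_pow]⟩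
  have hS : S.card + 2 ≤ T.card + 1 := by
    have a := Finset.card_insert_le (0 : L) T
    have b := Finset.card_erase_add_one (Finset.mem_insert_of_mem hT1 : (1 : L) ∈ insert (0 : L) T)
    have c := Finset.card_erase_add_one (Finset.mem_erase.2 ⟨hne, Finset.mem_insert_of_mem hTm⟩ :
      (-1 : L) ∈ (insert (0 : L) T).erase 1)
    show (((insert (0 : L) T).erase 1).erase (-1)).card + 2 ≤ T.card + 1
    omega
  have hmem : ∀ z ∈ (Finset.univ : Finset L).erase 0, R z ∈ S := fun z hz => by
    have hz0 := (Finset.mem_erase.1 hz).1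
    refine Finset.mem_erase.2 ⟨fun e => hδ ?_, Finset.mem_erase.2 ⟨fun e => hz0 ?_, ?_⟩⟩
    · rw [hR] at e
      simp only at e
      rw [div_eq_iff (hns z)] at e
      exact (mul_eq_zero.1 (show (2 : L) * δ = 0 by linear_combination e)).resolve_left h2
    · rw [hR] at e
      simp only at e
      rw [div_eq_iff (hns z)] at e
      exact mul_self_eq_zero.1 ((mul_eq_zero.1 (show (2 : L) * (z * z) = 0 by linear_combination -e)).resolve_left h2)
    · obtain ⟨f, hf⟩ := hcon z hz0
      by_cases hR0 : R z = 0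
      · rw [hR0]; exact Finset.mem_insert_self _ _
      refine Finset.mem_insert_of_mem (Finset.mem_filter.2 ⟨Finset.mem_univ _, ?_⟩)
      have hf0 : f ≠ 0 := fun e => by
        rw [e, map_zero, mul_self_eq_zero] at hf
        exact hR0 hf
      rw [pow_mul, pow_two, hf, ← map_pow, FiniteField.pow_card_sub_one_eq_one f hf0, map_one]
  have hfib : ∀ r ∈ S, (((Finset.univ : Finset L).erase 0).filter fun z => R z = r).card ≤ 2 := fun r _ => by
    by_cases hex : ∃ z₁, z₁ ∈ ((Finset.univ : Finset L).erase 0).filter fun z => R z = r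
    swap
    · push Not at hex
      rw [Finset.eq_empty_of_forall_notMem hex]
      simp
    obtain ⟨z₁, hz₁⟩ := hex
    refine le_trans (Finset.card_le_card (t := {z₁, -z₁}) fun z hz => ?_) Finset.card_le_two
    have e : R z = R z₁ := ((Finset.mem_filter.1 hz).2).trans (Finset.mem_filter.1 hz₁).2.symm
    rw [hR] at e
    simp only at e
    rw [div_eq_div_iff (hns z) (hns z₁)] at e
    have e' : z * z = z₁ * z₁ := mul_left_cancel₀ (mul_ne_zero h2 hδ) (by linear_combination -e)
    rcases mul_self_eq_mul_self_iff.1 e' with h | h <;> simp [h]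
  have hcount : ((Finset.univ : Finset L).erase 0).card ≤ 2 * S.card :=
    Finset.card_le_mul_card_image_of_maps_to hmem 2 hfib
  rw [Finset.card_erase_of_mem (Finset.mem_univ _), Finset.card_univ, hQ] at hcount
  have h4 : (Fintype.card F - 1) * 4 ≤ Fintype.card F * Fintype.card F := by
    obtain ⟨k, hk⟩ := Nat.exists_eq_add_of_le h3
    rw [hk]
    have : 3 + k - 1 = 2 + k := by omega
    rw [this]
    nlinarith
  rw [pow_two] at hcount
  omega

namespace OExt

variable {QL : QuadraticForm L V} {ε : Module.Dual F L} {Q : QuadraticForm F V} {M : Subgroup (V ≃ₗ[F] V)}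
variable (hS : OExt QL ε Q M) [Finite F] [FiniteDimensional F L] [FiniteDimensional L V]

include hS

/-- Spreading in a space of dimension four without singular lines. -/
theorem spread_four {a b : V} (ha0 : a ≠ 0) (ha : QL a = 0) (hab : polar QL a b = 0) (hb : b ∉ L ∙ a)
    (hR : RootIn Q M a b) (hA : ∀ t : L, RootIn Q M a (t • a)) (hr : Module.finrank F L = 2)
    (h4 : Module.finrank L V = 4) (hno : ∀ e, polar QL a e = 0 → QL e = 0 → e ∈ L ∙ a) : SpreadAt QL Q M a := by
  haveI : FiniteDimensional F V := Module.Finite.trans L V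
  haveI : Finite L := Module.finite_of_finite F
  classical
  have h2L := hS.two'
  have hQa := hS.singQ ha
  obtain ⟨f, hf, haf⟩ := exists_pair hS.nd ha0 ha
  have hfa : polar QL f a = 1 := by rw [polar_comm]; exact haf
  have haf0 : polar QL a f ≠ 0 := by rw [haf]; exact one_ne_zero
  have hU := ndOn_pair ha haf0
  have haU : a ∈ Submodule.span L ({a, f} : Set V) := Submodule.subset_span (by simp)
  have hfU : f ∈ Submodule.span L ({a, f} : Set V) := Submodule.subset_span (by simp)
  set E := polarPerp QL (Submodule.span L ({a, f} : Set V)) with hE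
  have hEa : ∀ e ∈ E, polar QL a e = 0 := fun e he => mem_polarPerp.1 he a haU
  have hEf : ∀ e ∈ E, polar QL f e = 0 := fun e he => mem_polarPerp.1 he f hfU
  have hanis : ∀ e ∈ E, QL e = 0 → e = 0 := fun e he h0 => by
    obtain ⟨r, hr'⟩ := Submodule.mem_span_singleton.1 (hno e (hEa e he) h0)
    have := hEf e he
    rw [← hr', polar_smul_right', hfa, mul_one] at this
    rw [← hr', this, zero_smul]
  have haQ : ∀ x, polar QL a x = 0 → polar Q a x = 0 := fun x hx => hS.perpQ hx
  have hmemE : ∀ x, polar QL a x = 0 → x - polar QL x f • a ∈ E := fun x hx => mem_polarPerp.2 fun u hu => by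
    obtain ⟨p, q, rfl⟩ := Submodule.mem_span_pair.1 hu
    simp [polar_add_left, polar_smul_left', polar_sub_right, polar_smul_right', hx, polar_self', ha, hfa,
      polar_comm QL f x]
    ring
  -- the root vectors in the perp of the pair
  let X : Submodule F V :=
    { carrier := {x | x ∈ E ∧ RootIn Q M a x}
      zero_mem' := ⟨zero_mem _, fun t => by rw [smul_zero]; exact SiegIn.zero a⟩
      add_mem' := fun {x y} hx hy => ⟨add_mem hx.1 hy.1,
        hx.2.add hy.2 hQa (haQ _ (hEa x hx.1)) (haQ _ (hEa y hy.1))⟩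
      smul_mem' := fun c x hx => ⟨(E.restrictScalars F).smul_mem c hx.1, hx.2.smul c⟩ }
  set b' := b - polar QL b f • a
  have hb'E : b' ∈ E := hmemE b hab
  have hb'0 : b' ≠ 0 := fun e => hb (Submodule.mem_span_singleton.2 ⟨polar QL b f, (sub_eq_zero.1 e).symm⟩)
  have hb'X : b' ∈ X := ⟨hb'E, by
    have := hR.add ((hA (polar QL b f)).smul (-1)) hQa (haQ b hab)
      (by rw [polar_smul_right', haQ _ (by rw [polar_smul_right', polar_self', ha, mul_zero, mul_zero]), mul_zero])
    rwa [neg_one_smul, ← sub_eq_add_neg] at this⟩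
  set β := QL b' with hβ
  have hβ0 : β ≠ 0 := fun e => hb'0 (hanis b' hb'E e)
  -- an orthogonal basis of the perp
  have hb'U : ∀ u ∈ Submodule.span L ({a, f} : Set V), polar QL b' u = 0 := fun u hu => by
    rw [polar_comm]; exact mem_polarPerp.1 hb'E u hu
  have hdU3 : Module.finrank L (Submodule.span L (insert b' ({a, f} : Set V))) < Module.finrank L V := by
    have h1 := finrank_span_le_card (R := L) (insert b' ({a, f} : Set V))
    have : (insert b' ({a, f} : Set V)).toFinset.card ≤ 3 := by simpa using Finset.card_le_three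
    omega
  obtain ⟨c₀, hc₀, hγ⟩ := exists_aniso_perp hS.nd (ndOn_insert h2L hU hβ0 hb'U) hdU3
  have hcb : polar QL c₀ b' = 0 := hc₀ b' (Submodule.subset_span (Set.mem_insert _ _))
  have hcE : c₀ ∈ E := mem_polarPerp.2 fun u hu => by
    rw [polar_comm]; exact hc₀ u (Submodule.span_mono (Set.subset_insert _ _) hu)
  set γ := QL c₀ with hγdef
  have hδ : β * γ ≠ 0 := mul_ne_zero hβ0 hγ
  have hns : ∀ z : L, β * γ + z * z ≠ 0 := fun z e => by
    have h0 := hanis ((z / β) • b' + c₀) (E.add_mem (E.smul_mem _ hb'E) hcE) (by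
      rw [CfsgLib.Geometry.map_add', map_smul', polar_smul_left', polar_comm QL b' c₀, hcb, ← hβ, ← hγdef]
      field_simp
      linear_combination e)
    have := congrArg (fun x => polar QL x c₀) h0
    simp [polar_add_left, polar_smul_left', polar_comm QL b' c₀, hcb, polar_self', ← hγdef, hγ, h2L] at this
  obtain ⟨z, hz0, hzρ⟩ := exists_ratio hr h2L hδ hns
  set ρ := (β * γ - z * z) / (β * γ + z * z) with hρ
  have hρ0 : ρ ≠ 0 := fun e => hzρ 0 (by rw [e, mul_zero, map_zero])
  set w := (z + β * γ / z) / 2 with hw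
  set m := (β * γ / z - z) / 2 with hm
  have hw0 : w ≠ 0 := by
    rw [hw]
    refine div_ne_zero (fun e => hns z ?_) h2L
    field_simp at e
    linear_combination e
  have hwm : m * m + β * γ = w * w := by rw [hw, hm]; field_simp; ring
  have hmρ : m = ρ * w := by
    rw [hw, hm, hρ, div_mul_div_comm, eq_div_iff (mul_ne_zero (hns z) h2L)]
    field_simp
    ring
  set u := (m / β) • b' + c₀ with hu
  have huE : u ∈ E := E.add_mem (E.smul_mem _ hb'E) hcE
  have hQu : QL u = w * w / β := by
    rw [hu, CfsgLib.Geometry.map_add', map_smul', polar_smul_left', polar_comm QL b' c₀, hcb, ← hβ, ← hγdef, ← hwm]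
    field_simp
    ring
  have hQu0 : QL u ≠ 0 := by rw [hQu]; exact div_ne_zero (mul_ne_zero hw0 hw0) hβ0
  have hsq : IsSquare (QL u * QL b') := ⟨w, by rw [hQu, ← hβ, div_mul_cancel₀ _ hβ0]⟩
  have hsq' : IsSquare (QL b' * QL u) := by rwa [mul_comm]
  have hg1 := hS.refl2_mem hQu0 hβ0 hsq
  have hg2 := hS.refl2_mem hβ0 hQu0 hsq'
  set g1 := res (F := F) (refl QL u hQu0 * refl QL b' hβ0) with hg1def
  set g2 := res (F := F) (refl QL b' hβ0 * refl QL u hQu0) with hg2def
  have hg1v : ∀ x, g1 x = refl QL u hQu0 (refl QL b' hβ0 x) := fun x => rfl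
  have hg2v : ∀ x, g2 x = refl QL b' hβ0 (refl QL u hQu0 x) := fun x => rfl
  have hrE : ∀ (v : V) (hv : QL v ≠ 0) (x : V), v ∈ E → x ∈ E → refl QL v hv x ∈ E := fun v hv x hvE hxE => by
    rw [refl_apply]; exact E.sub_mem hxE (E.smul_mem _ hvE)
  have hra : ∀ (v : V) (hv : QL v ≠ 0), v ∈ E → refl QL v hv a = a := fun v hv hvE =>
    refl_eq_self QL v hv (hEa v hvE)
  have hX1 : ∀ x ∈ X, g1 x ∈ X := fun x hx => by
    refine ⟨hrE u hQu0 _ huE (hrE b' hβ0 x hb'E hx.1), fun t => ?_⟩
    have := (hx.2 t).conj hg1 (hS.mem_orthQ hg1)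
    rwa [hg1v a, hra b' hβ0 hb'E, hra u hQu0 huE, map_smul g1 t] at this
  have hX2 : ∀ x ∈ X, g2 x ∈ X := fun x hx => by
    refine ⟨hrE b' hβ0 _ hb'E (hrE u hQu0 x huE hx.1), fun t => ?_⟩
    have := (hx.2 t).conj hg2 (hS.mem_orthQ hg2)
    rwa [hg2v a, hra u hQu0 huE, hra b' hβ0 hb'E, map_smul g2 t] at this
  set τ := (4 : L) * (ρ * ρ) - 2 with hτ
  have hpu : polar QL b' u = 2 * m := by
    rw [hu, polar_add_right, polar_smul_right', polar_self', polar_comm QL b' c₀, hcb, ← hβ]
    field_simp
    ring
  have hsum : g1 b' + g2 b' = τ • b' := by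
    rw [hg1v, hg2v]
    simp only [refl_apply, polar_self', polar_sub_left, polar_sub_right, polar_smul_left', polar_smul_right', hpu,
      polar_comm QL u b', ← hβ, hQu]
    rw [hu, hτ, hmρ]
    match_scalars <;> field_simp <;> ring
  have hρρ : (ρ * ρ) • b' ∈ X := by
    have h1 : τ • b' ∈ X := hsum ▸ X.add_mem (hX1 b' hb'X) (hX2 b' hb'X)
    have h1' := X.add_mem h1 (X.smul_mem (2 : F) hb'X)
    rw [← algebraMap_smul L (2 : F) b', map_ofNat, ← add_smul, hτ, sub_add_cancel] at h1'
    have h4F : (4 : F) ≠ 0 := by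
      rw [show (4 : F) = 2 * 2 by norm_num]; exact mul_ne_zero hS.two hS.two
    have h1'' := X.smul_mem (4 : F)⁻¹ h1'
    rwa [← algebraMap_smul L ((4 : F)⁻¹) (((4 : L) * (ρ * ρ)) • b'), map_inv₀, map_ofNat, smul_smul,
      inv_mul_cancel_left₀ (fun e => h4F ((algebraMap F L).injective (by rw [map_ofNat, map_zero, e])))] at h1''
  have hline : ∀ l : L, l • b' ∈ X := fun l => by
    have hli : LinearIndependent F ![(1 : L), ρ * ρ] := LinearIndependent.pair_iff.2 fun p q hpq => by
      by_cases hq : q = 0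
      · rw [hq, zero_smul, add_zero] at hpq
        exact ⟨(smul_eq_zero.1 hpq).resolve_right one_ne_zero, hq⟩
      · refine absurd ?_ (hzρ (-p / q))
        have hqL : algebraMap F L q ≠ 0 := fun e => hq ((algebraMap F L).injective (e.trans (map_zero _).symm))
        simp only [Algebra.smul_def, mul_one] at hpq
        rw [map_div₀, map_neg, eq_div_iff hqL]
        linear_combination hpq
    have ht := hli.span_eq_top_of_card_eq_finrank (by rw [Fintype.card_fin, hr])
    rw [Matrix.range_cons_cons_empty] at ht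
    obtain ⟨p, q, hpq⟩ := Submodule.mem_span_pair.1 (ht ▸ Submodule.mem_top : l ∈ Submodule.span F {(1 : L), ρ * ρ})
    rw [← hpq, add_smul, smul_assoc, smul_assoc, one_smul]
    exact X.add_mem (X.smul_mem _ hb'X) (X.smul_mem _ hρρ)
  -- the moved line
  set v₂ := g1 b' with hv₂
  have hv₂l : ∀ l : L, g1 (l • b') = l • v₂ := fun l => by
    rw [hv₂]; exact (refl QL u hQu0 * refl QL b' hβ0).map_smul l b'
  set k := (QL u)⁻¹ * (2 * m) with hk
  have hm0 : m ≠ 0 := by rw [hmρ]; exact mul_ne_zero hρ0 hw0
  have hk0 : k ≠ 0 := mul_ne_zero (inv_ne_zero hQu0) (mul_ne_zero h2L hm0)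
  have hv₂e : v₂ = -b' + k • u := by
    rw [hv₂, hg1v, refl_apply QL b', polar_self', ← hβ]
    simp only [refl_apply, polar_sub_left, polar_sub_right, polar_smul_left', polar_smul_right', hpu,
      polar_comm QL u b', hk]
    match_scalars <;> field_simp <;> ring
  have hall : ∀ x ∈ E, x ∈ X := fun x hx => by
    have hsp : Submodule.span L ({b', c₀} : Set V) = E := by
      refine Submodule.eq_of_le_of_finrank_le (Submodule.span_le.2 (by
        rintro y (rfl | rfl); exacts [hb'E, hcE])) ?_
      obtain ⟨-, hd⟩ := perp_space hS.nd hU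
      have hli : LinearIndependent L ![b', c₀] := LinearIndependent.pair_iff.2 fun p q hpq => by
        have e1 := congrArg (fun y => polar QL y b') hpq
        have e2 := congrArg (fun y => polar QL y c₀) hpq
        simp [polar_add_left, polar_smul_left', polar_self', hcb, polar_comm QL b' c₀, ← hβ, ← hγdef, h2L, hβ0, hγ]
          at e1 e2
        exact ⟨e1, e2⟩
      have h := finrank_span_eq_card hli
      rw [Matrix.range_cons_cons_empty, Fintype.card_fin] at h
      have hU2 : Module.finrank L (Submodule.span L ({a, f} : Set V)) = 2 := by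
        have hli' : LinearIndependent L ![a, f] := LinearIndependent.pair_iff.2 fun p q hpq => by
          have e1 := congrArg (fun y => polar QL y f) hpq
          have e2 := congrArg (fun y => polar QL y a) hpq
          simp [polar_add_left, polar_smul_left', polar_self', ha, hf, haf, hfa] at e1 e2
          exact ⟨e1, e2⟩
        have h := finrank_span_eq_card hli'
        rwa [Matrix.range_cons_cons_empty, Fintype.card_fin] at h
      change Module.finrank L E + _ = _ at hd
      rw [h]
      omega
    rw [← hsp] at hx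
    obtain ⟨p, q, rfl⟩ := Submodule.mem_span_pair.1 hx
    have hcX : q • c₀ = (q / k) • v₂ + (q / k - q * (m / β)) • b' := by
      rw [hv₂e, hu]
      match_scalars <;> field_simp <;> ring
    rw [hcX, ← hv₂l]
    exact X.add_mem (hline p) (X.add_mem (hX1 _ (hline _)) (hline _))
  intro x hax
  have := (hA (polar QL x f)).add (hall _ (hmemE x hax)).2 hQa
    (haQ _ (by rw [polar_smul_right', polar_self', ha, mul_zero, mul_zero])) (haQ _ (hEa _ (hmemE x hax)))
  rwa [add_sub_cancel] at this

/-- The stabiliser of the quadratic extension in dimension four of minus type. -/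
theorem stab_max_four {u : V ≃ₗ[F] V} (hu : u ∈ M) (hn : ¬ ∀ s : L, ∃ t : L, ∀ v : V, u (t • v) = s • u v)
    (hr : Module.finrank F L = 2) (h4 : Module.finrank L V = 4)
    (hno : ∀ a e : V, a ≠ 0 → QL a = 0 → polar QL a e = 0 → QL e = 0 → e ∈ L ∙ a) : siegelGroup Q ≤ M := by
  obtain ⟨g, a, hp, hperp, -⟩ := hS.exists_touching h4.ge hu hn
  obtain ⟨σ, b, hσ, hab, hb, hR, hA⟩ := hS.root_out_of_line hp hperp hr h4.ge
    (Or.inr fun b h1 h2 => hno a b hp.ne0 hp.sing h1 h2)
  have hσa : QL (σ • a) = 0 := by rw [map_smul', hp.sing, mul_zero]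
  refine hS.le_of_spread (smul_ne_zero hσ hp.ne0) hσa
    (hS.spread_four (b := b) (smul_ne_zero hσ hp.ne0) hσa (by rw [polar_smul_left', hab, mul_zero]) (fun h => hb ?_)
      hR (fun t => ?_) hr h4 fun e => hno _ e (smul_ne_zero hσ hp.ne0) hσa) (Or.inl h4.ge)
  · obtain ⟨r, hr'⟩ := Submodule.mem_span_singleton.1 h
    exact Submodule.mem_span_singleton.2 ⟨r * σ, by rw [mul_smul, hr']⟩
  · rw [smul_smul]; exact hA _

end OExt

end CfsgLib.OrthField
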