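import Cfsg.Agent.Lib.OrthField.Root

/-!
A root group joining two points of a line spreads to the whole Siegel group.
-/

set_option autoImplicit false
set_option linter.unusedSectionVars false
set_option linter.style.haveILetI false

namespace CfsgLib.OrthField

open QuadraticMap CfsgLib.Geometry CfsgLib.OrthMax CfsgLib.FieldMax

variable {F L V : Type*} [Field F] [Field L] [Algebra F L] [AddCommGroup V] [Module F V] [Module L V]
  [IsScalarTower F L V]

/-- All root elements with first vector `a` and second vector orthogonal over the big field. -/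
def SpreadAt (QL : QuadraticForm L V) (Q : QuadraticForm F V) (M : Subgroup (V ≃ₗ[F] V)) (a : V) : Prop :=
  ∀ x, polar QL a x = 0 → RootIn Q M a x

namespace OExt

variable {QL : QuadraticForm L V} {ε : Module.Dual F L} {Q : QuadraticForm F V} {M : Subgroup (V ≃ₗ[F] V)}
variable (hS : OExt QL ε Q M) [Finite F] [FiniteDimensional F L] [FiniteDimensional L V]

include hS

/-- Moving a root group by a Siegel element over the big field. -/
theorem root_diff {a e c x : V} (ha : QL a = 0) (he : QL e = 0) (hec : polar QL e c = 0) (hea : polar QL a e = 0)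
    (hca : polar QL a c = 0) (hax : polar Q a x = 0) (h : RootIn Q M a x) :
    RootIn Q M a (polar QL x e • c - polar QL x c • e - (QL c * polar QL x e) • e) := by
  haveI : FiniteDimensional F V := Module.Finite.trans L V
  obtain ⟨g, hg, hgv, -⟩ := hS.exists_E he hec
  refine h.diff hg (hS.mem_orthQ hg) (hS.singQ ha) hax (by simp [hgv, hea, hca]) ?_
  rw [hgv]; abel

/-- The second half of `root_diff`. -/
theorem root_diff' {a e c x : V} (ha : QL a = 0) (he : QL e = 0) (hec : polar QL e c = 0) (hea : polar QL a e = 0)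
    (hca : polar QL a c = 0) (hax : polar Q a x = 0) (h : RootIn Q M a x) :
    RootIn Q M a ((QL c * polar QL x e) • e) := by
  haveI : FiniteDimensional F V := Module.Finite.trans L V
  have h1 := hS.root_diff ha he hec hea hca hax h
  have h2 := hS.root_diff ha he (c := -c) (by rw [polar_neg_right, hec, neg_zero]) hea
    (by rw [polar_neg_right, hca, neg_zero]) hax h
  have hp : ∀ c' : V, polar QL a c' = 0 →
      polar Q a (polar QL x e • c' - polar QL x c' • e - (QL c' * polar QL x e) • e) = 0 := fun c' hc' => hS.perpQ (by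
    simp [polar_sub_right, polar_smul_right', hc', hea])
  have h3 := (h1.add h2 (hS.singQ ha) (hp c hca) (hp (-c) (by rw [polar_neg_right, hca, neg_zero]))).smul (-(2 : F)⁻¹)
  have h2L := hS.two
  convert h3 using 1
  rw [QuadraticMap.map_neg, polar_neg_right,
    show polar QL x e • c - polar QL x c • e - (QL c * polar QL x e) • e +
        (polar QL x e • -c - -polar QL x c • e - (QL c * polar QL x e) • e) = (-(2 : F)) • (QL c * polar QL x e) • e by
      rw [neg_smul (2 : F), two_smul]; module,
    smul_smul, neg_mul_neg, inv_mul_cancel₀ hS.two, one_smul]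

/-- Mixing the two vectors of a root group with those of another line. -/
theorem mix {a : V} (ha0 : a ≠ 0) (ha : QL a = 0) {s t : L} (hs : s ≠ 0) (hst : ∀ c : F, t ≠ c • s)
    (h : RootIn Q M (s • a) (t • a)) (h3 : 3 ≤ Module.finrank F L)
    (hr : 4 ≤ Module.finrank L V ∨ Odd (Module.finrank F L)) :
    ∃ a' f : V, ∃ ν : L, a' ≠ 0 ∧ QL a' = 0 ∧ QL f = 0 ∧ polar QL a' f = 1 ∧ ν ≠ 0 ∧ ε ν = 0 ∧
      RootIn Q M a' (ν • f) := by
  haveI : FiniteDimensional F V := Module.Finite.trans L V
  haveI := Fintype.ofFinite F
  obtain ⟨f, hf, haf⟩ := exists_pair hS.nd ha0 ha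
  have hf0 : f ≠ 0 := fun e => by rw [e, polar_zero_right] at haf; exact zero_ne_one haf
  have ht : t ≠ 0 := fun e => hst 0 (by rw [e, zero_smul])
  -- a multiplier separating the square from the two products
  obtain ⟨μ, hμst, hμtt, hμss⟩ : ∃ μ : L, ε (μ * (s * t)) = 0 ∧ ε (μ * (t * t)) = 0 ∧ ε (μ * (s * s)) ≠ 0 := by
    have hnot : s * s ∉ Submodule.span F ({s * t, t * t} : Set L) := by
      intro hm
      obtain ⟨α, β, hab⟩ := Submodule.mem_span_pair.1 hm
      set τ := t / s with hτ
      have hτF : τ ∉ Set.range (algebraMap F L) := by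
        rintro ⟨c, hc⟩
        refine hst c ?_
        rw [Algebra.smul_def, hc, hτ, div_mul_cancel₀ _ hs]
      have h1 : α • τ + β • (τ * τ) = 1 := by
        simp only [Algebra.smul_def, hτ] at hab ⊢
        field_simp
        linear_combination hab
      let S : Submodule F L := Submodule.span F ({1, τ} : Set L)
      by_cases hβ : β = 0
      · rw [hβ, zero_smul, add_zero] at h1
        by_cases hα : α = 0
        · rw [hα, zero_smul] at h1; exact zero_ne_one h1
        · exact hτF ⟨α⁻¹, by rw [Algebra.algebraMap_eq_smul_one, ← h1, inv_smul_smul₀ hα]⟩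
      refine hτF (mem_range_of_stable F hS.prime (S := S) (fun e => one_ne_zero ((Submodule.mem_bot F).1
        (e ▸ Submodule.subset_span (by simp) : (1 : L) ∈ (⊥ : Submodule F L)))) (fun e => ?_) fun x hx => ?_)
      · have h2 := finrank_pair_le (F := F) (1 : L) τ
        change Module.finrank F S ≤ 2 at h2
        rw [e, finrank_top] at h2
        omega
      · obtain ⟨p, q, rfl⟩ := Submodule.mem_span_pair.1 hx
        refine Submodule.mem_span_pair.2 ⟨q * β⁻¹, p - q * β⁻¹ * α, ?_⟩
        have hb : algebraMap F L β ≠ 0 := fun e => hβ ((algebraMap F L).injective (by rw [e, map_zero]))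
        simp only [Algebra.smul_def, map_mul, map_sub, map_inv₀] at h1 ⊢
        field_simp
        linear_combination -(algebraMap F L q) * h1
    obtain ⟨φ, hφ, hφS⟩ := Submodule.exists_dual_map_eq_bot_of_notMem hnot inferInstance
    obtain ⟨ν, hν⟩ := exists_form ε hS.eps φ
    have e : ∀ l : L, ν 1 * l = ν l := fun l => by
      rw [mul_comm, ← smul_eq_mul, ← map_smul, smul_eq_mul, mul_one]
    refine ⟨ν 1, ?_, ?_, ?_⟩
    · rw [e, ← hν]; exact (Submodule.mem_bot F).1 (hφS ▸ Submodule.mem_map_of_mem (Submodule.subset_span (by simp)))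
    · rw [e, ← hν]; exact (Submodule.mem_bot F).1 (hφS ▸ Submodule.mem_map_of_mem (Submodule.subset_span (by simp)))
    · rwa [e, ← hν]
  obtain ⟨μ, hμst, hμtt, hμss, x, hx, hxa, hxl⟩ : ∃ μ' : L, ε (μ' * (s * t)) = 0 ∧ ε (μ' * (t * t)) = 0 ∧
      ε (μ' * (s * s)) ≠ 0 ∧ ∃ x ∈ M, x a = μ' • f ∧ ∀ (l : L) (v : V), x (l • v) = l • x v := by
    have hμ0 : μ ≠ 0 := fun e => hμss (by rw [e, zero_mul, map_zero])
    obtain ⟨x, hx, c, hc, hxa, hxl⟩ := hS.exists_move' hr ha0 (smul_ne_zero hμ0 hf0) ha
      (by rw [map_smul', hf, mul_zero])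
    refine ⟨c • μ, ?_, ?_, ?_, x, hx, by rw [hxa, smul_assoc], hxl⟩
    · rw [smul_mul_assoc, eps_smul', hμst, mul_zero]
    · rw [smul_mul_assoc, eps_smul', hμtt, mul_zero]
    · rw [smul_mul_assoc, eps_smul']; exact mul_ne_zero hc hμss
  have hμ0 : μ ≠ 0 := fun e => hμss (by rw [e, zero_mul, map_zero])
  have hQf : QL (μ • f) = 0 := by rw [map_smul', hf, mul_zero]
  have h' : RootIn Q M (s • μ • f) (t • μ • f) := fun c => by
    have := (h c).conj hx (hS.mem_orthQ hx)
    rwa [map_smul x c (t • a), hxl, hxl, hxa] at this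
  have hB : ∀ l m : L, polar Q (l • a) (m • μ • f) = ε (μ * (l * m)) := fun l m => by
    rw [hS.polarQ, polar_smul_left', polar_smul_right', polar_smul_right', haf, mul_one]
    congr 1; ring
  have hQl : ∀ l : L, Q (l • a) = 0 := fun l => hS.singQ (by rw [map_smul', ha, mul_zero])
  have haa : ∀ l m : L, polar Q (l • a) (m • a) = 0 := fun l m => hS.perpQ (by
    rw [polar_smul_left', polar_smul_right', polar_self', ha, mul_zero, mul_zero, mul_zero])
  set c := (ε (μ * (s * s)))⁻¹
  have hh : Q (s • μ • f) = 0 := hS.singQ (by rw [map_smul', hQf, mul_zero])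
  have hh' : polar Q (s • μ • f) (c • t • μ • f) = 0 := by
    rw [polar_smul_right', hS.perpQ, mul_zero]
    rw [polar_smul_left', polar_smul_right', polar_self', hQf, mul_zero, mul_zero, mul_zero]
  set g := siegel Q (s • μ • f) (c • t • μ • f) hh hh'
  have hg : g ∈ M := h' c hh hh'
  have hQw : Q (c • t • μ • f) = 0 := by
    rw [map_smul' Q, hS.singQ (by rw [map_smul', hQf, mul_zero]), mul_zero]
  have hgt : g (t • a) = t • a := siegel_eq_self Q _ _ _ _ (by rw [hB, mul_comm t s, hμst])
    (by rw [polar_smul_right', hB, hμtt, mul_zero])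
  have hgs : g (s • a) = s • a + t • μ • f := by
    rw [siegel_apply, hB, polar_smul_right', hB, hμst, mul_zero, zero_smul, hQw, zero_mul, zero_smul, sub_zero,
      sub_zero, smul_smul (ε (μ * (s * s))) c, mul_inv_cancel₀ hμss, one_smul]
  have h2 := (h.swap (hQl s) (hQl t) (haa s t)).diff hg (hS.mem_orthQ hg) (hQl t) (haa t s) hgt hgs
  refine ⟨t • a, t⁻¹ • f, t * t * μ, smul_ne_zero ht ha0, by rw [map_smul', ha, mul_zero],
    by rw [map_smul', hf, mul_zero], ?_, mul_ne_zero (mul_ne_zero ht ht) hμ0, by rwa [mul_comm], ?_⟩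
  · rw [polar_smul_left', polar_smul_right', haf, mul_one, mul_inv_cancel₀ ht]
  · convert h2 using 1
    rw [smul_smul, smul_smul]
    congr 1; field_simp

/-- A mixed root group gives spreading at a point. -/
theorem spread_of_mixed {a f : V} {ν : L} (ha : QL a = 0) (hf : QL f = 0) (haf : polar QL a f = 1) (hν : ν ≠ 0)
    (hεν : ε ν = 0) (h : RootIn Q M a (ν • f)) : SpreadAt QL Q M a := by
  haveI : FiniteDimensional F V := Module.Finite.trans L V
  haveI : Finite L := Module.finite_of_finite F
  have hfa : polar QL f a = 1 := by rw [polar_comm]; exact haf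
  have haf0 : polar QL a f ≠ 0 := by rw [haf]; exact one_ne_zero
  have hQa := hS.singQ ha
  have h2 := hS.two'
  have haνf : polar Q a (ν • f) = 0 := by rw [hS.polarQ, polar_smul_right', haf, mul_one, hεν]
  -- components orthogonal to both
  have hW : ∀ b, polar QL a b = 0 → polar QL f b = 0 →
      RootIn Q M a b ∧ RootIn Q M a ((ν * QL b) • a) := by
    have hd : ∀ b, polar QL a b = 0 → polar QL f b = 0 → RootIn Q M a (ν • b - (ν * QL b) • a) := by
      intro b hab hfb
      have := hS.root_diff ha ha hab (by rw [polar_self', ha, mul_zero]) hab haνf h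
      convert this using 1
      rw [polar_smul_left', polar_smul_left', hfa, hfb]
      module
    have hp : ∀ b, polar QL a b = 0 → polar Q a (ν • b - (ν * QL b) • a) = 0 := fun b hab => hS.perpQ (by
      simp [polar_sub_right, polar_smul_right', hab, polar_self', ha])
    have hlin : ∀ b, polar QL a b = 0 → polar QL f b = 0 → RootIn Q M a b := by
      intro b hab hfb
      set c := (2 * ν)⁻¹ • b with hc
      have hac : polar QL a c = 0 := by rw [hc, polar_smul_right', hab, mul_zero]
      have hfc : polar QL f c = 0 := by rw [hc, polar_smul_right', hfb, mul_zero]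
      have hac' : polar QL a (-c) = 0 := by rw [polar_neg_right, hac, neg_zero]
      have := (hd c hac hfc).add ((hd (-c) hac' (by rw [polar_neg_right, hfc, neg_zero])).smul (-1)) hQa (hp c hac)
        (by rw [polar_smul_right', hp (-c) hac', mul_zero])
      convert this using 1
      rw [QuadraticMap.map_neg, neg_one_smul, hc]
      match_scalars <;> field_simp <;> ring
    intro b hab hfb
    refine ⟨hlin b hab hfb, ?_⟩
    have := (hlin (ν • b) (by rw [polar_smul_right', hab, mul_zero]) (by rw [polar_smul_right', hfb, mul_zero])).add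
      ((hd b hab hfb).smul (-1)) hQa (hS.perpQ (by rw [polar_smul_right', hab, mul_zero]))
      (by rw [polar_smul_right', hp b hab, mul_zero])
    convert this using 1
    module
  intro x hax
  have hdU := finrank_pair_le (F := L) a f
  obtain ⟨b, hb, hQb⟩ := exists_aniso_perp hS.nd (ndOn_pair ha haf0) (lt_of_le_of_lt hdU hS.dim)
  haveI := Fintype.ofFinite L
  obtain ⟨l, k, hlk⟩ := FiniteField.exists_root_sum_quadratic (R := L) (f := Polynomial.X ^ 2)
    (g := Polynomial.X ^ 2 - Polynomial.C (polar QL x f / (ν * QL b))) (Polynomial.degree_X_pow 2)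
    (Polynomial.degree_X_pow_sub_C (by decide) _) (FiniteField.odd_card_of_char_ne_two fun h => h2 (by
      haveI := ringChar.of_eq h
      exact CharTwo.two_eq_zero))
  simp only [Polynomial.eval_pow, Polynomial.eval_X, Polynomial.eval_sub, Polynomial.eval_C] at hlk
  have hl : ∀ l : L, RootIn Q M a ((ν * (l * l * QL b)) • a) := fun l => by
    have := (hW (l • b) (by rw [polar_smul_right', polar_comm, hb a (Submodule.subset_span (by simp)), mul_zero])
      (by rw [polar_smul_right', polar_comm, hb f (Submodule.subset_span (by simp)), mul_zero])).2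
    rwa [map_smul'] at this
  have h1 := (hl l).add (hl k) hQa (hS.perpQ (by rw [polar_smul_right', polar_self', ha, mul_zero, mul_zero]))
    (hS.perpQ (by rw [polar_smul_right', polar_self', ha, mul_zero, mul_zero]))
  rw [← add_smul, show ν * (l * l * QL b) + ν * (k * k * QL b) = polar QL x f by
    linear_combination (ν * QL b) * hlk + div_mul_cancel₀ (polar QL x f) (mul_ne_zero hν hQb)] at h1
  set y := x - polar QL x f • a with hy
  have hay : polar QL a y = 0 := by simp [hy, polar_sub_right, polar_smul_right', hax, polar_self', ha]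
  have hfy : polar QL f y = 0 := by simp [hy, polar_sub_right, polar_smul_right', hfa, polar_comm QL f x]
  have := h1.add (hW y hay hfy).1 hQa (hS.perpQ (by rw [polar_smul_right', polar_self', ha, mul_zero, mul_zero]))
    (hS.perpQ hay)
  rwa [hy, add_sub_cancel] at this

/-- For quadratic extensions, spreading from a root group leaving the line. -/
theorem spread_of_out {a b : V} (ha0 : a ≠ 0) (ha : QL a = 0) (hab : polar QL a b = 0) (hb : b ∉ L ∙ a)
    (hR : RootIn Q M a b) (hA : ∀ t : L, RootIn Q M a (t • a)) (h7 : 5 ≤ Module.finrank L V) :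
    SpreadAt QL Q M a := by
  haveI : FiniteDimensional F V := Module.Finite.trans L V
  haveI : Finite L := Module.finite_of_finite F
  classical
  have hQa := hS.singQ ha
  obtain ⟨f, hf, haf⟩ := exists_pair hS.nd ha0 ha
  have hfa : polar QL f a = 1 := by rw [polar_comm]; exact haf
  have haf0 : polar QL a f ≠ 0 := by rw [haf]; exact one_ne_zero
  have hU := ndOn_pair ha haf0
  have hdU := finrank_pair_le (F := L) a f
  have haU : a ∈ Submodule.span L ({a, f} : Set V) := Submodule.subset_span (by simp)
  have hfU : f ∈ Submodule.span L ({a, f} : Set V) := Submodule.subset_span (by simp)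
  have haQ : ∀ x, polar QL a x = 0 → polar Q a x = 0 := fun x hx => hS.perpQ hx
  set b' := b - polar QL b f • a with hb'
  have hab' : polar QL a b' = 0 := by simp [hb', polar_sub_right, polar_smul_right', hab, polar_self', ha]
  have hfb' : polar QL f b' = 0 := by simp [hb', polar_sub_right, polar_smul_right', hfa, polar_comm QL f b]
  have hb'0 : b' ≠ 0 := fun e => hb (Submodule.mem_span_singleton.2 ⟨polar QL b f, (sub_eq_zero.1 e).symm⟩)
  have hR' : RootIn Q M a b' := by
    have := hR.add ((hA (polar QL b f)).smul (-1)) hQa (haQ b hab)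
      (by rw [polar_smul_right', haQ _ (by rw [polar_smul_right', polar_self', ha, mul_zero, mul_zero]), mul_zero])
    rwa [neg_one_smul, ← sub_eq_add_neg] at this
  -- isotropic lines of the perp
  have hline : ∀ e x, QL e = 0 → polar QL a e = 0 → polar QL f e = 0 → polar QL a x = 0 → polar QL x e ≠ 0 →
      RootIn Q M a x → ∀ l : L, RootIn Q M a (l • e) := by
    intro e x he hae hfe hax hxe hx l
    have he0 : e ≠ 0 := fun h => hxe (by rw [h, polar_zero_right])
    have heU : ∀ u ∈ Submodule.span L ({a, f} : Set V), polar QL e u = 0 := fun u hu => by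
      obtain ⟨p, q, rfl⟩ := Submodule.mem_span_pair.1 hu
      simp [polar_add_right, polar_smul_right', polar_comm QL e a, hae, polar_comm QL e f, hfe]
    obtain ⟨e', he', hee', he'U⟩ := exists_partner hS.nd _ (fun h => he0 (hU e h heU)) he heU
    have hU4 : NdOn QL (Submodule.span L ({a, f, e, e'} : Set V)) := by
      intro v hv hvu
      simp only [Submodule.mem_span_insert, Submodule.mem_span_singleton] at hv
      obtain ⟨c₁, w, ⟨c₂, w', ⟨c₃, w'', ⟨c₄, rfl⟩, rfl⟩, rfl⟩, rfl⟩ := hv
      have e1 := hvu a (Submodule.subset_span (by simp))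
      have e2 := hvu f (Submodule.subset_span (by simp))
      have e3 := hvu e (Submodule.subset_span (by simp))
      have e4 := hvu e' (Submodule.subset_span (by simp))
      simp [polar_add_left, polar_smul_left', polar_self', ha, hf, he, he', hfa, haf, hee', polar_comm QL e' e,
        heU a haU, heU f hfU, he'U a haU, he'U f hfU, polar_comm QL a e, polar_comm QL f e, polar_comm QL a e',
        polar_comm QL f e'] at e1 e2 e3 e4
      simp [e1, e2, e3, e4]
    have h4 : Module.finrank L (Submodule.span L ({a, f, e, e'} : Set V)) ≤ 4 := by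
      have h1 := finrank_span_le_card (R := L) ({a, f, e, e'} : Set V)
      have : ({a, f, e, e'} : Set V).toFinset.card ≤ 4 := by simpa using Finset.card_le_four
      omega
    obtain ⟨u, hu, hQu⟩ := exists_aniso_perp hS.nd hU4 (by omega)
    -- every scalar is a value times a sum of two squares
    haveI := Fintype.ofFinite L
    obtain ⟨m, k, hmk⟩ := FiniteField.exists_root_sum_quadratic (R := L) (f := Polynomial.X ^ 2)
      (g := Polynomial.X ^ 2 - Polynomial.C (l / polar QL x e / QL u)) (Polynomial.degree_X_pow 2)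
      (Polynomial.degree_X_pow_sub_C (by decide) _) (FiniteField.odd_card_of_char_ne_two fun h => hS.two' (by
        haveI := ringChar.of_eq h
        exact CharTwo.two_eq_zero))
    simp only [Polynomial.eval_pow, Polynomial.eval_X, Polynomial.eval_sub, Polynomial.eval_C] at hmk
    have hpart : ∀ m : L, RootIn Q M a ((m * m * QL u * polar QL x e) • e) := fun m => by
      have := hS.root_diff' ha he (c := m • u)
        (by rw [polar_comm, polar_smul_left', hu e (Submodule.subset_span (by simp)), mul_zero]) hae
        (by rw [polar_comm, polar_smul_left', hu a (Submodule.subset_span (by simp)), mul_zero]) (haQ x hax) hx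
      rwa [map_smul'] at this
    have hpe : ∀ r : L, polar Q a (r • e) = 0 := fun r => haQ _ (by rw [polar_smul_right', hae, mul_zero])
    have := (hpart m).add (hpart k) hQa (hpe _) (hpe _)
    rw [← add_smul, show m * m * QL u * polar QL x e + k * k * QL u * polar QL x e = l by
      have e1 : m * m + k * k = l / polar QL x e / QL u := by linear_combination hmk
      rw [show m * m * QL u * polar QL x e + k * k * QL u * polar QL x e = (m * m + k * k) * QL u * polar QL x e by ring,
        e1, div_mul_cancel₀ _ hQu, div_mul_cancel₀ _ hxe]] at this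
    exact this
  have hb'U : ∀ u ∈ Submodule.span L ({a, f} : Set V), polar QL b' u = 0 := fun u hu => by
    obtain ⟨p, q, rfl⟩ := Submodule.mem_span_pair.1 hu
    simp [polar_add_right, polar_smul_right', polar_comm QL b' a, hab', polar_comm QL b' f, hfb']
  obtain ⟨e, he0, he, heU, hbe⟩ : ∃ e, e ≠ 0 ∧ QL e = 0 ∧ (∀ u ∈ Submodule.span L ({a, f} : Set V), polar QL e u = 0) ∧
      polar QL b' e ≠ 0 := by
    by_contra hcon
    push Not at hcon
    exact hb'0 (eq_zero_of_singular_perp hS.nd hU (by omega) hb'U fun e h1 h2 h3 => hcon e h1 h2 h3)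
  have hae : polar QL a e = 0 := by rw [polar_comm]; exact heU a haU
  have hfe : polar QL f e = 0 := by rw [polar_comm]; exact heU f hfU
  have hE := hline e b' he hae hfe hab' hbe hR'
  obtain ⟨e', he', hee', he'U⟩ := exists_partner hS.nd _ (fun h => he0 (hU e h heU)) he heU
  have hae' : polar QL a e' = 0 := by rw [polar_comm]; exact he'U a haU
  have hfe' : polar QL f e' = 0 := by rw [polar_comm]; exact he'U f hfU
  have he1 : RootIn Q M a e := by simpa using hE 1
  have hE' := hline e' e he' hae' hfe' hae (by rw [hee']; exact one_ne_zero) he1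
  have hgood : ∀ x, polar QL a x = 0 → polar QL f x = 0 → polar QL x e ≠ 0 → RootIn Q M a x := by
    intro x hax hfx hxe
    set k := QL x / polar QL x e with hk
    have hp : QL (x + (-k) • e) = 0 := by
      simp only [hk, map_add', map_smul', he, polar_smul_right']; field_simp; ring
    have hap : polar QL a (x + (-k) • e) = 0 := by simp [polar_add_right, polar_smul_right', hax, hae]
    have h1 := hline _ e hp hap (by simp [polar_add_right, polar_smul_right', hfx, hfe]) hae
      (by simp [polar_add_right, polar_smul_right', polar_self', he, polar_comm QL e x, hxe]) he1 1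
    rw [one_smul] at h1
    have h2 := h1.add (hE k) hQa (haQ _ hap) (haQ _ (by rw [polar_smul_right', hae, mul_zero]))
    rwa [neg_smul, neg_add_cancel_right] at h2
  intro x hax
  set y := x - polar QL x f • a with hy
  have hay : polar QL a y = 0 := by simp [hy, polar_sub_right, polar_smul_right', hax, polar_self', ha]
  have hfy : polar QL f y = 0 := by simp [hy, polar_sub_right, polar_smul_right', hfa, polar_comm QL f x]
  have hY : RootIn Q M a y := by
    by_cases hye : polar QL y e = 0
    swap
    · exact hgood y hay hfy hye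
    have h1 := hgood (y + e') (by rw [polar_add_right, hay, hae', add_zero]) (by rw [polar_add_right, hfy, hfe', add_zero])
      (by rw [polar_add_left, hye, polar_comm QL e' e, hee', zero_add]; exact one_ne_zero)
    have h2 := h1.add (hE' (-1)) hQa (haQ _ (by rw [polar_add_right, hay, hae', add_zero]))
      (haQ _ (by rw [polar_smul_right', hae', mul_zero]))
    rwa [neg_one_smul, add_neg_cancel_right] at h2
  have := (hA (polar QL x f)).add hY hQa (haQ _ (by rw [polar_smul_right', polar_self', ha, mul_zero, mul_zero]))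
    (haQ _ hay)
  rwa [hy, add_sub_cancel] at this

/-- Spreading at one point gives the whole Siegel group. -/
theorem le_of_spread {a : V} (ha0 : a ≠ 0) (ha : QL a = 0) (h : SpreadAt QL Q M a)
    (hr : 4 ≤ Module.finrank L V ∨ Odd (Module.finrank F L)) : siegelGroup Q ≤ M := by
  haveI : FiniteDimensional F V := Module.Finite.trans L V
  haveI : Finite L := Module.finite_of_finite F
  have hall : ∀ e, e ≠ 0 → QL e = 0 → SpreadAt QL Q M e := by
    intro e he0 he x hx
    obtain ⟨g, hg, κ, hκ, hga, hgl⟩ := hS.exists_move' hr ha0 he0 ha he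
    have hsymm : polar QL a (g.symm (κ⁻¹ • x)) = 0 := by
      refine hS.eps_ext fun t => ?_
      rw [← polar_smul_left', ← hS.polarQ, ← orth_polar (hS.mem_orthQ hg), g.apply_symm_apply, hgl, hga, hS.polarQ,
        polar_smul_left', lpolar_smul_left, lpolar_smul_right, hx, smul_zero, smul_zero]
    have h1 : RootIn Q M (κ • e) (κ⁻¹ • x) := fun c => by
      have := (h _ hsymm c).conj hg (hS.mem_orthQ hg)
      rwa [hga, map_smul g c, g.apply_symm_apply] at this
    have h2 := hS.of_smul_left h1 (hS.singQ he) (by rw [polar_smul_right', hS.perpQ hx, mul_zero])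
    rwa [smul_smul, mul_inv_cancel₀ hκ, one_smul] at h2
  have hfull : ∀ e, e ≠ 0 → QL e = 0 → Full Q M e := by
    intro e he0 he w hQe hew
    obtain ⟨f, hf, hef⟩ := exists_pair hS.nd he0 he
    have hef0 : polar QL e f ≠ 0 := by rw [hef]; exact one_ne_zero
    have hfe : polar QL f e = 1 := by rw [polar_comm]; exact hef
    set ν := polar QL e w with hν
    have hεν : ε ν = 0 := by rw [← hS.polarQ]; exact hew
    have hrest : polar QL e (w - ν • f) = 0 := by rw [polar_sub_right, polar_smul_right', hef, mul_one, sub_self]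
    suffices hνf : RootIn Q M e (ν • f) by
      have h1 := hνf.add (hall e he0 he _ hrest) hQe
        (by rw [hS.polarQ, polar_smul_right', hef, mul_one, hεν]) (hS.perpQ hrest)
      rw [add_sub_cancel] at h1
      exact h1.one hQe hew
    by_cases hν0 : ν = 0
    · rw [hν0, zero_smul]; exact fun t => by rw [smul_zero]; exact SiegIn.zero e
    have hdU := finrank_pair_le (F := L) e f
    obtain ⟨b, hb, hQb⟩ := exists_aniso_perp hS.nd (ndOn_pair he hef0) (lt_of_le_of_lt hdU hS.dim)
    have heb : polar QL e b = 0 := by rw [polar_comm]; exact hb e (Submodule.subset_span (by simp))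
    have hbf : polar QL b f = 0 := hb f (Submodule.subset_span (by simp))
    obtain ⟨one, hone⟩ := hS.exists_eps_one
    set l := one / (2 * QL b)
    have hνb : polar QL (ν • f) (l • b) = 0 := by
      rw [polar_smul_left', polar_smul_right', polar_comm QL f b, hbf, mul_zero, mul_zero]
    have hQν : QL (ν • f) = 0 := by rw [map_smul', hf, mul_zero]
    have hg := (hall _ (smul_ne_zero hν0 fun e' => hef0 (by rw [e', polar_zero_right])) hQν _ hνb).one
      (hS.singQ hQν) (hS.perpQ hνb)
    set g := siegel Q (ν • f) (l • b) (hS.singQ hQν) (hS.perpQ hνb)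
    have hge : g e = e := siegel_eq_self Q _ _ _ _ (by rw [hS.polarQ, polar_smul_right', hef, mul_one, hεν])
      (hS.perpQ (by rw [polar_smul_right', heb, mul_zero]))
    have hgb : g b = b + (-1 : F) • ν • f := by
      rw [siegel_apply, hS.perpQ (show polar QL b (ν • f) = 0 by rw [polar_smul_right', hbf, mul_zero]), hS.polarQ,
        polar_smul_right', polar_self', div_mul_cancel₀ _ (mul_ne_zero hS.two' hQb), hone]
      module
    have := ((hall e he0 he b heb).diff hg (hS.mem_orthQ hg) hQe (hS.perpQ heb) hge hgb).smul (-1)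
    rwa [smul_smul, neg_one_mul, neg_neg, one_smul] at this
  obtain ⟨f, hf, haf⟩ := exists_pair hS.nd ha0 ha
  obtain ⟨κ, hκ⟩ := hS.exists_eps_one
  have hκ0 : κ • f ≠ 0 := smul_ne_zero (fun e => zero_ne_one (by rw [← hκ, e, map_zero])) fun e =>
    zero_ne_one (by rw [← haf, e, polar_zero_right])
  have hQκ : QL (κ • f) = 0 := by rw [map_smul', hf, mul_zero]
  exact siegelGroup_le_of_full hS.ndQ (hS.singQ ha) (hS.singQ hQκ)
    (by rw [hS.polarQ, polar_smul_right', haf, mul_one, hκ]) (hfull a ha0 ha) (hfull _ hκ0 hQκ)

/-- The stabiliser of the big field is maximal. -/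
theorem stab_max {u : V ≃ₗ[F] V} (hu : u ∈ M) (hn : ¬ ∀ s : L, ∃ t : L, ∀ v : V, u (t • v) = s • u v)
    (h4 : 4 ≤ Module.finrank L V) (hd : 3 ≤ Module.finrank F L ∨ 5 ≤ Module.finrank L V) : siegelGroup Q ≤ M := by
  obtain ⟨g, a, hp, hperp, hk⟩ := hS.exists_touching h4 hu hn
  by_cases h3 : 3 ≤ Module.finrank F L
  · obtain ⟨s, t, hs, hst, hroot⟩ := hS.root_in_line hp hperp hk h3 h4
    obtain ⟨a', f, ν, ha'0, ha', hf, haf, hν, hεν, h'⟩ := hS.mix hp.ne0 hp.sing hs hst hroot h3 (Or.inl h4)
    exact hS.le_of_spread ha'0 ha' (hS.spread_of_mixed ha' hf haf hν hεν h') (Or.inl h4)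
  · have hr : Module.finrank F L = 2 := by have := hS.prime.two_le; omega
    obtain ⟨σ, b, hσ, hab, hb, hR, hA⟩ := hS.root_out_of_line hp hperp hr h4 (Or.inl (hd.resolve_left h3))
    refine hS.le_of_spread (smul_ne_zero hσ hp.ne0) (by rw [map_smul', hp.sing, mul_zero])
      (hS.spread_of_out (b := b) (smul_ne_zero hσ hp.ne0) (by rw [map_smul', hp.sing, mul_zero])
        (by rw [polar_smul_left', hab, mul_zero]) (fun h => hb ?_) hR (fun t => ?_) (hd.resolve_left h3)) (Or.inl h4)
    · obtain ⟨r, hr⟩ := Submodule.mem_span_singleton.1 h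
      exact Submodule.mem_span_singleton.2 ⟨r * σ, by rw [mul_smul, hr]⟩
    · rw [smul_smul]; exact hA _

end OExt

end CfsgLib.OrthField
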