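import Cfsg.Agent.Lib.OrthField.Basic

/-!
The orbit of a singular line over the extension field: two of them are orthogonal and meet in a hyperplane of each.
-/

set_option autoImplicit false
set_option linter.unusedSectionVars false
set_option linter.style.haveILetI false

namespace CfsgLib.OrthField

open QuadraticMap CfsgLib.Geometry CfsgLib.OrthMax CfsgLib.FieldMax

variable {F L V : Type*} [Field F] [Field L] [Algebra F L] [AddCommGroup V] [Module F V] [Module L V]
  [IsScalarTower F L V]

variable (L) in
/-- The image of a line. -/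
def img (g : V ≃ₗ[F] V) (a : V) : Submodule F V := (line F L a).map (g : V →ₗ[F] V)

theorem mem_img {g : V ≃ₗ[F] V} {a y : V} : y ∈ img L g a ↔ ∃ t : L, g (t • a) = y := by
  constructor
  · rintro ⟨x, hx, rfl⟩
    obtain ⟨t, rfl⟩ := mem_line.1 hx
    exact ⟨t, rfl⟩
  · rintro ⟨t, rfl⟩
    exact Submodule.mem_map_of_mem (smul_mem_line a t)

theorem apply_mem_img (g : V ≃ₗ[F] V) (a : V) (t : L) : g (t • a) ∈ img L g a := mem_img.2 ⟨t, rfl⟩

theorem finrank_img (g : V ≃ₗ[F] V) {a : V} (ha : a ≠ 0) :
    Module.finrank F (img L g a) = Module.finrank F L := by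
  rw [img, ← (Submodule.equivMapOfInjective _ g.injective _).finrank_eq, finrank_line ha]

theorem smul_fix {x : V ≃ₗ[F] V} (hlin : ∀ (l : L) (v : V), x (l • v) = l • x v) {a : V} (ha : x a = a) {z : V}
    (hz : z ∈ line F L a) : x z = z := by
  obtain ⟨t, rfl⟩ := mem_line.1 hz
  rw [hlin, ha]

/-- A pair of a line and its image, meeting but different, with image orthogonal to the line. -/
def PerpImg (QL : QuadraticForm L V) (g : V ≃ₗ[F] V) (a : V) : Prop := ∀ y ∈ img L g a, polar QL y a = 0

variable (L) in
/-- The intersection. -/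
def meet (g : V ≃ₗ[F] V) (a : V) : Submodule F V := line F L a ⊓ img L g a

/-- A line and a different image of it meeting it. -/
structure Pair (QL : QuadraticForm L V) (M : Subgroup (V ≃ₗ[F] V)) (g : V ≃ₗ[F] V) (a : V) : Prop where
  mem : g ∈ M
  ne0 : a ≠ 0
  sing : QL a = 0
  ne : img L g a ≠ line F L a
  meets : meet L g a ≠ ⊥

namespace OExt

variable {QL : QuadraticForm L V} {ε : Module.Dual F L} {Q : QuadraticForm F V} {M : Subgroup (V ≃ₗ[F] V)}
variable (hS : OExt QL ε Q M) [Finite F] [FiniteDimensional F L] [FiniteDimensional L V]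

include hS

/-- Singular lines all mapped into themselves force a scalar. -/
theorem scalar_of_lines {T : V →ₗ[F] V} (hT : ∀ v, v ≠ 0 → QL v = 0 → ∃ t : L, T v = t • v) :
    ∃ t : L, ∀ v, T v = t • v := by
  haveI : Finite L := Module.finite_of_finite F
  have h2 := hS.two'
  choose! t ht using hT
  have hkey : ∀ v w u, QL v = 0 → QL w = 0 → polar QL v w ≠ 0 → (∀ x ∈ Submodule.span L ({v, w} : Set V), polar QL u x = 0) →
      QL u = -polar QL v w → t v = t w := by
    intro v w u hv hw hvw hu hQu
    have hv0 : v ≠ 0 := fun e => hvw (by rw [e, polar_zero_left])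
    have hw0 : w ≠ 0 := fun e => hvw (by rw [e, polar_zero_right])
    have huv := hu v (Submodule.subset_span (by simp))
    have huw := hu w (Submodule.subset_span (by simp))
    have hQu0 : QL u ≠ 0 := by rw [hQu]; exact neg_ne_zero.2 hvw
    have hs1 : QL (v + w + u) = 0 := by
      rw [map_add', map_add', polar_add_left, hv, hw, hQu, polar_comm QL v u, huv, polar_comm QL w u, huw]; ring
    have hs2 : QL (v + w + (-u)) = 0 := by
      rw [map_add', map_add', polar_add_left, QuadraticMap.map_neg, polar_neg_right, polar_neg_right, hv, hw, hQu,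
        polar_comm QL v u, huv, polar_comm QL w u, huw]; ring
    have hne : ∀ x : V, polar QL x v = 0 → v + w + x ≠ 0 := fun x hx e => hvw (by
      have := congrArg (fun y => polar QL y v) e
      simpa [polar_add_left, polar_self', hv, hx, polar_comm QL w v] using this)
    have e1 := ht _ (hne u huv) hs1
    have e2 := ht _ (hne (-u) (by rw [polar_neg_left, huv, neg_zero])) hs2
    rw [map_add, map_add, ht v hv0 hv, ht w hw0 hw] at e1 e2
    rw [map_neg] at e2
    set s := t (v + w + u)
    set s' := t (v + w + -u)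
    have e : (s + s' - 2 * t v) • v + (s + s' - 2 * t w) • w + (s - s') • u = 0 := by
      linear_combination (norm := module) -e1 - e2
    have p1 := congrArg (fun y => polar QL y u) e
    have p2 := congrArg (fun y => polar QL y w) e
    have p3 := congrArg (fun y => polar QL y v) e
    simp only [polar_add_left, polar_smul_left', polar_self', hv, hw, polar_comm QL v u, huv, polar_comm QL w u,
      huw, polar_comm QL w v, polar_zero_left, mul_zero, zero_add, add_zero] at p1 p2 p3
    have q1 := (mul_eq_zero.1 p1).resolve_right (mul_ne_zero h2 hQu0)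
    have q2 := (mul_eq_zero.1 p2).resolve_right hvw
    have q3 := (mul_eq_zero.1 p3).resolve_right hvw
    exact mul_left_cancel₀ h2 (by linear_combination q3 - q2)
  haveI := Fintype.ofFinite L
  have hnon : ∀ v w, QL v = 0 → QL w = 0 → polar QL v w ≠ 0 → t v = t w := by
    intro v w hv hw hvw
    have hw0 : w ≠ 0 := fun e => hvw (by rw [e, polar_zero_right])
    obtain ⟨u, hu, hQu⟩ := exists_aniso_perp hS.nd (ndOn_pair hv hvw)
      (lt_of_le_of_lt (finrank_pair_le (F := L) v w) hS.dim)
    set s := -(QL u / polar QL v w) with hs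
    have hs0 : s ≠ 0 := neg_ne_zero.2 (div_ne_zero hQu hvw)
    have hsw : ∀ l : L, T ((s * (l * l)) • w) = (t v * (s * (l * l))) • w := by
      intro l
      rcases eq_or_ne l 0 with rfl | hl
      · simp
      have hne : s * (l * l) ≠ 0 := mul_ne_zero hs0 (mul_ne_zero hl hl)
      have hQ : QL ((s * (l * l)) • w) = 0 := by rw [map_smul', hw, mul_zero]
      rw [ht _ (smul_ne_zero hne hw0) hQ, smul_smul]
      congr 2
      refine (hkey v _ (l • u) hv hQ (by rw [polar_smul_right']; exact mul_ne_zero hne hvw) (fun x hx => ?_) ?_).symm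
      · obtain ⟨p, q, rfl⟩ := Submodule.mem_span_pair.1 hx
        simp [polar_add_right, polar_smul_left', polar_smul_right', hu v (Submodule.subset_span (by simp)),
          hu w (Submodule.subset_span (by simp))]
      · rw [map_smul', polar_smul_right', hs]; field_simp
    obtain ⟨l, k, hlk⟩ := FiniteField.exists_root_sum_quadratic (R := L) (f := Polynomial.X ^ 2)
      (g := Polynomial.X ^ 2 - Polynomial.C s⁻¹) (Polynomial.degree_X_pow 2)
      (Polynomial.degree_X_pow_sub_C (by decide) _) (FiniteField.odd_card_of_char_ne_two fun h => h2 (by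
        haveI := ringChar.of_eq h
        exact CharTwo.two_eq_zero))
    simp only [Polynomial.eval_pow, Polynomial.eval_X, Polynomial.eval_sub, Polynomial.eval_C] at hlk
    have e : T (((s * (l * l)) • w) + (s * (k * k)) • w) = t v • w := by
      rw [map_add, hsw, hsw, ← add_smul]
      congr 1
      linear_combination (t v * s) * hlk + t v * (mul_inv_cancel₀ hs0)
    rw [← add_smul, show s * (l * l) + s * (k * k) = 1 by linear_combination s * hlk + mul_inv_cancel₀ hs0, one_smul,
      ht w hw0 hw] at e
    exact smul_left_injective L hw0 e.symm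
  have hall : ∀ v w, v ≠ 0 → w ≠ 0 → QL v = 0 → QL w = 0 → t v = t w := by
    intro v w hv0 hw0 hv hw
    by_cases hvw : polar QL v w = 0
    swap
    · exact hnon v w hv hw hvw
    obtain ⟨f, hf, hvf⟩ := exists_pair hS.nd hv0 hv
    obtain ⟨f', hf', hwf'⟩ := exists_pair hS.nd hw0 hw
    by_cases h1 : polar QL w f = 0
    swap
    · exact (hnon v f hv hf (by rw [hvf]; exact one_ne_zero)).trans (hnon w f hw hf h1).symm
    by_cases h3 : polar QL v f' = 0
    swap
    · exact (hnon v f' hv hf' h3).trans (hnon w f' hw hf' (by rw [hwf']; exact one_ne_zero)).symm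
    set p := f + f' + (-polar QL f f') • v
    have hp : QL p = 0 := by
      simp only [p, map_add', map_smul', hf, hf', hv, polar_smul_right', polar_add_left, polar_comm QL f v,
        polar_comm QL f' v, hvf, h3]
      ring
    refine (hnon v p hv hp ?_).trans (hnon w p hw hp ?_).symm
    · simp [p, polar_add_right, polar_smul_right', hvf, h3, polar_self', hv]
    · simp [p, polar_add_right, polar_smul_right', h1, hwf', polar_comm QL w v, hvw]
  obtain ⟨e, he0, he⟩ := exists_singular hS.nd (by have := hS.dim; omega)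
  have hsing : ∀ v, QL v = 0 → T v = t e • v := fun v hv => by
    rcases eq_or_ne v 0 with rfl | hv0
    · simp
    · rw [ht v hv0 hv, hall v e hv0 he0 hv he]
  refine ⟨t e, fun v => ?_⟩
  obtain ⟨f, hf, hef⟩ := exists_pair hS.nd he0 he
  -- every vector is a combination of singular ones
  have key : ∀ x, polar QL x e ≠ 0 → T x = t e • x := fun x hx => by
    set c := QL x / polar QL x e
    have h1 := hsing (x + (-c) • e) (by
      simp only [c, map_add', map_smul', he, polar_smul_right']; field_simp; ring)
    rw [map_add, hsing ((-c) • e) (by rw [map_smul', he, mul_zero])] at h1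
    linear_combination (norm := module) h1
  by_cases hv : polar QL v e = 0
  · have h1 := key (v + f) (by rw [polar_add_left, hv, polar_comm, hef, zero_add]; exact one_ne_zero)
    rw [map_add, hsing f hf] at h1
    linear_combination (norm := module) h1
  · exact key v hv

/-- No line lies in the image of a meeting pair. -/
theorem noline {g : V ≃ₗ[F] V} {a y : V} (hp : Pair QL M g a) (h : ∀ l : L, l • y ∈ img L g a) : y = 0 := by
  haveI : FiniteDimensional F V := Module.Finite.trans L V
  by_contra hy
  have he : line F L y = img L g a := Submodule.eq_of_le_of_finrank_eq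
    (fun v hv => by obtain ⟨s, rfl⟩ := mem_line.1 hv; exact h s) (by rw [finrank_line hy, finrank_img g hp.ne0])
  obtain ⟨z, hz, hz0⟩ := Submodule.exists_mem_ne_zero_of_ne_bot hp.meets
  exact hp.ne (by rw [← he, ← line_eq_of_mem (he.symm ▸ hz.2 : z ∈ line F L y) hz0, line_eq_of_mem hz.1 hz0])

theorem meet_lt {g : V ≃ₗ[F] V} {a : V} (hp : Pair QL M g a) :
    Module.finrank F (meet L g a) < Module.finrank F L := by
  haveI : FiniteDimensional F V := Module.Finite.trans L V
  by_contra h
  have hA : meet L g a = line F L a :=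
    Submodule.eq_of_le_of_finrank_le inf_le_left (by rw [finrank_line hp.ne0]; omega)
  have hB : meet L g a = img L g a :=
    Submodule.eq_of_le_of_finrank_le inf_le_right (by rw [finrank_img g hp.ne0]; omega)
  exact hp.ne (hB.symm.trans hA)

/-- Conjugating an element that fixes the intersection. -/
theorem conj_pair {g : V ≃ₗ[F] V} {a : V} (hp : Pair QL M g a) {x : V ≃ₗ[F] V} (hx : x ∈ M)
    (hxZ : ∀ z ∈ meet L g a, x z = z) {y₁ : V} (hy₁ : y₁ ∈ img L g a) (hxy₁ : x y₁ ∉ img L g a) :
    Pair QL M (g⁻¹ * x * g) a ∧ (meet L g a).map (g.symm : V →ₗ[F] V) ≤ meet L (g⁻¹ * x * g) a := by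
  have hle : (meet L g a).map (g.symm : V →ₗ[F] V) ≤ meet L (g⁻¹ * x * g) a := by
    rintro _ ⟨z, hz, rfl⟩
    obtain ⟨t, rfl⟩ := mem_img.1 hz.2
    refine ⟨?_, mem_img.2 ⟨t, ?_⟩⟩
    · show g.symm (g (t • a)) ∈ _
      rw [g.symm_apply_apply]; exact smul_mem_line a t
    · show g.symm (x (g (t • a))) = g.symm (g (t • a))
      rw [hxZ _ hz]
  refine ⟨⟨mul_mem (mul_mem (inv_mem hp.mem) hx) hp.mem, hp.ne0, hp.sing, fun e => hxy₁ ?_, fun e => hp.meets ?_⟩, hle⟩
  · obtain ⟨t, rfl⟩ := mem_img.1 hy₁
    obtain ⟨s, hs⟩ := mem_line.1 (e ▸ apply_mem_img (g⁻¹ * x * g) a t)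
    refine mem_img.2 ⟨s, ?_⟩
    rw [hs]
    exact g.apply_symm_apply _
  · rw [e, le_bot_iff, Submodule.map_eq_bot_iff] at hle
    exact hle

theorem bigger {g : V ≃ₗ[F] V} {a : V} (hp : Pair QL M g a) {x : V ≃ₗ[F] V} (hx : x ∈ M)
    (hxZ : ∀ z ∈ meet L g a, x z = z) {y₀ : V} (hy₀ : y₀ ∈ img L g a) (hy₀A : y₀ ∉ line F L a)
    (hxy₀ : x y₀ ∈ img L g a) {y₁ : V} (hy₁ : y₁ ∈ img L g a) (hxy₁ : x y₁ ∉ img L g a) :
    ∃ g', Pair QL M g' a ∧ Module.finrank F (meet L g a) < Module.finrank F (meet L g' a) := by
  haveI : FiniteDimensional F V := Module.Finite.trans L V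
  obtain ⟨hp', hle⟩ := hS.conj_pair hp hx hxZ hy₁ hxy₁
  refine ⟨_, hp', ?_⟩
  rw [(Submodule.equivMapOfInjective (g.symm : V →ₗ[F] V) g.symm.injective (meet L g a)).finrank_eq]
  refine Submodule.finrank_lt_finrank_of_lt (lt_of_le_of_ne hle fun e => hy₀A ?_)
  have hm : g.symm (x y₀) ∈ meet L (g⁻¹ * x * g) a := by
    obtain ⟨t, ht⟩ := mem_img.1 hy₀
    obtain ⟨t', ht'⟩ := mem_img.1 hxy₀
    refine ⟨?_, mem_img.2 ⟨t, ?_⟩⟩
    · rw [← ht', g.symm_apply_apply]; exact smul_mem_line a t'
    · show g.symm (x (g (t • a))) = g.symm (x y₀)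
      rw [ht]
  rw [← e] at hm
  obtain ⟨z, hz, hzy⟩ := hm
  have hzy' : z = x y₀ := g.symm.injective hzy
  have : x z = x y₀ := by rw [hxZ z hz, hzy']
  rw [← x.injective this]
  exact hz.1

/-- With an orthogonal vector in the image, the pair is orthogonal with maximal intersection, or improves. -/
theorem hperp_step (h4 : 4 ≤ Module.finrank L V) {g : V ≃ₗ[F] V} {a : V} (hp : Pair QL M g a) {y₀ : V} (hy₀ : y₀ ∈ img L g a)
    (hy₀A : y₀ ∉ line F L a) (hy₀a : polar QL y₀ a = 0) :
    (PerpImg QL g a ∧ Module.finrank F (meet L g a) + 1 = Module.finrank F L) ∨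
      ∃ g', Pair QL M g' a ∧ Module.finrank F (meet L g a) < Module.finrank F (meet L g' a) := by
  classical
  haveI : FiniteDimensional F V := Module.Finite.trans L V
  haveI : Finite L := Module.finite_of_finite F
  refine (em _).symm.imp_left fun hno => ?_
  set B := img L g a with hBdef
  have ha := hp.sing
  have hall : ∀ b : V, polar QL a b = 0 → polar QL y₀ b • a ∈ B → ∀ y ∈ B,
      polar QL y a • b - polar QL y b • a ∈ B := by
    intro b hab hy₀b y hy
    have hstab : ∀ c : V, polar QL a c = 0 → polar QL y₀ c • a ∈ B →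
        polar QL y a • c - polar QL y c • a - (QL c * polar QL y a) • a ∈ B := by
      intro c hac hc
      obtain ⟨x, hx, hxv, hxl⟩ := hS.exists_E ha hac
      have hxa : x a = a := by simp [hxv, polar_self', ha, hac]
      by_contra hbad
      refine hno (hS.bigger hp hx (fun z hz => smul_fix hxl hxa hz.1) hy₀ hy₀A ?_ hy fun h => hbad ?_)
      · simpa [hxv, hy₀a, sub_eq_add_neg] using B.sub_mem hy₀ hc
      · convert B.sub_mem h hy using 1
        rw [hxv]; abel
    have h1 := hstab b hab hy₀b
    have h2 := hstab (-b) (by rw [polar_neg_right, hab, neg_zero])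
      (by rw [polar_neg_right, neg_smul]; exact B.neg_mem hy₀b)
    have h3 := B.sub_mem h1 h2
    rw [QuadraticMap.map_neg, polar_neg_right] at h3
    have h4 := B.smul_mem (2 : F)⁻¹ h3
    convert h4 using 1
    rw [show polar QL y a • b - polar QL y b • a - (QL b * polar QL y a) • a - (polar QL y a • -b - -polar QL y b • a -
      (QL b * polar QL y a) • a) = (2 : F) • (polar QL y a • b - polar QL y b • a) by
        rw [two_smul]; module, smul_smul, inv_mul_cancel₀ hS.two, one_smul]
  have hkill : ∀ b, polar QL a b = 0 → polar QL y₀ b = 0 → ∀ y ∈ B, polar QL y a • b - polar QL y b • a = 0 := by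
    intro b hab hyb y hy
    refine hS.noline hp fun l => ?_
    have := hall (l • b) (by rw [polar_smul_right', hab, mul_zero])
      (by rw [polar_smul_right', hyb, mul_zero, zero_smul]; exact B.zero_mem) y hy
    rw [polar_smul_right'] at this
    convert this using 1
    module
  have hya₀ : y₀ ∉ L ∙ a := fun h => hy₀A h
  have hspan2 : ∀ x : V, Module.finrank L (Submodule.span L {a, x}) ≤ 2 := finrank_pair_le (F := L) a
  have hperp : PerpImg QL g a := by
    intro y hy
    by_contra hya
    obtain ⟨x, hx⟩ : ∃ x, x ∉ Submodule.span L {a, y₀} := by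
      refine SetLike.exists_not_mem_of_ne_top _ (fun e => ?_) rfl
      have := hspan2 y₀
      rw [e, finrank_top] at this
      omega
    obtain ⟨b₁, hb₁, hb₁x⟩ := exists_polar hS.nd _ hx 1
    have hab : polar QL a b₁ = 0 := by rw [polar_comm]; exact hb₁ a (Submodule.subset_span (by simp))
    have hyb : polar QL y₀ b₁ = 0 := by rw [polar_comm]; exact hb₁ y₀ (Submodule.subset_span (by simp))
    -- every vector orthogonal to `a` and `y₀` is a multiple of `a`
    have hline : ∀ b, polar QL a b = 0 → polar QL y₀ b = 0 → b ∈ L ∙ a := fun b h1 h2 => by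
      refine Submodule.mem_span_singleton.2 ⟨(polar QL y a)⁻¹ * polar QL y b, ?_⟩
      rw [mul_smul, ← sub_eq_zero.1 (hkill b h1 h2 y hy), inv_smul_smul₀ hya]
    -- the perp has dimension at least two
    have hle : polarPerp QL (Submodule.span L {a, y₀}) ≤ L ∙ a := fun b hb =>
      hline b (mem_polarPerp.1 hb a (Submodule.subset_span (by simp)))
        (mem_polarPerp.1 hb y₀ (Submodule.subset_span (by simp)))
    have h1 := Submodule.finrank_mono hle
    have h2 := finrank_polarPerp hS.nd (Submodule.span L {a, y₀})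
    have h3 := hspan2 y₀
    have h5 : Module.finrank L (L ∙ a) = 1 := finrank_span_singleton hp.ne0
    omega
  refine ⟨hperp, ?_⟩
  have hlt := hS.meet_lt hp
  suffices hle : B ≤ meet L g a ⊔ F ∙ y₀ by
    have h1 := Submodule.finrank_mono hle
    have h2 := Submodule.finrank_add_le_finrank_add_finrank (meet L g a) (F ∙ y₀)
    have h3 : Module.finrank F (F ∙ y₀) ≤ 1 := by simpa using finrank_span_le_card (R := F) ({y₀} : Set V)
    rw [hBdef, finrank_img g hp.ne0] at h1
    omega
  intro y hy
  have hspan : y ∈ Submodule.span L {a, y₀} := by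
    by_contra hn
    obtain ⟨b, hb, hby⟩ := exists_polar hS.nd _ hn 1
    have := hkill b (by rw [polar_comm]; exact hb a (Submodule.subset_span (by simp)))
      (by rw [polar_comm]; exact hb y₀ (Submodule.subset_span (by simp))) y hy
    rw [hperp y hy, polar_comm, hby, zero_smul, zero_sub, one_smul, neg_eq_zero] at this
    exact hp.ne0 this
  obtain ⟨c, d, hcd⟩ := Submodule.mem_span_pair.1 hspan
  let S : Submodule F L := (meet L g a).comap ((LinearMap.toSpanSingleton L V a).restrictScalars F)
  obtain ⟨z, hz, hz0⟩ := Submodule.exists_mem_ne_zero_of_ne_bot hp.meets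
  obtain ⟨σ, hσ⟩ := mem_line.1 hz.1
  obtain ⟨f, hf⟩ := mem_range_of_stable F hS.prime (S := S) (c := d)
    (fun e => hz0 (by
      rw [← hσ, ((Submodule.mem_bot F).1 (e ▸ (show σ ∈ S by show σ • a ∈ meet L g a; rwa [hσ])) : σ = 0), zero_smul]))
    (fun e => hp.ne (Submodule.eq_of_le_of_finrank_eq (fun w hw => by
      obtain ⟨r, rfl⟩ := mem_line.1 hw
      exact (show r ∈ S from e ▸ Submodule.mem_top).2) (by rw [finrank_img g hp.ne0, finrank_line hp.ne0])).symm)
    (fun s hs => by
      obtain ⟨b, hb, hby⟩ := exists_polar hS.nd (L ∙ a) hya₀ (-s)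
      have hab : polar QL a b = 0 := by rw [polar_comm]; exact hb a (Submodule.mem_span_singleton_self a)
      have hy₀b : polar QL y₀ b = -s := by rw [polar_comm]; exact hby
      have h := hall b hab (by rw [hy₀b, neg_smul]; exact B.neg_mem hs.2) y hy
      rw [hperp y hy, zero_smul, zero_sub, ← neg_smul] at h
      refine ⟨smul_mem_line a _, ?_⟩
      show (d * s) • a ∈ B
      rw [show d * s = -polar QL y b by rw [← hcd, polar_add_left, polar_smul_left', polar_smul_left', hab, hy₀b]; ring]
      exact h)
  rw [show y = (y - f • y₀) + f • y₀ by rw [sub_add_cancel]]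
  refine Submodule.add_mem_sup ⟨mem_line.2 ⟨c, ?_⟩, B.sub_mem hy (B.smul_mem f hy₀)⟩
    (Submodule.smul_mem _ f (Submodule.mem_span_singleton_self y₀))
  rw [← hcd, ← algebraMap_smul L f y₀, hf, add_sub_cancel_right]

/-- An orthogonal vector in the image of some pair. -/
theorem to_hperp (h4 : 4 ≤ Module.finrank L V) {g : V ≃ₗ[F] V} {a : V} (hp : Pair QL M g a) :
    (∃ g', Pair QL M g' a ∧ Module.finrank F (meet L g a) < Module.finrank F (meet L g' a)) ∨
      ∃ g', Pair QL M g' a ∧ Module.finrank F (meet L g a) ≤ Module.finrank F (meet L g' a) ∧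
        ∃ y ∈ img L g' a, y ∉ line F L a ∧ polar QL y a = 0 := by
  classical
  haveI : FiniteDimensional F V := Module.Finite.trans L V
  haveI : Finite L := Module.finite_of_finite F
  by_cases hh : ∃ y ∈ img L g a, y ∉ line F L a ∧ polar QL y a = 0
  · exact Or.inr ⟨g, hp, le_rfl, hh⟩
  push Not at hh
  refine (em _).imp_right fun hno => ?_
  set B := img L g a with hBdef
  have ha := hp.sing
  obtain ⟨y₀, hy₀, hy₀A⟩ : ∃ y ∈ B, y ∉ line F L a := by
    by_contra hc
    push Not at hc
    exact hp.ne (Submodule.eq_of_le_of_finrank_eq hc (by rw [finrank_img g hp.ne0, finrank_line hp.ne0]))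
  have hne := hh y₀ hy₀ hy₀A
  have hay : polar QL a y₀ ≠ 0 := by rw [polar_comm]; exact hne
  have hU := ndOn_pair ha hay
  have hdU := finrank_pair_le (F := L) a y₀
  have haU : a ∈ Submodule.span L ({a, y₀} : Set V) := Submodule.subset_span (by simp)
  have hyU : y₀ ∈ Submodule.span L ({a, y₀} : Set V) := Submodule.subset_span (by simp)
  -- the image lies in the span
  have hBU : ∀ y ∈ B, y ∈ Submodule.span L ({a, y₀} : Set V) := by
    intro y hy
    set d := polar QL y a / polar QL y₀ a with hd
    set c := (polar QL y y₀ - d * (2 * QL y₀)) / polar QL a y₀ with hc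
    set w := y - c • a - d • y₀ with hw
    have hwa : polar QL w a = 0 := by
      simp only [w, polar_sub_left, polar_smul_left', polar_self', ha, mul_zero, sub_zero]
      rw [hd, div_mul_cancel₀ _ hne, sub_self]
    have hwy : polar QL w y₀ = 0 := by
      simp only [w, polar_sub_left, polar_smul_left', polar_self']
      rw [hc, div_mul_cancel₀ _ hay]; ring
    by_cases hw0 : w = 0
    · rw [show y = c • a + d • y₀ by rw [← sub_eq_zero, ← hw0, hw]; abel]
      exact add_mem (Submodule.smul_mem _ _ haU) (Submodule.smul_mem _ _ hyU)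
    exfalso
    -- a rotation fixing `a` and `y₀` but not `w`
    obtain ⟨x, hx, hxl, hfix, hxw⟩ : ∃ x ∈ M, (∀ (l : L) (v : V), x (l • v) = l • x v) ∧
        (∀ p, (∀ v, polar QL v a = 0 → polar QL v y₀ = 0 → polar QL p v = 0) → x p = p) ∧ x w ≠ w := by
      have h2 := hS.two'
      by_cases hQw : QL w = 0
      · obtain ⟨f, hf, hwf, hfU⟩ := exists_partner hS.nd _ (fun h => hw0 (hU w h fun u hu => by
            obtain ⟨p, r, rfl⟩ := Submodule.mem_span_pair.1 hu
            simp [polar_add_right, polar_smul_right', hwa, hwy])) hQw (fun u hu => by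
            obtain ⟨p, r, rfl⟩ := Submodule.mem_span_pair.1 hu
            simp [polar_add_right, polar_smul_right', hwa, hwy])
        haveI := Fintype.ofFinite L
        obtain ⟨t, ht0, ht1, ht2⟩ : ∃ t : L, t ≠ 0 ∧ t ≠ 1 ∧ t ≠ -1 := by
          by_contra hcon
          push Not at hcon
          have hsub : (Finset.univ : Finset L) ⊆ {0, 1, -1} := fun t _ => by
            by_cases h0 : t = 0
            · simp [h0]
            by_cases h1 : t = 1
            · simp [h1]
            simp [hcon t h0 h1]
          have h5 := (Finset.card_le_card hsub).trans Finset.card_le_three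
          rw [Finset.card_univ, ← Nat.card_eq_fintype_card, Module.natCard_eq_pow_finrank (K := F) (V := L)] at h5
          have h6 : 2 ^ 2 ≤ Nat.card F ^ Module.finrank F L :=
            (Nat.pow_le_pow_left Finite.one_lt_card 2).trans (Nat.pow_le_pow_right Nat.card_pos hS.prime.two_le)
          omega
        have hu : QL (w + f) = 1 := by rw [map_add', hQw, hf, hwf]; ring
        have hv : QL (w + t • f) = t := by rw [map_add', map_smul', polar_smul_right', hQw, hf, hwf]; ring
        have hu' : QL (w + f) ≠ 0 := by rw [hu]; exact one_ne_zero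
        have hv' : QL (w + t • f) ≠ 0 := by rw [hv]; exact ht0
        obtain ⟨x, hx, hxp, hxl, hxfix⟩ := hS.exists_rot hu' hv'
        refine ⟨x, hx, hxl, fun p hp' => hxfix p (hp' _ ?_ ?_) (hp' _ ?_ ?_), ?_⟩
        iterate 4 simp [polar_add_left, polar_smul_left', hwa, hwy, hfU a haU, hfU y₀ hyU]
        have hf1 : refl QL (w + f) hu' f = -w := by
          rw [refl_apply, hu, inv_one, one_mul, polar_add_right, polar_comm QL f w, hwf, polar_self', hf]; module
        have hw1 : refl QL (w + t • f) hv' w = -t • f := by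
          rw [refl_apply, hv, polar_add_right, polar_smul_right', hwf, polar_self', hQw, mul_one, mul_zero, zero_add,
            inv_mul_cancel₀ ht0]
          module
        have e : x w = (t * t) • w := by
          rw [hxp, hw1, map_smul, hf1, map_smul, map_neg, hw1, map_smul, map_neg, map_smul, hf1]; module
        rw [e]
        intro h
        have h' : t * t - 1 = 0 := by
          have h0 : (t * t - 1) • w = 0 := by rw [sub_smul, h, one_smul, sub_self]
          exact (smul_eq_zero.1 h0).resolve_right hw0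
        rcases mul_eq_zero.1 (show (t - 1) * (t + 1) = 0 by linear_combination h') with h | h
        · exact ht1 (sub_eq_zero.1 h)
        · exact ht2 (eq_neg_of_add_eq_zero_left h)
      · -- a vector neither orthogonal nor proportional to `w`
        obtain ⟨z, hz⟩ : ∃ z, z ∉ Submodule.span L ({a, y₀, w} : Set V) := by
          refine SetLike.exists_not_mem_of_ne_top _ (fun e => ?_) rfl
          have h1 := finrank_span_le_card (R := L) ({a, y₀, w} : Set V)
          rw [e, finrank_top] at h1
          have : ({a, y₀, w} : Set V).toFinset.card ≤ 3 := by simpa using Finset.card_le_three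
          omega
        obtain ⟨v₁, hv₁, hv₁z⟩ := exists_polar hS.nd _ hz 1
        have hv₁a := hv₁ a (Submodule.subset_span (by simp))
        have hv₁y := hv₁ y₀ (Submodule.subset_span (by simp))
        have hv₁w := hv₁ w (Submodule.subset_span (by simp))
        have hv₁0 : v₁ ≠ 0 := fun e => one_ne_zero (by rw [← hv₁z, e, polar_zero_left])
        obtain ⟨t, ht0, ht⟩ : ∃ t : L, t ≠ 0 ∧ QL w + t * t * QL v₁ ≠ 0 := by
          by_contra hcon
          push Not at hcon
          haveI := Fintype.ofFinite L
          by_cases h1 : QL w + QL v₁ = 0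
          · obtain ⟨t, ht0, ht1, ht2⟩ : ∃ t : L, t ≠ 0 ∧ t ≠ 1 ∧ t ≠ -1 := by
              by_contra hcon'
              push Not at hcon'
              have hsub : (Finset.univ : Finset L) ⊆ {0, 1, -1} := fun t _ => by
                by_cases h0 : t = 0
                · simp [h0]
                by_cases h1 : t = 1
                · simp [h1]
                simp [hcon' t h0 h1]
              have h5 := (Finset.card_le_card hsub).trans Finset.card_le_three
              rw [Finset.card_univ, ← Nat.card_eq_fintype_card, Module.natCard_eq_pow_finrank (K := F) (V := L)] at h5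
              have h6 : 2 ^ 2 ≤ Nat.card F ^ Module.finrank F L :=
                (Nat.pow_le_pow_left Finite.one_lt_card 2).trans (Nat.pow_le_pow_right Nat.card_pos hS.prime.two_le)
              omega
            have h3 : (t - 1) * (t + 1) * QL v₁ = 0 := by linear_combination hcon t ht0 - h1
            rcases mul_eq_zero.1 h3 with h | h
            · rcases mul_eq_zero.1 h with h | h
              · exact ht1 (sub_eq_zero.1 h)
              · exact ht2 (eq_neg_of_add_eq_zero_left h)
            · exact hQw (by rwa [h, add_zero] at h1)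
          · exact h1 (by simpa using hcon 1 one_ne_zero)
        set v := w + t • v₁ with hv
        have hQv : QL v ≠ 0 := by
          rw [hv, map_add', map_smul', polar_smul_right', polar_comm QL w v₁, hv₁w]; simpa using ht
        obtain ⟨x, hx, hxp, hxl, hxfix⟩ := hS.exists_rot hQw hQv
        refine ⟨x, hx, hxl, fun p hp' => hxfix p (hp' _ hwa hwy) (hp' _ ?_ ?_), fun h => ?_⟩
        iterate 2 simp [hv, polar_add_left, polar_smul_left', hwa, hwy, hv₁a, hv₁y]
        have hrw : refl QL w hQw w = -w := by
          rw [refl_apply, polar_self', show (QL w)⁻¹ * (2 * QL w) = 2 by field_simp]; module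
        have h' : refl QL w hQw (refl QL v hQv w) = -refl QL v hQv w := by
          rw [hxp] at h
          have := congrArg (fun p => refl QL v hQv (refl QL w hQw p)) h
          have hrr : ∀ (z : V) (hz : QL z ≠ 0) (p : V), refl QL z hz (refl QL z hz p) = p := fun z hz p => by
            rw [← LinearEquiv.mul_apply, refl_mul_self]; rfl
          simp only [hrr] at this
          rwa [hrw, map_neg] at this
        have hvv₁ : polar QL v w = 2 * QL w := by
          rw [hv, polar_add_left, polar_smul_left', hv₁w, polar_self']; ring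
        rw [refl_apply QL v hQv w, map_sub, map_smul, hrw, refl_apply QL w hQw v, polar_comm QL w v, hvv₁,
          show (QL w)⁻¹ * (2 * QL w) = 2 by field_simp] at h'
        set k := (QL v)⁻¹ * (2 * QL w) with hk
        have h4 : (-2 * k) • (t • v₁) = 0 := by
          rw [hv] at h'
          linear_combination (norm := module) h'
        rcases smul_eq_zero.1 h4 with h | h
        · rw [hk] at h
          simp [h2, hQv, hQw] at h
        · exact hv₁0 ((smul_eq_zero.1 h).resolve_left ht0)
    have hxa : x a = a := hfix a fun v h1 _ => by rw [polar_comm]; exact h1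
    have hxy : x y₀ = y₀ := hfix y₀ fun v _ h2 => by rw [polar_comm]; exact h2
    have hxyB : x y ∈ B := by
      by_contra hbad
      exact hno (hS.bigger hp hx (fun z hz => smul_fix hxl hxa hz.1) hy₀ hy₀A (by rwa [hxy]) hy hbad)
    have hD : x y - y = x w - w := by
      have : y = w + c • a + d • y₀ := by rw [hw]; abel
      conv_lhs => rw [this, map_add, map_add, hxl, hxl, hxa, hxy]
      abel
    have hDB := B.sub_mem hxyB hy
    rw [hD] at hDB
    have hpol : ∀ u, x u = u → polar QL (x w) u = polar QL w u := fun u hu => hS.eps_ext fun s => by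
      rw [← polar_smul_right', ← polar_smul_right', ← hS.polarQ, ← hS.polarQ]
      conv_lhs => rw [show s • u = x (s • u) by rw [hxl, hu]]
      exact orth_polar (hS.mem_orthQ hx) w (s • u)
    have hDa : polar QL (x w - w) a = 0 := by rw [polar_sub_left, hpol a hxa, sub_self]
    have hDA : x w - w ∈ line F L a := by
      by_contra hn
      exact hh _ hDB hn hDa
    obtain ⟨s, hs⟩ := mem_line.1 hDA
    have : s * polar QL a y₀ = 0 := by
      rw [← polar_smul_left', hs, polar_sub_left, hpol y₀ hxy, sub_self]
    rw [(mul_eq_zero.1 this).resolve_right hay, zero_smul] at hs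
    exact hxw (sub_eq_zero.1 hs.symm)
  -- move by a Siegel element of suitable value
  obtain ⟨z, hz, hz0⟩ := Submodule.exists_mem_ne_zero_of_ne_bot hp.meets
  obtain ⟨σ, hσ⟩ := mem_line.1 hz.1
  have hσ0 : σ ≠ 0 := fun e => hz0 (by rw [← hσ, e, zero_smul])
  obtain ⟨b, hb, hQb⟩ := exists_value hS.nd hU (by omega) (σ / polar QL y₀ a)
  have hQb0 : QL b ≠ 0 := by rw [hQb]; exact div_ne_zero hσ0 hne
  obtain ⟨x, hx, hxv, hxl⟩ := hS.exists_E ha (by rw [polar_comm]; exact hb a haU)
  have hxa : x a = a := by simp [hxv, polar_self', ha, polar_comm QL a b, hb a haU]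
  have hy₀b : polar QL y₀ b = 0 := by rw [polar_comm]; exact hb y₀ hyU
  have hxy₀B : x y₀ ∉ B := fun h => hQb0 (by
    have hm : polar QL y₀ a • b - (QL b * polar QL y₀ a) • a ∈ Submodule.span L ({a, y₀} : Set V) := by
      have := sub_mem (hBU _ h) hyU
      rwa [hxv, hy₀b, zero_smul, sub_zero, add_sub_assoc, add_sub_cancel_left] at this
    have hm' : polar QL y₀ a • b ∈ Submodule.span L ({a, y₀} : Set V) := by
      simpa using add_mem hm (Submodule.smul_mem _ (QL b * polar QL y₀ a) haU)
    have hbU : b ∈ Submodule.span L ({a, y₀} : Set V) := by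
      simpa [smul_smul, inv_mul_cancel₀ hne] using Submodule.smul_mem _ (polar QL y₀ a)⁻¹ hm'
    rw [hU b hbU fun u hu => hb u hu, QuadraticMap.map_zero])
  obtain ⟨hp', hle⟩ := hS.conj_pair hp hx (fun z hz => smul_fix hxl hxa hz.1) hy₀ hxy₀B
  refine ⟨_, hp', ?_, g.symm (x y₀), ?_, fun hm => hxy₀B ?_, ?_⟩
  · rw [(Submodule.equivMapOfInjective (g.symm : V →ₗ[F] V) g.symm.injective (meet L g a)).finrank_eq]
    exact Submodule.finrank_mono hle
  · obtain ⟨t, ht⟩ := mem_img.1 hy₀
    refine mem_img.2 ⟨t, ?_⟩
    show g.symm (x (g (t • a))) = _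
    rw [ht]
  · obtain ⟨s, hs⟩ := mem_line.1 hm
    exact mem_img.2 ⟨s, by rw [hs, g.apply_symm_apply]⟩
  · refine hS.eps_ext fun t => ?_
    rw [← polar_smul_right', ← hS.polarQ, ← orth_polar (hS.mem_orthQ hp.mem) (g.symm (x y₀)) (t • a),
      g.apply_symm_apply, mul_zero, map_zero]
    obtain ⟨t₀, ht₀⟩ := mem_img.1 hy₀
    have hB0 : polar Q y₀ (g (t • a)) = 0 := by
      rw [← ht₀, orth_polar (hS.mem_orthQ hp.mem), hS.perpQ]
      rw [polar_smul_left', polar_smul_right', polar_self', ha, mul_zero, mul_zero, mul_zero]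
    set y := g (t • a)
    have hyU' := hBU y (apply_mem_img g a t)
    rw [hxv, hy₀b, zero_smul, sub_zero, polar_sub_left, polar_add_left, hB0, zero_add, hS.polarQ, hS.polarQ,
      polar_smul_left', polar_smul_left', hb y hyU', mul_zero, map_zero, zero_sub, neg_eq_zero, hQb,
      div_mul_cancel₀ _ hne, polar_comm QL a y, ← polar_smul_right', ← hS.polarQ, hσ]
    obtain ⟨t₁, ht₁⟩ := mem_img.1 hz.2
    rw [← ht₁, orth_polar (hS.mem_orthQ hp.mem), hS.perpQ]
    rw [polar_smul_left', polar_smul_right', polar_self', ha, mul_zero, mul_zero, mul_zero]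

/-- Outside the normaliser some image of a line meets the line. -/
theorem exists_pair_of_move (h4 : 4 ≤ Module.finrank L V) {u : V ≃ₗ[F] V} (hu : u ∈ M)
    (hn : ¬ ∀ s : L, ∃ t : L, ∀ v : V, u (t • v) = s • u v) : ∃ g a, Pair QL M g a := by
  classical
  haveI : FiniteDimensional F V := Module.Finite.trans L V
  haveI : Finite L := Module.finite_of_finite F
  obtain ⟨s, u₀, hu₀0, hu₀, hs⟩ : ∃ s : L, ∃ u₀, u₀ ≠ 0 ∧ QL u₀ = 0 ∧ s • u u₀ ∉ img L u u₀ := by
    by_contra hcon
    push Not at hcon
    refine hn fun s => ?_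
    let T : V →ₗ[F] V := (u.symm : V →ₗ[F] V) ∘ₗ ((s • LinearMap.id : V →ₗ[L] V).restrictScalars F) ∘ₗ (u : V →ₗ[F] V)
    obtain ⟨t, ht⟩ := hS.scalar_of_lines (T := T) fun v hv0 hv => by
      obtain ⟨t, ht⟩ := mem_img.1 (hcon s v hv0 hv)
      exact ⟨t, u.injective (by rw [ht]; simp [T])⟩
    exact ⟨t, fun v => by rw [← ht v]; simp [T]⟩
  set B := img L u u₀ with hB
  have hnol : ∀ y, y ≠ 0 → B ≠ line F L y := fun y hy e => hs (by
    have : u u₀ ∈ line F L y := e ▸ (by simpa using apply_mem_img u u₀ (1 : L))
    obtain ⟨r, hr⟩ := mem_line.1 this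
    rw [e, ← hr, smul_smul]; exact smul_mem_line y _)
  by_cases hc : ∃ y ∈ B, y ≠ 0 ∧ QL y = 0
  · obtain ⟨y, hy, hy0, hQy⟩ := hc
    obtain ⟨t₀, ht₀⟩ := mem_img.1 hy
    have ht₀0 : t₀ ≠ 0 := fun e => hy0 (by rw [← ht₀, e, zero_smul, map_zero])
    obtain ⟨x, hx, hxy, hxl⟩ := hS.exists_move h4 hy0 (smul_ne_zero ht₀0 hu₀0) hQy (by rw [map_smul', hu₀, mul_zero])
    have himg : img L (u * x) y = B := by
      ext v
      rw [mem_img, mem_img]
      constructor
      · rintro ⟨t, rfl⟩
        refine ⟨t * t₀, ?_⟩
        show u ((t * t₀) • u₀) = u (x (t • y))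
        rw [hxl, hxy, smul_smul]
      · rintro ⟨t, rfl⟩
        refine ⟨t / t₀, ?_⟩
        show u (x ((t / t₀) • y)) = u (t • u₀)
        rw [hxl, hxy, smul_smul, div_mul_cancel₀ _ ht₀0]
    refine ⟨u * x, y, mul_mem hu hx, hy0, hQy, by rw [himg]; exact hnol y hy0, fun e => hy0 ?_⟩
    have : y ∈ meet L (u * x) y := ⟨self_mem_line y, by rw [himg]; exact hy⟩
    rwa [e, Submodule.mem_bot] at this
  push Not at hc
  have hw : u u₀ ∈ B := by simpa using apply_mem_img u u₀ (1 : L)
  set w := u u₀ with hwdef
  have hw0 : w ≠ 0 := fun e => hu₀0 (u.map_eq_zero_iff.1 e)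
  have hQw := hc w hw hw0
  have hU := ndOn_single hS.two' hQw
  have hdU : Module.finrank L (L ∙ w) = 1 := finrank_span_singleton hw0
  suffices hmv : ∃ x ∈ M, x w = w ∧ ∃ y ∈ B, x y ∉ B by
    obtain ⟨x, hx, hxw, y, hy, hxy⟩ := hmv
    refine ⟨u⁻¹ * x * u, u₀, mul_mem (mul_mem (inv_mem hu) hx) hu, hu₀0, hu₀, fun e => hxy ?_, fun e => hu₀0 ?_⟩
    · obtain ⟨t, rfl⟩ := mem_img.1 hy
      obtain ⟨r, hr⟩ := mem_line.1 (e ▸ apply_mem_img (u⁻¹ * x * u) u₀ t)
      exact mem_img.2 ⟨r, by rw [hr]; exact u.apply_symm_apply _⟩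
    · have : u₀ ∈ meet L (u⁻¹ * x * u) u₀ := ⟨self_mem_line u₀, mem_img.2 ⟨1, by
        show u.symm (x (u ((1 : L) • u₀))) = u₀
        rw [one_smul, ← hwdef, hxw, hwdef, u.symm_apply_apply]⟩⟩
      rwa [e, Submodule.mem_bot] at this
  by_contra hno
  push Not at hno
  have hBw : B ≤ line F L w := by
    intro y hy
    have hperp : ∀ e, e ≠ 0 → QL e = 0 → (∀ v ∈ L ∙ w, polar QL e v = 0) → polar QL y e = 0 := by
      intro e he0 he heU
      have hew : polar QL e w = 0 := heU w (Submodule.mem_span_singleton_self w)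
      obtain ⟨f, hf, hef, hfU⟩ := exists_partner hS.nd (L ∙ w) (fun h => he0 (hU e h heU)) he heU
      have hef0 : polar QL e f ≠ 0 := by rw [hef]; exact one_ne_zero
      have hU3 : NdOn QL (Submodule.span L (insert w ({e, f} : Set V))) := ndOn_insert hS.two' (ndOn_pair he hef0) hQw
        fun v hv => by
          obtain ⟨p, r, rfl⟩ := Submodule.mem_span_pair.1 hv
          rw [polar_add_right, polar_smul_right', polar_smul_right', polar_comm QL w e, hew, polar_comm QL w f,
            hfU w (Submodule.mem_span_singleton_self w)]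
          ring
      obtain ⟨b, hb, hQb⟩ := exists_aniso_perp hS.nd hU3 (by
        have h1 := finrank_span_le_card (R := L) (insert w ({e, f} : Set V))
        have : (insert w ({e, f} : Set V)).toFinset.card ≤ 3 := by simpa using Finset.card_le_three
        omega)
      have hbe : polar QL e b = 0 := by rw [polar_comm]; exact hb e (Submodule.subset_span (by simp))
      have hbw : polar QL w b = 0 := by rw [polar_comm]; exact hb w (Submodule.subset_span (by simp))
      have hwe : polar QL w e = 0 := by rw [polar_comm]; exact hew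
      obtain ⟨x, hx, hxv, -⟩ := hS.exists_E he hbe
      obtain ⟨x', hx', hxv', -⟩ := hS.exists_E he (b := -b) (by rw [polar_neg_right, hbe, neg_zero])
      have h1 := B.sub_mem (hno x hx (by simp [hxv, hwe, hbw]) y hy) hy
      have h2 := B.sub_mem (hno x' hx' (by simp [hxv', hwe, hbw, polar_neg_right]) y hy) hy
      have h3 := B.add_mem h1 h2
      rw [hxv, hxv', polar_neg_right, QuadraticMap.map_neg] at h3
      have h4 : (-2 * (QL b * polar QL y e)) • e ∈ B := by convert h3 using 1; module
      by_contra hye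
      exact hc _ h4 (smul_ne_zero (mul_ne_zero (neg_ne_zero.2 hS.two') (mul_ne_zero hQb hye)) he0)
        (by rw [map_smul', he, mul_zero])
    set k := polar QL y w / (2 * QL w) with hk
    have h0 := eq_zero_of_singular_perp hS.nd hU (by omega) (y := y - k • w) (fun v hv => by
        obtain ⟨r, rfl⟩ := Submodule.mem_span_singleton.1 hv
        rw [polar_smul_right', polar_sub_left, polar_smul_left', polar_self', hk,
          div_mul_cancel₀ _ (mul_ne_zero hS.two' hQw), sub_self, mul_zero])
      (fun e he0 he heU => by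
        rw [polar_sub_left, polar_smul_left', hperp e he0 he heU, polar_comm,
          heU w (Submodule.mem_span_singleton_self w), mul_zero, sub_zero])
    rw [sub_eq_zero] at h0
    rw [h0]; exact smul_mem_line w k
  exact hnol w hw0 (Submodule.eq_of_le_of_finrank_eq hBw (by rw [hB, finrank_img u hu₀0, finrank_line hw0]))

/-- An orthogonal pair meeting in a hyperplane of each. -/
theorem exists_touching (h4 : 4 ≤ Module.finrank L V) {u : V ≃ₗ[F] V} (hu : u ∈ M)
    (hn : ¬ ∀ s : L, ∃ t : L, ∀ v : V, u (t • v) = s • u v) :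
    ∃ g a, Pair QL M g a ∧ PerpImg QL g a ∧ Module.finrank F (meet L g a) + 1 = Module.finrank F L := by
  haveI : FiniteDimensional F V := Module.Finite.trans L V
  obtain ⟨g₀, a, hp₀⟩ := hS.exists_pair_of_move h4 hu hn
  suffices ∀ n g, Pair QL M g a → Module.finrank F L ≤ Module.finrank F (meet L g a) + n →
      ∃ g', Pair QL M g' a ∧ PerpImg QL g' a ∧ Module.finrank F (meet L g' a) + 1 = Module.finrank F L by
    obtain ⟨g', h⟩ := this _ g₀ hp₀ (Nat.le_add_left _ _)
    exact ⟨g', a, h⟩
  intro n
  induction n with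
  | zero =>
    intro g hp hle
    have := hS.meet_lt hp
    omega
  | succ n ih =>
    intro g hp hle
    rcases hS.to_hperp h4 hp with ⟨g', hp', hlt⟩ | ⟨g', hp', hle', y, hy, hyA, hya⟩
    · exact ih g' hp' (by omega)
    rcases hS.hperp_step h4 hp' hy hyA hya with h | ⟨g'', hp'', hlt⟩
    · exact ⟨g', hp', h⟩
    · exact ih g'' hp'' (by omega)

end OExt

end CfsgLib.OrthField
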