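import Cfsg.Agent.Lib.OrthField.Lines

/-!
An orthogonal touching pair gives a root group of the small field not inside a root group of the big one.
-/

set_option autoImplicit false
set_option linter.unusedSectionVars false
set_option linter.style.haveILetI false

namespace CfsgLib.OrthField

open QuadraticMap CfsgLib.Geometry CfsgLib.OrthMax CfsgLib.FieldMax

variable {F L V : Type*} [Field F] [Field L] [Algebra F L] [AddCommGroup V] [Module F V] [Module L V]
  [IsScalarTower F L V]

namespace OExt

variable {QL : QuadraticForm L V} {ε : Module.Dual F L} {Q : QuadraticForm F V} {M : Subgroup (V ≃ₗ[F] V)}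
variable (hS : OExt QL ε Q M) [Finite F] [FiniteDimensional F L] [FiniteDimensional L V]

include hS

/-- Commutator of a Siegel element over the big field with an isometry displacing along two vectors. -/
theorem conj_comm {k : V ≃ₗ[F] V} (hk : k ∈ M) {a b : V} (ha : QL a = 0) (hab : polar QL a b = 0)
    (hka : ∀ t : L, k (t • a) = t • a) {s σ μ' μ : L}
    (hkb : ∀ t : L, k (t • b) = t • b - ε (μ' * t) • s • a - ε (μ * t) • σ • a)
    (h1 : Q (s • a) = 0) (h2 : polar Q (s • a) (μ' • a) = 0) (h3 : Q (σ • a) = 0)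
    (h4 : polar Q (σ • a) (μ • a) = 0) :
    siegel Q (s • a) (μ' • a) h1 h2 * siegel Q (σ • a) (μ • a) h3 h4 ∈ M := by
  obtain ⟨x, hx, hxv, hxl⟩ := hS.exists_E ha hab
  have hβa : ∀ p, polar QL (k p) a = polar QL p a := fun p => hS.eps_ext fun t => by
    rw [← polar_smul_right', ← hS.polarQ, ← hka t, orth_polar (hS.mem_orthQ hk), hS.polarQ, polar_smul_right']
  have hβb : ∀ p, polar QL (k p) b =
      polar QL p b + ε (s * polar QL p a) • μ' + ε (σ * polar QL p a) • μ := fun p => hS.eps_ext fun t => by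
    have e : polar Q (k p) (t • b) = polar Q p (t • b) + ε (μ' * t) * ε (s * polar QL p a) +
        ε (μ * t) * ε (σ * polar QL p a) := by
      have : t • b = k (t • b + ε (μ' * t) • s • a + ε (μ * t) • σ • a) := by
        rw [map_add, map_add, hkb, map_smul k (ε (μ' * t)), map_smul k (ε (μ * t)), hka, hka]; abel
      conv_lhs => rw [this, orth_polar (hS.mem_orthQ hk)]
      rw [polar_add_right, polar_add_right, polar_smul_right' _ (ε (μ' * t)), polar_smul_right' _ (ε (μ * t)),
        hS.polarQ p (s • a), hS.polarQ p (σ • a), polar_smul_right', polar_smul_right']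
    rw [hS.polarQ, hS.polarQ, polar_smul_right', polar_smul_right'] at e
    rw [e, mul_add, mul_add, mul_smul_comm, mul_smul_comm, map_add, map_add, eps_smul', eps_smul', mul_comm t μ',
      mul_comm t μ]
    ring
  have key : k * x = siegel Q (s • a) (μ' • a) h1 h2 * siegel Q (σ • a) (μ • a) h3 h4 * x * k := by
    refine LinearEquiv.ext fun p => ?_
    simp only [LinearEquiv.mul_apply]
    have e1 : k (x p) = k p + (polar QL p a • b - ε (μ' * polar QL p a) • s • a - ε (μ * polar QL p a) • σ • a) -
        polar QL p b • a - (QL b * polar QL p a) • a := by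
      rw [hxv, map_sub, map_sub, map_add, hka, hka, hkb]
    have e2 : polar QL (x (k p)) a = polar QL p a := by
      simp [hxv, polar_add_left, polar_sub_left, polar_smul_left', polar_self', ha, polar_comm QL b a, hab, hβa]
    have h0 : ∀ l : L, Q (l • a) = 0 := fun l => hS.singQ (by rw [map_smul', ha, mul_zero])
    have hp : ∀ (l m : L) (v : V), polar QL v a = polar QL (x (k p)) a →
        ∀ (hl : Q (l • a) = 0) (hm : polar Q (l • a) (m • a) = 0), siegel Q (l • a) (m • a) hl hm v =
          v + ε (l * polar QL p a) • m • a - ε (m * polar QL p a) • l • a := fun l m v hv hl hm => by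
      rw [siegel_apply, hS.polarQ, hS.polarQ, polar_smul_right', polar_smul_right', hv, e2, h0]
      simp
    rw [hp σ μ _ rfl, hp s μ' _ (by
      simp [polar_add_left, polar_sub_left, lpolar_smul_left, polar_smul_left', polar_self', ha]), e1]
    rw [hxv (k p), hβa, hβb, add_smul, add_smul, smul_assoc, smul_assoc]
    abel
  rw [show siegel Q (s • a) (μ' • a) h1 h2 * siegel Q (σ • a) (μ • a) h3 h4 = k * x * k⁻¹ * x⁻¹ by rw [key]; group]
  exact mul_mem (mul_mem (mul_mem hk hx) (inv_mem hk)) (inv_mem hx)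

/-- A conjugated Siegel element moving the line along a given vector of the intersection. -/
theorem exists_shift {g : V ≃ₗ[F] V} {a : V} (hp : Pair QL M g a) (hperp : PerpImg QL g a)
    (hk : Module.finrank F (meet L g a) + 1 = Module.finrank F L) {σ : L} (hσ : σ • a ∈ img L g a) :
    ∃ (c : V ≃ₗ[F] V) (η : L) (d : V →ₗ[F] V), c ∈ M ∧ η ≠ 0 ∧ ε (η * σ) = 0 ∧ (∀ y ∈ img L g a, c y = y) ∧
      (∀ x, (∀ y ∈ img L g a, polar Q x y = 0) → c x = x + d x) ∧ (∀ x, d x ∈ img L g a) ∧
      (∀ t : L, c (t • a) = t • a + ε (η * t) • σ • a) ∧ (∀ t : L, ε (η * t) = 0 → t • a ∈ img L g a) := by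
  haveI : FiniteDimensional F V := Module.Finite.trans L V
  haveI := Fintype.ofFinite F
  have ha := hp.sing
  set B := img L g a with hBdef
  obtain ⟨w', hw'A, hw'Z, hA⟩ := exists_between (inf_le_left : meet L g a ≤ line F L a)
    (by rw [finrank_line hp.ne0]; exact hk)
  obtain ⟨σ₀, hσ₀⟩ := mem_img.1 hσ
  have hgw' : g.symm w' ∉ L ∙ a := fun h => hw'Z ⟨hw'A, by
    obtain ⟨r, hr⟩ := Submodule.mem_span_singleton.1 h
    exact mem_img.2 ⟨r, by rw [hr, g.apply_symm_apply]⟩⟩
  obtain ⟨b₀, hb₀, hb₀w⟩ := exists_polar hS.nd (L ∙ a) hgw' (-σ₀)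
  have hab : polar QL a b₀ = 0 := by rw [polar_comm]; exact hb₀ a (Submodule.mem_span_singleton_self a)
  obtain ⟨x, hx, hxv, hxl⟩ := hS.exists_E ha hab
  have hxa : x a = a := by simp [hxv, polar_self', ha, hab]
  let d : V →ₗ[F] V := (g : V →ₗ[F] V) ∘ₗ
    ((-(LinearMap.toSpanSingleton L V a ∘ₗ (polarBilin QL).flip b₀)).restrictScalars F) ∘ₗ (g.symm : V →ₗ[F] V)
  have hd : ∀ v, d v = g (-(polar QL (g.symm v) b₀) • a) := fun v => by
    simp [d, neg_smul]
  have hcB : ∀ y ∈ B, (g * x * g⁻¹) y = y := fun y hy => by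
    obtain ⟨t, rfl⟩ := mem_img.1 hy
    show g (x (g.symm (g (t • a)))) = _
    rw [g.symm_apply_apply, hxl, hxa]
  have hcp : ∀ v, (∀ y ∈ B, polar Q v y = 0) → (g * x * g⁻¹) v = v + d v := fun v hv => by
    show g (x (g.symm v)) = _
    have hva : polar QL (g.symm v) a = 0 := hS.eps_ext fun t => by
      rw [← polar_smul_right', ← hS.polarQ, ← orth_polar (hS.mem_orthQ hp.mem), g.apply_symm_apply,
        hv _ (apply_mem_img g a t), mul_zero, map_zero]
    rw [hd, hxv, hva, zero_smul, mul_zero, zero_smul, sub_zero, add_zero, map_sub, g.apply_symm_apply, neg_smul,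
      map_neg, sub_eq_add_neg]
  have hAB : ∀ v ∈ line F L a, ∀ y ∈ B, polar Q v y = 0 := fun v hv y hy => by
    obtain ⟨t, rfl⟩ := mem_line.1 hv
    rw [hS.polarQ, polar_smul_left', polar_comm QL a y, hperp y hy, mul_zero, map_zero]
  obtain ⟨φ, hφw, hφZ⟩ := Submodule.exists_dual_map_eq_bot_of_notMem hw'Z inferInstance
  have hφZ' : ∀ z ∈ meet L g a, φ z = 0 := fun z hz => (Submodule.mem_bot F).1 (hφZ ▸ Submodule.mem_map_of_mem hz)
  obtain ⟨ν, hν⟩ := exists_form ε hS.eps (((φ w')⁻¹ • φ) ∘ₗ (LinearMap.toSpanSingleton L V a).restrictScalars F)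
  set η := ν 1 with hη
  have hν' : ∀ t : L, (φ w')⁻¹ * φ (t • a) = ε (η * t) := fun t => by
    have := hν t
    rw [show ν t = η * t by rw [hη, mul_comm, ← smul_eq_mul t, ← map_smul, smul_eq_mul, mul_one]] at this
    simpa using this
  have hdec : ∀ v ∈ line F L a, v - ((φ w')⁻¹ * φ v) • w' ∈ meet L g a := fun v hv => by
    rw [hA, Submodule.mem_sup] at hv
    obtain ⟨z, hz, q, hq, rfl⟩ := hv
    obtain ⟨f, rfl⟩ := Submodule.mem_span_singleton.1 hq
    rw [map_add, hφZ' z hz, map_smul, zero_add, smul_eq_mul,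
      show (φ w')⁻¹ * (f * φ w') = f by field_simp, add_sub_cancel_right]
    exact hz
  refine ⟨g * x * g⁻¹, η, d, mul_mem (mul_mem hp.mem hx) (inv_mem hp.mem), fun e => ?_, ?_, hcB, hcp,
    fun v => by rw [hd]; exact apply_mem_img g a _, fun t => ?_, fun t ht => ?_⟩
  · obtain ⟨t, ht⟩ := mem_line.1 hw'A
    have := hν' t
    rw [ht, inv_mul_cancel₀ hφw, e, zero_mul, map_zero] at this
    exact one_ne_zero this
  · rw [← hν' σ, hφZ' _ ⟨smul_mem_line a σ, hσ⟩, mul_zero]
  · have hm := hdec (t • a) (smul_mem_line a t)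
    rw [hν' t] at hm
    set z := t • a - ε (η * t) • w' with hz
    rw [hcp _ (hAB _ (smul_mem_line a t))]
    congr 1
    obtain ⟨r, hr⟩ := mem_img.1 hm.2
    have hdz : d z = 0 := by
      rw [hd, ← hr, g.symm_apply_apply, polar_smul_left', hab, mul_zero, neg_zero, zero_smul, map_zero]
    have hdw : d w' = σ • a := by rw [hd, polar_comm, hb₀w, neg_neg, hσ₀]
    rw [show t • a = z + ε (η * t) • w' by rw [hz, sub_add_cancel], map_add, map_smul d, hdz, hdw, zero_add]
  · have hm := hdec (t • a) (smul_mem_line a t)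
    rw [hν' t, ht, zero_smul, sub_zero] at hm
    exact hm.2

/-- For big extensions some root element joins two vectors of the line. -/
theorem root_in_line {g : V ≃ₗ[F] V} {a : V} (hp : Pair QL M g a) (hperp : PerpImg QL g a)
    (hk : Module.finrank F (meet L g a) + 1 = Module.finrank F L) (h3 : 3 ≤ Module.finrank F L)
    (h4 : 4 ≤ Module.finrank L V) :
    ∃ s t : L, s ≠ 0 ∧ (∀ c : F, t ≠ c • s) ∧ RootIn Q M (s • a) (t • a) := by
  classical
  haveI : FiniteDimensional F V := Module.Finite.trans L V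
  haveI := Fintype.ofFinite F
  haveI : Finite L := Module.finite_of_finite F
  have ha := hp.sing
  have h0 : ∀ l : L, Q (l • a) = 0 := fun l => hS.singQ (by rw [map_smul', ha, mul_zero])
  have h00 : ∀ l m : L, polar Q (l • a) (m • a) = 0 := fun l m => hS.perpQ (by
    rw [polar_smul_left', polar_smul_right', polar_self', ha, mul_zero, mul_zero, mul_zero])
  set B := img L g a with hBdef
  obtain ⟨w, hwB, hwZ, hB⟩ := exists_between (inf_le_right : meet L g a ≤ B)
    (by rw [finrank_img g hp.ne0]; exact hk)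
  have hwA : w ∉ L ∙ a := fun h => hwZ ⟨h, hwB⟩
  have hwa : polar QL w a = 0 := hperp w hwB
  obtain ⟨φ₀, hφw, hφZ⟩ := Submodule.exists_dual_map_eq_bot_of_notMem hwZ inferInstance
  set φ := (φ₀ w)⁻¹ • φ₀ with hφdef
  have hφ : ∀ y ∈ B, y - φ y • w ∈ meet L g a := fun y hy => by
    rw [hBdef, hB, Submodule.mem_sup] at hy
    obtain ⟨z, hz, q, hq, rfl⟩ := hy
    obtain ⟨f, rfl⟩ := Submodule.mem_span_singleton.1 hq
    have : φ₀ z = 0 := (Submodule.mem_bot F).1 (hφZ ▸ Submodule.mem_map_of_mem hz)
    rw [hφdef, LinearMap.smul_apply, map_add, this, map_smul, zero_add, smul_eq_mul, smul_eq_mul,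
      show (φ₀ w)⁻¹ * (f * φ₀ w) = f by field_simp, add_sub_cancel_right]
    exact hz
  obtain ⟨z₀, hz₀, hz₀0⟩ := Submodule.exists_mem_ne_zero_of_ne_bot hp.meets
  obtain ⟨σ₁, hσ₁⟩ := mem_line.1 hz₀.1
  have hσ₁0 : σ₁ ≠ 0 := fun e => hz₀0 (by rw [← hσ₁, e, zero_smul])
  have hσ₁B : σ₁ • a ∈ B := hσ₁ ▸ hz₀.2
  -- the commutator
  have main : ∀ σ : L, σ • a ∈ B → ∃ (η : L) (μ₀ : L → L), η ≠ 0 ∧ (∀ t, ε (η * t) = 0 → t • a ∈ B) ∧
      ε (η * σ) = 0 ∧
      ∀ s : L, s • a ∈ B → ∀ b b₂ : V, polar QL a b = 0 → polar QL w b = -s → polar QL a b₂ = 0 →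
        polar QL w b₂ = 0 → ∃ μ', (∀ l : L, b₂ = l • w → μ' = l * μ₀ 1) ∧
          siegel Q (s • a) (μ' • a) (h0 _) (h00 _ _) *
            siegel Q (σ • a) ((η * polar QL b₂ b) • a) (h0 _) (h00 _ _) ∈ M := by
    intro σ hσ
    obtain ⟨c, η, d, hc, hη, hησ, hcB, hcp, hdB, hca, hηB⟩ := hS.exists_shift hp hperp hk hσ
    have hform : ∀ v : V, ∃ μ', ∀ t : L, φ (d (t • v)) = ε (μ' * t) := fun v => by
      obtain ⟨ν, hν⟩ := exists_form ε hS.eps (φ ∘ₗ d ∘ₗ (LinearMap.toSpanSingleton L V v).restrictScalars F)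
      exact ⟨ν 1, fun t => by
        rw [show ν 1 * t = ν t by rw [mul_comm, ← smul_eq_mul t, ← map_smul, smul_eq_mul, mul_one]]
        exact hν t⟩
    choose μf hμf using hform
    refine ⟨η, fun _ => μf w, hη, hηB, hησ, fun s hs b b₂ hab hwb hab₂ hwb₂ => ⟨μf b₂, fun l hl => ?_, ?_⟩⟩
    · refine hS.eps_ext fun t => ?_
      rw [mul_comm t, ← hμf, hl, smul_smul, hμf]
      congr 1; ring
    obtain ⟨x, hx, hxv, hxl⟩ := hS.exists_E ha hab
    have hxa : ∀ r : L, x (r • a) = r • a := fun r => by
      rw [hxl]; simp [hxv, polar_self', ha, hab]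
    refine hS.conj_comm (mul_mem (mul_mem (mul_mem hc hx) (inv_mem hc)) (inv_mem hx)) ha hab₂ (fun t => ?_)
      (fun t => ?_) (h0 _) (h00 _ _) (h0 _) (h00 _ _)
    · -- fixes the line
      show c (x (c.symm (x.symm (t • a)))) = t • a
      have e1 : x.symm (t • a) = t • a := by rw [LinearEquiv.symm_apply_eq, hxa]
      have e2 : c.symm (t • a) = (t - ε (η * t) • σ) • a := by
        rw [LinearEquiv.symm_apply_eq, sub_smul, map_sub, hca, smul_assoc, map_smul c, hcB _ hσ, add_sub_cancel_right]
      rw [e1, e2, hxa, ← e2, c.apply_symm_apply]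
    · show c (x (c.symm (x.symm (t • b₂)))) = _
      set β := t * polar QL b₂ b with hβ
      have hv : ∀ y ∈ B, polar Q (t • b₂) y = 0 := fun y hy => by
        have hm := hφ y hy
        obtain ⟨r, hr⟩ := mem_line.1 hm.1
        rw [show y = r • a + φ y • w by rw [hr, sub_add_cancel], polar_add_right, hS.polarQ, polar_smul_left',
          polar_smul_right', polar_comm QL b₂ a, hab₂, mul_zero, mul_zero, map_zero, zero_add,
          polar_smul_right' _ (φ y), hS.polarQ, polar_smul_left', polar_comm QL b₂ w, hwb₂, mul_zero, map_zero,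
          mul_zero]
      set δ := d (t • b₂) with hδ
      have hcd : c δ = δ := hcB _ (hdB _)
      have e1 : x.symm (t • b₂) = t • b₂ + β • a := by
        rw [LinearEquiv.symm_apply_eq, map_add, hxa, hxl, hxv, polar_comm QL b₂ a, hab₂, mul_zero, zero_smul,
          zero_smul, add_zero, sub_zero, smul_sub, smul_smul, ← hβ, sub_add_cancel]
      have e2 : c.symm (t • b₂ + β • a) = t • b₂ + β • a - ε (η * β) • σ • a - δ := by
        rw [LinearEquiv.symm_apply_eq, map_sub, map_sub, map_add, hcp _ hv, hca, map_smul c, hcB _ hσ, hcd]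
        abel
      have hxw : x w = w + s • a := by rw [hxv, hwa, hwb, neg_smul, mul_zero, zero_smul, zero_smul]; abel
      have hxδ : x δ = δ + φ δ • s • a := by
        obtain ⟨r, hr⟩ := mem_line.1 (hφ δ (hdB _)).1
        conv_lhs => rw [show δ = r • a + φ δ • w by rw [hr, sub_add_cancel]]
        rw [map_add, map_smul x, hxa, hxw, hr, smul_add]
        abel
      have e3 : x (t • b₂) = t • b₂ - β • a := by
        rw [hxl, hxv, polar_comm QL b₂ a, hab₂, mul_zero, zero_smul, zero_smul, add_zero, sub_zero, smul_sub,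
          smul_smul, ← hβ]
      have e4 : x (t • b₂ + β • a - ε (η * β) • σ • a - δ) = t • b₂ - ε (η * β) • σ • a - δ - φ δ • s • a := by
        rw [map_sub, map_sub, map_add, e3, hxa, map_smul x, hxa, hxδ]; abel
      rw [e1, e2, e4,
        map_sub, map_sub, map_sub, hcp _ hv, map_smul c, hcB _ hσ, hcd, map_smul c, hcB _ hs, hδ, hμf,
        show η * polar QL b₂ b * t = η * β by rw [hβ]; ring]
      abel
  have hlin : ∀ s t : L, (∀ f : F, SiegIn Q M (s • a) ((f • t) • a)) → RootIn Q M (s • a) (t • a) :=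
    fun s t h f => by rw [← smul_assoc]; exact h f
  by_cases hQw : QL w = 0
  swap
  · -- an anisotropic vector orthogonal to both
    obtain ⟨η, μ₀, hη, hηB, hησ, hmain⟩ := main σ₁ hσ₁B
    obtain ⟨f, hf, haf, hfw⟩ := exists_partner hS.nd (L ∙ w) (fun h => by
      obtain ⟨r, hr⟩ := Submodule.mem_span_singleton.1 h
      have : r ≠ 0 := fun e => hp.ne0 (by rw [← hr, e, zero_smul])
      exact hwA (Submodule.mem_span_singleton.2 ⟨r⁻¹, by rw [← hr, inv_smul_smul₀ this]⟩)) ha (fun v hv => by
      obtain ⟨r, rfl⟩ := Submodule.mem_span_singleton.1 hv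
      rw [polar_smul_right', polar_comm, hwa, mul_zero])
    have haf0 : polar QL a f ≠ 0 := by rw [haf]; exact one_ne_zero
    have hU : NdOn QL (Submodule.span L (insert w ({a, f} : Set V))) := ndOn_insert hS.two' (ndOn_pair ha haf0) hQw
      fun v hv => by
        obtain ⟨p, r, rfl⟩ := Submodule.mem_span_pair.1 hv
        rw [polar_add_right, polar_smul_right', polar_smul_right', hwa, polar_comm QL w f,
          hfw w (Submodule.mem_span_singleton_self w)]
        ring
    obtain ⟨b, hb, hQb⟩ := exists_aniso_perp hS.nd hU (by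
      have h1 := finrank_span_le_card (R := L) (insert w ({a, f} : Set V))
      have : (insert w ({a, f} : Set V)).toFinset.card ≤ 3 := by simpa using Finset.card_le_three
      omega)
    have hab : polar QL a b = 0 := by rw [polar_comm]; exact hb a (Submodule.subset_span (by simp))
    have hwb : polar QL w b = 0 := by rw [polar_comm]; exact hb w (Submodule.subset_span (by simp))
    obtain ⟨t, ht⟩ : ∃ t, t ∉ F ∙ σ₁ := by
      refine SetLike.exists_not_mem_of_ne_top _ (fun e => ?_) rfl
      have h1 : Module.finrank F (F ∙ σ₁) = 1 := finrank_span_singleton hσ₁0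
      rw [e, finrank_top] at h1
      omega
    refine ⟨σ₁, t, hσ₁0, fun f e => ht (e ▸ Submodule.smul_mem _ f (Submodule.mem_span_singleton_self σ₁)),
      hlin _ _ fun f hs hst => ?_⟩
    set l := (f • t) / (η * (2 * QL b)) with hl
    obtain ⟨μ', -, hm⟩ := hmain 0 (by rw [zero_smul]; exact B.zero_mem) b (l • b) hab (by rw [hwb, neg_zero])
      (by rw [polar_smul_right', hab, mul_zero]) (by rw [polar_smul_right', hwb, mul_zero])
    convert hm using 1
    have hz : siegel Q ((0 : L) • a) (μ' • a) (h0 _) (h00 _ _) = 1 :=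
      LinearEquiv.ext fun v => by simp [siegel_apply, zero_smul, polar_zero_right]
    rw [hz, one_mul]
    refine siegel_congr hs hst _ _ rfl ?_
    congr 1
    have hden : η * (2 * QL b) ≠ 0 := mul_ne_zero hη (mul_ne_zero hS.two' hQb)
    rw [polar_smul_left', polar_self', hl,
      show η * ((f • t) / (η * (2 * QL b)) * (2 * QL b)) = η * (2 * QL b) * ((f • t) / (η * (2 * QL b))) by ring,
      mul_div_cancel₀ _ hden]
  -- the image spans a totally singular plane with the line
  have hww : polar QL w w = 0 := by rw [polar_self', hQw, mul_zero]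
  have hex : ∀ s : L, ∃ b, polar QL a b = 0 ∧ polar QL w b = -s := fun s => by
    obtain ⟨b, hb, hbw⟩ := exists_polar hS.nd (L ∙ a) hwA (-s)
    exact ⟨b, by rw [polar_comm]; exact hb a (Submodule.mem_span_singleton_self a), by rw [polar_comm]; exact hbw⟩
  have haw : polar QL a w = 0 := by rw [polar_comm]; exact hwa
  have hsame : ∀ (σ : L) (hσ : σ • a ∈ B), σ ≠ 0 → ∀ (η : L) (μ₀ : L → L),
      (∀ s : L, s • a ∈ B → ∀ b b₂ : V, polar QL a b = 0 → polar QL w b = -s → polar QL a b₂ = 0 →
        polar QL w b₂ = 0 → ∃ μ', (∀ l : L, b₂ = l • w → μ' = l * μ₀ 1) ∧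
          siegel Q (s • a) (μ' • a) (h0 _) (h00 _ _) *
            siegel Q (σ • a) ((η * polar QL b₂ b) • a) (h0 _) (h00 _ _) ∈ M) →
      μ₀ 1 ≠ η * σ → ∃ s t : L, s ≠ 0 ∧ (∀ c : F, t ≠ c • s) ∧ RootIn Q M (s • a) (t • a) := by
    intro σ hσ hσ0 η μ₀ hmain hne
    obtain ⟨t, ht⟩ : ∃ t, t ∉ F ∙ σ := by
      refine SetLike.exists_not_mem_of_ne_top _ (fun e => ?_) rfl
      have h1 : Module.finrank F (F ∙ σ) = 1 := finrank_span_singleton hσ0
      rw [e, finrank_top] at h1
      omega
    refine ⟨σ, t, hσ0, fun f e => ht (e ▸ Submodule.smul_mem _ f (Submodule.mem_span_singleton_self σ)),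
      hlin _ _ fun f hs hst => ?_⟩
    obtain ⟨b, hab, hwb⟩ := hex σ
    set l := (f • t) / (μ₀ 1 - η * σ) with hl
    obtain ⟨μ', hμ', hm⟩ := hmain σ hσ b (l • w) hab hwb (by rw [polar_smul_right', haw, mul_zero])
      (by rw [polar_smul_right', hww, mul_zero])
    rw [siegel_mul] at hm
    convert hm using 1
    refine siegel_congr hs hst _ _ rfl ?_
    rw [← add_smul, hμ' l rfl, polar_smul_left', hwb, show l * μ₀ 1 + η * (l * -σ) = l * (μ₀ 1 - η * σ) by ring, hl,
      div_mul_cancel₀ _ (sub_ne_zero.2 hne)]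
  -- a second vector of the intersection
  let S : Submodule F L := B.comap ((LinearMap.toSpanSingleton L V a).restrictScalars F)
  have hmemS : ∀ s, s ∈ S ↔ s • a ∈ B := fun s => Iff.rfl
  obtain ⟨η, μ₀, hη, hηB, hησ, hmain⟩ := main σ₁ hσ₁B
  obtain ⟨σ₂, hσ₂, hσ₂'⟩ : ∃ σ₂ ∈ S, σ₂ ∉ F ∙ σ₁ := by
    have hker : LinearMap.ker (ε ∘ₗ LinearMap.mulLeft F η) ≤ S := fun t ht => hηB t (by simpa using ht)
    by_contra hc
    push Not at hc
    have h1 := Submodule.finrank_mono (hker.trans hc)
    have h2 := (ε ∘ₗ LinearMap.mulLeft F η).finrank_range_add_finrank_ker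
    have h3 := Submodule.finrank_le (LinearMap.range (ε ∘ₗ LinearMap.mulLeft F η))
    rw [Module.finrank_self] at h3
    rw [finrank_span_singleton hσ₁0] at h1
    omega
  have hσ₂B := (hmemS σ₂).1 hσ₂
  have hσ₂0 : σ₂ ≠ 0 := fun e => hσ₂' (e ▸ Submodule.zero_mem _)
  obtain ⟨η₂, μ₂, hη₂, -, hησ₂, hmain₂⟩ := main σ₂ hσ₂B
  by_cases hne : μ₂ 1 = η₂ * σ₂
  swap
  · exact hsame σ₂ hσ₂B hσ₂0 η₂ μ₂ hmain₂ hne
  -- mixed commutator
  refine ⟨σ₁, σ₂, hσ₁0, fun f e => hσ₂' (e ▸ Submodule.smul_mem _ f (Submodule.mem_span_singleton_self σ₁)),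
    hlin _ _ fun f hs hst => ?_⟩
  obtain ⟨b, hab, hwb⟩ := hex σ₁
  have h2 := hS.two
  set l := ((2 : F)⁻¹ * f) • η₂⁻¹ with hl
  obtain ⟨μ', hμ', hm⟩ := hmain₂ σ₁ hσ₁B b (l • w) hab hwb (by rw [polar_smul_right', haw, mul_zero])
    (by rw [polar_smul_right', hww, mul_zero])
  have hlη : l * η₂ = algebraMap F L ((2 : F)⁻¹ * f) := by
    rw [hl, smul_mul_assoc, inv_mul_cancel₀ hη₂, Algebra.smul_def, mul_one]
  convert hm using 1
  refine LinearEquiv.ext fun v => ?_
  have hμ : μ' • a = ((2 : F)⁻¹ * f) • σ₂ • a := by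
    rw [hμ' l rfl, hne, ← mul_assoc, hlη, mul_smul, algebraMap_smul]
  have hμ2 : (η₂ * polar QL (l • w) b) • a = (-((2 : F)⁻¹ * f)) • σ₁ • a := by
    rw [polar_smul_left', hwb, show η₂ * (l * -σ₁) = -((l * η₂) * σ₁) by ring, hlη, neg_smul, mul_smul,
      algebraMap_smul, neg_smul]
  have q1 : polar Q (σ₁ • a) (σ₂ • a) = 0 := h00 _ _
  simp only [LinearEquiv.mul_apply, siegel_apply]
  simp only [hμ, hμ2]
  simp only [smul_assoc, polar_smul_right', map_smul', h0,
    polar_add_left, polar_sub_left, polar_smul_left', h00, mul_zero, zero_mul, zero_smul, sub_zero, add_zero,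
    neg_mul]
  have hf2 : f = (2 : F)⁻¹ * f + (2 : F)⁻¹ * f := by rw [← add_mul, ← two_mul, mul_inv_cancel₀ h2, one_mul]
  generalize (2 : F)⁻¹ * f = e at hf2 ⊢
  subst hf2
  module

/-- For quadratic extensions some root element leaves the line. -/
theorem root_out_of_line {g : V ≃ₗ[F] V} {a : V} (hp : Pair QL M g a) (hperp : PerpImg QL g a)
    (hr : Module.finrank F L = 2) (h4 : 4 ≤ Module.finrank L V)
    (hsp : 5 ≤ Module.finrank L V ∨ ∀ b, polar QL a b = 0 → QL b = 0 → b ∈ L ∙ a) :
    ∃ (σ : L) (b₁ : V), σ ≠ 0 ∧ polar QL a b₁ = 0 ∧ b₁ ∉ L ∙ a ∧ RootIn Q M (σ • a) b₁ ∧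
      ∀ t : L, RootIn Q M (σ • a) (t • a) := by
  classical
  haveI : FiniteDimensional F V := Module.Finite.trans L V
  haveI := Fintype.ofFinite F
  haveI : Finite L := Module.finite_of_finite F
  have ha := hp.sing
  set B := img L g a with hBdef
  have h1 : 1 ≤ Module.finrank F (meet L g a) := Submodule.one_le_finrank_iff.2 hp.meets
  have h2 := hS.meet_lt hp
  have hk : Module.finrank F (meet L g a) + 1 = Module.finrank F L := by omega
  obtain ⟨w, hwB, hwZ, hB⟩ := exists_between (inf_le_right : meet L g a ≤ B)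
    (by rw [finrank_img g hp.ne0]; exact hk)
  have hwa : polar QL w a = 0 := hperp w hwB
  have hwA : w ∉ L ∙ a := fun h => hwZ ⟨by
    obtain ⟨r, rfl⟩ := Submodule.mem_span_singleton.1 h
    exact smul_mem_line a r, hwB⟩
  have hQw : Q w = 0 := by
    obtain ⟨r, hr⟩ := mem_img.1 hwB
    rw [← hr, mem_orth.1 (hS.mem_orthQ hp.mem), hS.singQ (by rw [map_smul', ha, mul_zero])]
  obtain ⟨z₀, hz₀, hz₀0⟩ := Submodule.exists_mem_ne_zero_of_ne_bot hp.meets
  obtain ⟨σ, hσ⟩ := mem_line.1 hz₀.1
  have hσ0 : σ ≠ 0 := fun e => hz₀0 (by rw [← hσ, e, zero_smul])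
  have hσB : σ • a ∈ B := hσ ▸ hz₀.2
  obtain ⟨c, η, d, hc, hη, hησ, hcB, hcp, hdB, hca, -⟩ := hS.exists_shift hp hperp hk hσB
  set z := σ • a with hz
  have hz0 : z ≠ 0 := smul_ne_zero hσ0 hp.ne0
  have hcz : c z = z := hcB _ hσB
  have hcw : c w = w := hcB _ hwB
  -- coordinates in the image of the line
  obtain ⟨φ, hφw, hφZ⟩ := Submodule.exists_dual_map_eq_bot_of_notMem hwZ inferInstance
  have hmeet : meet L g a = F ∙ z := (Submodule.eq_of_le_of_finrank_le
    ((Submodule.span_singleton_le_iff_mem _ _).2 (show z ∈ line F L a ⊓ img L g a from ⟨smul_mem_line a σ, hσB⟩))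
    (by rw [finrank_span_singleton hz0]; change Module.finrank F (meet L g a) ≤ 1; omega)).symm
  have hφz : φ z = 0 := (Submodule.mem_bot F).1 (hφZ ▸ Submodule.mem_map_of_mem
    (show z ∈ meet L g a from ⟨smul_mem_line a σ, hσB⟩))
  obtain ⟨φ', hφ'z, -⟩ := Submodule.exists_dual_map_eq_bot_of_notMem
    (show z ∉ F ∙ w from fun h => by
      obtain ⟨r, hr⟩ := Submodule.mem_span_singleton.1 h
      have hr0 : r ≠ 0 := fun e => hz0 (by rw [← hr, e, zero_smul])
      exact mul_ne_zero hr0 hφw (by rw [← smul_eq_mul, ← map_smul, hr, hφz])) inferInstance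
  let ψ : V →ₗ[F] F := (φ w)⁻¹ • φ
  let χ : V →ₗ[F] F := (φ' z)⁻¹ • (φ' ∘ₗ (LinearMap.id - ψ.smulRight w))
  have hcoord : ∀ y ∈ B, y = χ y • z + ψ y • w := fun y hy => by
    obtain ⟨m, hm, q, hq, rfl⟩ := Submodule.mem_sup.1 (hB ▸ hy : y ∈ meet L g a ⊔ F ∙ w)
    change m ∈ meet L g a at hm
    rw [hmeet] at hm
    obtain ⟨i, rfl⟩ := Submodule.mem_span_singleton.1 hm
    obtain ⟨j, rfl⟩ := Submodule.mem_span_singleton.1 hq
    have e1 : ψ (i • z + j • w) = j := by simp [ψ, hφz]; field_simp
    have e2 : χ (i • z + j • w) = i := by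
      simp only [χ, LinearMap.smul_apply, LinearMap.comp_apply, LinearMap.sub_apply, LinearMap.id_apply,
        LinearMap.smulRight_apply, e1, add_sub_cancel_right, map_smul, smul_eq_mul]
      field_simp
    rw [e1, e2]
  -- the scalars killed by the trace against σ
  obtain ⟨one, hone1⟩ := hS.exists_eps_one
  set κ := one / σ with hκ
  have hκσ : ε (σ * κ) = 1 := by rw [hκ, mul_div_cancel₀ _ hσ0]; exact hone1
  have hker : ∀ t : L, ∃ r : F, t = ε (σ * t) • κ + r • η := fun t => by
    have hli : LinearIndependent F ![κ, η] := LinearIndependent.pair_iff.2 fun p q hpq => by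
      have := congrArg (fun y => ε (σ * y)) hpq
      simp only [mul_add, mul_smul_comm, map_add, map_smul, hκσ, mul_comm σ η, hησ, smul_eq_mul, mul_one, mul_zero,
        add_zero, map_zero] at this
      subst this
      rw [zero_smul, zero_add] at hpq
      exact ⟨rfl, (smul_eq_zero.1 hpq).resolve_right hη⟩
    have ht := hli.span_eq_top_of_card_eq_finrank (by rw [Fintype.card_fin, hr])
    rw [Matrix.range_cons_cons_empty] at ht
    obtain ⟨p, q, hpq⟩ := Submodule.mem_span_pair.1 (ht ▸ Submodule.mem_top : t ∈ Submodule.span F {κ, η})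
    refine ⟨q, ?_⟩
    conv_rhs => rw [← hpq]
    simp only [mul_add, mul_smul_comm, map_add, map_smul, hκσ, mul_comm σ η, hησ, smul_eq_mul, mul_one, mul_zero,
      add_zero]
    exact hpq.symm
  -- a vector whose multiples move within the line and along the second vector
  obtain ⟨b, hbX, hbd, hba, hbw⟩ : ∃ b : V, (∀ u ∈ Submodule.span L ({a, w} : Set V), polar QL b u = 0) ∧
      ψ (d (η • b)) = 0 ∧ b ∉ L ∙ a ∧ (5 ≤ Module.finrank L V → b ∉ Submodule.span L ({a, w} : Set V)) := by
    let X : Submodule L V := polarPerp QL (Submodule.span L ({a, w} : Set V))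
    let Φ : V →ₗ[F] F := ψ ∘ₗ d ∘ₗ ((LinearMap.lsmul L V η).restrictScalars F)
    have h3 := LinearMap.finrank_range_add_finrank_ker (Φ ∘ₗ (X.restrictScalars F).subtype)
    have h3' := Submodule.finrank_le (LinearMap.range (Φ ∘ₗ (X.restrictScalars F).subtype))
    rw [Module.finrank_self] at h3'
    have h5 : Module.finrank L X + Module.finrank L (Submodule.span L ({a, w} : Set V)) = Module.finrank L V :=
      finrank_polarPerp hS.nd _
    have h6 := finrank_pair_le (F := L) a w
    have hX : Module.finrank F (X.restrictScalars F) = 2 * Module.finrank L X := by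
      rw [← hr, Module.finrank_mul_finrank F L X]
      rfl
    by_cases h5' : 5 ≤ Module.finrank L V
    · by_contra hcon
      push Not at hcon
      have hle : (LinearMap.ker (Φ ∘ₗ (X.restrictScalars F).subtype)).map (X.restrictScalars F).subtype ≤
          (Submodule.span L ({a, w} : Set V)).restrictScalars F := by
        rintro _ ⟨b, hb, rfl⟩
        by_cases hb' : (b : V) ∈ L ∙ a
        · exact Submodule.span_mono (by simp) hb'
        · exact (hcon b (fun u hu => by rw [polar_comm]; exact mem_polarPerp.1 b.2 u hu) hb hb').2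
      have h7 := Submodule.finrank_mono hle
      have h8 : Module.finrank F ((Submodule.span L ({a, w} : Set V)).restrictScalars F) =
          2 * Module.finrank L (Submodule.span L ({a, w} : Set V)) := by
        rw [← hr, Module.finrank_mul_finrank F L]
        rfl
      rw [Submodule.finrank_map_subtype_eq] at h7
      omega
    · by_contra hcon
      push Not at hcon
      have hle : (LinearMap.ker (Φ ∘ₗ (X.restrictScalars F).subtype)).map (X.restrictScalars F).subtype ≤
          line F L a := by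
        rintro _ ⟨b, hb, rfl⟩
        by_cases hb' : (b : V) ∈ L ∙ a
        · obtain ⟨r, hr⟩ := Submodule.mem_span_singleton.1 hb'
          exact mem_line.2 ⟨r, hr⟩
        · exact absurd (hcon b (fun u hu => by rw [polar_comm]; exact mem_polarPerp.1 b.2 u hu) hb hb').1 h5'
      have h7 := Submodule.finrank_mono hle
      rw [Submodule.finrank_map_subtype_eq, finrank_line hp.ne0] at h7
      omega
  have hab : polar QL a b = 0 := by rw [polar_comm]; exact hbX a (Submodule.subset_span (by simp))
  have hwb : polar QL w b = 0 := by rw [polar_comm]; exact hbX w (Submodule.subset_span (by simp))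
  set lam := ψ (d (κ • b)) with hlam
  obtain ⟨μ₀, hμ₀⟩ := exists_form ε hS.eps (χ ∘ₗ d ∘ₗ (LinearMap.toSpanSingleton L V b).restrictScalars F)
  set μ := μ₀ 1 with hμdef
  have hμ : ∀ t : L, χ (d (t • b)) = ε (μ * t) := fun t => by
    have := hμ₀ t
    rw [show μ₀ t = μ * t by rw [hμdef, mul_comm, ← smul_eq_mul t, ← map_smul, smul_eq_mul, mul_one]] at this
    simpa using this
  have hcb : ∀ t : L, c (t • b) = t • b + (ε (μ * t) • z + (lam * ε (σ * t)) • w) := fun t => by
    rw [hcp]
    · congr 1
      rw [hcoord _ (hdB (t • b)), hμ]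
      congr 2
      obtain ⟨r, hr'⟩ := hker t
      conv_lhs => rw [hr', add_smul, smul_assoc, smul_assoc, map_add, map_smul d, map_smul d, map_add, map_smul ψ,
        map_smul ψ, hbd, ← hlam, smul_zero, add_zero, smul_eq_mul, mul_comm]
    · intro y hy
      rw [hcoord y hy, polar_add_right, polar_smul_right', polar_smul_right', hS.polarQ, hS.polarQ, polar_smul_left',
        polar_smul_left', polar_smul_right', polar_comm QL b a, hab, polar_comm QL b w, hwb]
      simp
  have hQz : Q z = 0 := hS.singQ (by rw [hz, map_smul', ha, mul_zero])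
  have hzp : ∀ v, polar QL a v = 0 → polar Q z v = 0 := fun v hv =>
    hS.perpQ (by rw [hz, polar_smul_left', hv, mul_zero])
  set Y : F → V := fun f => f • η • b + (f * lam) • w - (f • μ + (f * f) • (η * QL b)) • a with hY
  have hone : ∀ f : F, SiegIn Q M z (Y f) := by
    intro f he hw
    set b' := f • b with hb'
    have hab' : polar QL a b' = 0 := by rw [hb', lpolar_smul_right, hab, smul_zero]
    have hwb' : polar QL w b' = 0 := by rw [hb', lpolar_smul_right, hwb, smul_zero]
    obtain ⟨x, hx, hxv, hxl⟩ := hS.exists_E ha hab'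
    have hcb' : ∀ t : L, c (t • b') = t • b' + ((f * ε (μ * t)) • z + (f * lam * ε (σ * t)) • w) := fun t => by
      rw [hb', smul_comm t f b, map_smul c f, hcb, smul_add, smul_add, smul_smul, smul_smul, mul_assoc f]
    have hgo := hS.mem_orthQ hc
    have key : c * x = siegel Q z (Y f) he hw * x * c := by
      refine LinearEquiv.ext fun p => ?_
      simp only [LinearEquiv.mul_apply]
      set Z := ε (σ * polar QL p a) with hZ
      set W := ε (polar QL p w) with hW
      have hβb : polar QL (c p) b' = polar QL p b' - (Z * f) • μ - (W * (f * lam)) • σ := hS.eps_ext fun t => by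
        have e : t • b' = c (t • b' - ((f * ε (μ * t)) • z + (f * lam * ε (σ * t)) • w)) := by
          rw [map_sub, map_add, map_smul c, map_smul c, hcz, hcw, hcb', add_sub_cancel_right]
        rw [← polar_smul_right', ← hS.polarQ]
        conv_lhs => rw [e, orth_polar hgo]
        rw [polar_sub_right, polar_add_right, polar_smul_right' _ (f * ε (μ * t)),
          polar_smul_right' _ (f * lam * ε (σ * t)), hS.polarQ, hS.polarQ, hS.polarQ, hz, polar_smul_right',
          polar_smul_right', ← hZ, ← hW, mul_sub, mul_sub, map_sub, map_sub, mul_smul_comm, mul_smul_comm,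
          eps_smul', eps_smul', mul_comm t μ, mul_comm t σ]
        ring
      have hβa : polar QL (c p) a = polar QL p a - Z • η := hS.eps_ext fun t => by
        have e : t • a = c (t • a - ε (η * t) • z) := by rw [map_sub, hca, map_smul, hcz, add_sub_cancel_right]
        rw [← polar_smul_right', ← hS.polarQ]
        conv_lhs => rw [e, orth_polar hgo]
        rw [polar_sub_right, polar_smul_right' _ (ε (η * t)), hS.polarQ, hS.polarQ, hz, polar_smul_right',
          polar_smul_right', ← hZ, mul_sub, map_sub, mul_smul_comm, eps_smul', mul_comm t η]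
        ring
      set v := x (c p) with hv
      have hQb : QL b' = (f * f) • QL b := by
        rw [hb', ← algebraMap_smul L f b, map_smul' QL, ← map_mul, ← Algebra.smul_def]
      have hvb : polar QL v b' = polar QL (c p) b' + polar QL (c p) a * (2 * QL b') := by
        rw [hv, hxv, polar_sub_left, polar_sub_left, polar_add_left, polar_smul_left', polar_smul_left',
          polar_smul_left', polar_self', hab']
        ring
      have hva : polar QL v a = polar QL p a - Z • η := by
        rw [hv, hxv]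
        simp [polar_add_left, polar_sub_left, polar_smul_left', polar_self', ha, hβa, polar_comm QL b' a, hab']
      have hvw : polar Q v w = W := by
        have hxw : x w = w := by rw [hxv, hwa, hwb']; simp
        rw [hv]
        conv_lhs => rw [← hxw, orth_polar (hS.mem_orthQ hx), ← hcw, orth_polar hgo]
        rw [hW, hS.polarQ]
      have e0 : Y f = η • b' + (f * lam) • w - (f • μ + η * QL b') • a := by
        simp only [hY, hb']
        rw [smul_comm η f b, hQb, mul_smul_comm]
      have hvz : polar Q v z = Z := by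
        rw [hS.polarQ, hz, polar_smul_right', hva, mul_sub, map_sub, mul_smul_comm, eps_smul', mul_comm σ η, hησ]
        simp [hZ]
      have hQY : Q (η • b' + (f * lam) • w - (f • μ + η * QL b') • a) = ε (η * η * QL b') := by
        rw [show η • b' + (f * lam) • w - (f • μ + η * QL b') • a =
          (η • b' - (f • μ + η * QL b') • a) + (f * lam) • w by abel, CfsgLib.Geometry.map_add',
          CfsgLib.Geometry.map_smul' Q (f * lam), hQw, polar_smul_right' _ (f * lam), hS.polarQ, hS.form,
          CfsgLib.Geometry.map_sub', map_smul' QL, map_smul' QL, ha]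
        simp [polar_sub_left, polar_smul_left', polar_smul_right', polar_comm QL b' a, hab', polar_comm QL b' w, hwb',
          polar_comm QL a w, hwa]
      have hvY : polar Q v (η • b' + (f * lam) • w - (f • μ + η * QL b') • a) =
          ε (η * polar QL p b') + ε (η * QL b' * polar QL p a) + f * lam * W - f * ε (μ * polar QL p a) -
            Z * ε (η * η * QL b') := by
        rw [polar_sub_right, polar_add_right, polar_smul_right' _ (f * lam), hvw, hS.polarQ, hS.polarQ,
          polar_smul_right', polar_smul_right', hvb, hva, hβb, hβa]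
        simp only [mul_add, mul_sub, add_mul, sub_mul, map_add, map_sub, mul_smul_comm, smul_mul_assoc, eps_smul',
          mul_comm η σ]
        rw [mul_comm σ η, hησ, ← eps_smul' ε f]
        simp only [← mul_assoc, map_smul, smul_eq_mul, mul_zero, sub_zero]
        rw [show η * polar QL p a * 2 * QL b' = η * QL b' * polar QL p a + η * QL b' * polar QL p a by ring,
          show μ * η = η * μ from mul_comm μ η, show η * η * 2 * QL b' = η * η * QL b' + η * η * QL b' by ring]
        simp only [map_add]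
        ring_nf
      rw [siegel_apply, hvz]
      simp only [e0]
      rw [hvY, hQY, hv, hxv p, map_sub, map_sub, map_add, hcb', hca, hca, hxv (c p), hβa, hβb]
      simp only [sub_smul, add_smul, sub_mul, mul_sub, smul_assoc, smul_sub, smul_add, smul_smul, mul_smul_comm,
        Algebra.smul_def Z η]
      simp only [mul_smul, algebraMap_smul, mul_comm (QL b') η, ← hz]
      simp only [← mul_assoc]
      module
    rw [show siegel Q z (Y f) he hw = c * x * c⁻¹ * x⁻¹ by rw [key]; group]
    exact mul_mem (mul_mem (mul_mem hc hx) (inv_mem hc)) (inv_mem hx)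
  set y := η • b + lam • w with hy
  have hay : polar QL a y = 0 := by
    rw [hy, polar_add_right, polar_smul_right', lpolar_smul_right, hab, polar_comm QL a w, hwa, smul_zero, mul_zero,
      add_zero]
  have hyA : y ∉ L ∙ a := fun h => by
    obtain ⟨r, hr'⟩ := Submodule.mem_span_singleton.1 h
    by_cases hl : lam = 0
    · rw [hl, zero_smul, add_zero] at hy
      refine hba (Submodule.mem_span_singleton.2 ⟨η⁻¹ * r, ?_⟩)
      rw [mul_smul, hr', hy, inv_smul_smul₀ hη]
    · -- otherwise `w` would be a multiple of `b` plus a multiple of `a`, and orthogonal to itself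
      set l := algebraMap F L lam
      have hl0 : l ≠ 0 := fun e => hl ((algebraMap F L).injective (e.trans (map_zero _).symm))
      have hb' : b = (r / η) • a + (-(l / η)) • w := by
        rw [div_eq_inv_mul, div_eq_inv_mul, mul_smul, hr', hy, neg_smul, mul_smul, smul_add, inv_smul_smul₀ hη,
          algebraMap_smul, add_neg_cancel_right]
      rcases hsp with h5' | hno
      · exact hbw h5' (Submodule.mem_span_pair.2 ⟨_, _, hb'.symm⟩)
      · refine hba (hno b hab ?_)
        have h1 : polar QL b b = polar QL b ((r / η) • a + (-(l / η)) • w) := by rw [← hb']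
        rw [polar_self', polar_add_right, polar_smul_right', polar_smul_right', polar_comm QL b a, hab,
          polar_comm QL b w, hwb, mul_zero, mul_zero, add_zero, mul_eq_zero] at h1
        exact h1.resolve_left hS.two'
  have hzA : ∀ t : L, polar Q z (t • a) = 0 := fun t => hzp _ (by rw [polar_smul_right', polar_self', ha, mul_zero, mul_zero])
  have hzw : ∀ f : F, polar Q z (Y f) = 0 := fun f => hzp _ (by
    simp [hY, polar_sub_right, polar_add_right, lpolar_smul_right, polar_smul_right', hab, polar_self', ha,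
      polar_comm QL a w, hwa])
  have hline : ∀ t : L, SiegIn Q M z (t • a) := by
    intro t
    obtain ⟨e, he, hye⟩ := exists_polar hS.nd (L ∙ a) hyA (-t)
    have hae : polar QL a e = 0 := by rw [polar_comm]; exact he a (Submodule.mem_span_singleton_self a)
    obtain ⟨x, hx, hxv, hxl⟩ := hS.exists_E ha hae
    have hxa : x a = a := by simp [hxv, polar_self', ha, hae]
    have hxz : x z = z := by rw [hz, hxl, hxa]
    have h1 := (hone 1).conj hx (hS.mem_orthQ hx)
    have h2 := orth_polar (hS.mem_orthQ hx) z (Y 1)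
    rw [hxz] at h1 h2
    have h := h1.add ((hone 1).neg hQz (hzw 1)) hQz (by rw [h2]; exact hzw 1) (by rw [polar_neg_right, hzw 1, neg_zero])
    convert h using 1
    have e1 : Y 1 = y - (μ + η * QL b) • a := by simp [hY, hy]
    rw [e1, map_sub, hxl, hxa, hxv y, polar_comm QL y a, hay, polar_comm QL y e, hye]
    simp only [zero_smul, mul_zero, sub_zero, add_zero, neg_smul]
    abel
  refine ⟨σ, y, hσ0, hay, hyA, fun f => ?_, fun t f => ?_⟩
  · have := (hone f).add (hline (f • μ + (f * f) • (η * QL b))) hQz (hzw f) (hzA _)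
    rwa [hY, sub_add_cancel, mul_smul, ← smul_add] at this
  · have := hline (f • t)
    rwa [smul_assoc] at this

end OExt

end CfsgLib.OrthField
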