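import Cfsg.Agent.Lib.OrthField.Full
import Mathlib.RingTheory.Trace.Basic
import Mathlib.RingTheory.Norm.Transitivity

/-!
Three-dimensional orthogonal spaces over an extension of odd prime degree: elements displacing
along a singular line.
-/

set_option autoImplicit false
set_option linter.unusedSectionVars false
set_option linter.style.haveILetI false

namespace CfsgLib.OrthField

open QuadraticMap CfsgLib.Geometry CfsgLib.OrthMax CfsgLib.FieldMax

section Fields

variable {L : Type*} [Field L] [Finite L]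

/-- Fourth powers span a big finite field additively. -/
theorem closure_fourth (h : 9 < Nat.card L) : AddSubgroup.closure (Set.range fun x : L => x ^ 4) = ⊤ := by
  classical
  haveI := Fintype.ofFinite L
  set S := Subring.closure (Set.range fun x : L => x ^ 4) with hS
  have hclo : ∀ x, x ∈ S ↔ x ∈ AddSubgroup.closure (Set.range fun x : L => x ^ 4) := fun x => by
    rw [hS, Subring.mem_closure_iff]
    have e : (↑(Submonoid.closure (Set.range fun x : L => x ^ 4)) : Set L) = Set.range fun x : L => x ^ 4 := by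
      refine le_antisymm (fun y hy => ?_) Submonoid.subset_closure
      have hle : Submonoid.closure (Set.range fun x : L => x ^ 4) ≤ MonoidHom.mrange (powMonoidHom 4 : L →* L) :=
        Submonoid.closure_le.2 (by rintro _ ⟨z, rfl⟩; exact ⟨z, rfl⟩)
      obtain ⟨z, rfl⟩ := hle hy
      exact ⟨z, rfl⟩
    rw [e]
  refine eq_top_iff.2 fun z _ => (hclo z).1 ?_
  by_contra hz
  have hinv : ∀ y ∈ S, y⁻¹ ∈ S := fun y hy => by
    rcases eq_or_ne y 0 with rfl | hy0
    · rw [inv_zero]; exact S.zero_mem
    have hq : 2 ≤ Fintype.card L := Fintype.one_lt_card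
    have e : y⁻¹ = y ^ (Fintype.card L - 2) := by
      refine inv_eq_of_mul_eq_one_right ?_
      rw [← pow_succ', show Fintype.card L - 2 + 1 = Fintype.card L - 1 by omega,
        FiniteField.pow_card_sub_one_eq_one y hy0]
    exact e ▸ pow_mem hy _
  let T := Finset.univ.filter fun x : L => x ∈ S
  have hinj : Set.InjOn (fun p : L × L => p.1 + p.2 * z) ↑(T ×ˢ T) := by
    rintro ⟨p, q⟩ hp ⟨p', q'⟩ hp' e
    simp only [T, Finset.coe_product, Finset.coe_filter, Finset.mem_univ, true_and, Set.mem_prod,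
      Set.mem_setOf_eq] at hp hp' e
    by_cases hq : q = q'
    · exact Prod.ext (by simpa [hq] using e) hq
    refine absurd ?_ hz
    have hd : q' - q ≠ 0 := sub_ne_zero.2 (Ne.symm hq)
    rw [show z = (p - p') * (q' - q)⁻¹ by field_simp; linear_combination -e]
    exact S.mul_mem (S.sub_mem hp.1 hp'.1) (hinv _ (S.sub_mem hp'.2 hp.2))
  have h1 : T.card * T.card ≤ Fintype.card L := by
    rw [← Finset.card_product, ← Finset.card_image_of_injOn hinj]
    exact Finset.card_le_univ _
  have h2 : Fintype.card L - 1 ≤ 4 * (T.card - 1) := by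
    have h0 : (0 : L) ∈ T := by simp [T, S.zero_mem]
    rw [← Finset.card_erase_of_mem h0, ← Finset.card_univ, ← Finset.card_erase_of_mem (Finset.mem_univ (0 : L))]
    refine Finset.card_le_mul_card_image_of_maps_to (f := fun x : L => x ^ 4) (fun x hx => ?_) 4 fun b _ => ?_
    · simp only [T, Finset.mem_erase, Finset.mem_filter, Finset.mem_univ, true_and, and_true, ne_eq] at hx ⊢
      exact ⟨pow_ne_zero _ hx, Subring.subset_closure ⟨x, rfl⟩⟩
    · refine le_trans ?_ (Polynomial.card_nthRoots 4 b)
      refine le_trans (Finset.card_le_card (t := (Polynomial.nthRoots 4 b).toFinset) fun x hx => ?_)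
        (Multiset.toFinset_card_le _)
      simp only [Finset.mem_filter] at hx
      rw [Multiset.mem_toFinset, Polynomial.mem_nthRoots (by norm_num)]
      exact hx.2
  rw [Nat.card_eq_fintype_card] at h
  have h3 : 1 ≤ T.card := Finset.card_pos.2 ⟨0, by simp [T, S.zero_mem]⟩
  have h4 : (Fintype.card L + 3) * (Fintype.card L + 3) ≤ 16 * Fintype.card L := by
    have := Nat.mul_le_mul (show Fintype.card L + 3 ≤ 4 * T.card by omega) (show Fintype.card L + 3 ≤ 4 * T.card by omega)
    nlinarith
  nlinarith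

end Fields

variable {F L V : Type*} [Field F] [Field L] [Algebra F L] [AddCommGroup V] [Module F V] [Module L V]
  [IsScalarTower F L V]

/-- Three dimensions over an extension of odd degree. -/
structure OExt3 (QL : QuadraticForm L V) (ε : Module.Dual F L) (Q : QuadraticForm F V)
    (M : Subgroup (V ≃ₗ[F] V)) : Prop extends OExt QL ε Q M where
  three : Module.finrank L V = 3
  three_le : 3 ≤ Module.finrank F L

/-- A hyperbolic pair and an orthogonal non-singular vector. -/
structure Frame (QL : QuadraticForm L V) (a f u : V) : Prop where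
  sa : QL a = 0
  sf : QL f = 0
  af : polar QL a f = 1
  au : polar QL a u = 0
  fu : polar QL f u = 0
  du : QL u ≠ 0

/-- A Siegel element over the big field with respect to a frame. -/
def IsE (QL : QuadraticForm L V) (a u : V) (c : L) (x : V ≃ₗ[F] V) : Prop :=
  ∀ v, x v = v + (c * polar QL v a) • u - (c * polar QL v u) • a - (c * c * QL u * polar QL v a) • a

/-- An element of the group fixing the perp of `a` and displacing along the line of `a`. -/
def Lam (QL : QuadraticForm L V) (M : Subgroup (V ≃ₗ[F] V)) (a : V) (T : L →ₗ[F] L) : Prop :=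
  ∃ x ∈ M, ∀ v, x v = v + T (polar QL v a) • a

theorem IsE.lin {QL : QuadraticForm L V} {a u : V} {c : L} {x : V ≃ₗ[F] V} (h : IsE QL a u c x) (l : L) (v : V) :
    x (l • v) = l • x v := by
  rw [h, h, polar_smul_left', polar_smul_left']; module

namespace Frame

variable {QL : QuadraticForm L V} {a f u : V} (hF : Frame QL a f u)

include hF

theorem fa : polar QL f a = 1 := by rw [polar_comm]; exact hF.af

theorem ua : polar QL u a = 0 := by rw [polar_comm]; exact hF.au

theorem uf : polar QL u f = 0 := by rw [polar_comm]; exact hF.fu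

theorem ne0 : a ≠ 0 := fun e => by
  have := hF.af
  rw [e, polar_zero_left] at this
  exact zero_ne_one this

theorem coord (x y z : L) :
    polar QL (x • a + y • f + z • u) a = y ∧ polar QL (x • a + y • f + z • u) f = x ∧
      polar QL (x • a + y • f + z • u) u = z * (2 * QL u) ∧ QL (x • a + y • f + z • u) = x * y + z * z * QL u := by
  simp only [polar_add_left, polar_smul_left', polar_self', map_add', map_smul', polar_smul_right', hF.sa, hF.sf,
    hF.af, hF.au, hF.fu, hF.fa, hF.ua, hF.uf]
  exact ⟨by ring, by ring, by ring, by ring⟩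

theorem isE_mul {c c' : L} {x y : V ≃ₗ[F] V} (hx : IsE QL a u c x) (hy : IsE QL a u c' y) :
    IsE QL a u (c + c') (x * y) := fun v => by
  show x (y v) = _
  rw [hx (y v), hy v]
  simp only [polar_add_left, polar_sub_left, polar_smul_left', polar_self', hF.sa, hF.au, hF.ua, mul_zero, add_zero,
    sub_zero]
  module

theorem eq_one_of_isE {x : V ≃ₗ[F] V} (hx : IsE QL a u (0 : L) x) : x = 1 :=
  LinearEquiv.ext fun v => by rw [hx v]; simp

theorem isE_fix {c : L} {x : V ≃ₗ[F] V} (hx : IsE QL a u c x) (t : L) : x (t • a) = t • a := by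
  rw [hx]; simp [polar_smul_left', polar_self', hF.sa, hF.au]

variable (h3 : Module.finrank L V = 3) [FiniteDimensional L V] (h2 : (2 : L) ≠ 0)

include h3 h2

theorem decomp (v : V) : v = polar QL v f • a + polar QL v a • f + (polar QL v u / (2 * QL u)) • u := by
  let φ : L × L × L →ₗ[L] V := (LinearMap.toSpanSingleton L V a).coprod
    ((LinearMap.toSpanSingleton L V f).coprod (LinearMap.toSpanSingleton L V u))
  have hφ : ∀ p : L × L × L, φ p = p.1 • a + p.2.1 • f + p.2.2 • u := fun p => by simp [φ, add_assoc]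
  have hinj : Function.Injective φ := (injective_iff_map_eq_zero φ).2 fun p hp => by
    obtain ⟨e1, e2, e3, -⟩ := hF.coord p.1 p.2.1 p.2.2
    rw [← hφ, hp, polar_zero_left] at e1 e2 e3
    exact Prod.ext e2.symm (Prod.ext e1.symm ((mul_eq_zero.1 e3.symm).resolve_right (mul_ne_zero h2 hF.du)))
  obtain ⟨p, rfl⟩ := (LinearMap.injective_iff_surjective_of_finrank_eq_finrank (f := φ) (by simp [h3])).1 hinj v
  obtain ⟨e1, e2, e3, -⟩ := hF.coord p.1 p.2.1 p.2.2
  rw [hφ, e1, e2, e3, mul_div_cancel_right₀ _ (mul_ne_zero h2 hF.du)]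

theorem perp_eq {v : V} (hv : polar QL v a = 0) :
    v = polar QL v f • a + (polar QL v u / (2 * QL u)) • u := by
  conv_lhs => rw [hF.decomp h3 h2 v, hv, zero_smul, add_zero]

theorem value (v : V) :
    QL v = polar QL v f * polar QL v a + polar QL v u / (2 * QL u) * (polar QL v u / (2 * QL u)) * QL u := by
  conv_lhs => rw [hF.decomp h3 h2 v]
  exact (hF.coord _ _ _).2.2.2

theorem sing_perp {v : V} (hQv : QL v = 0) (hv : polar QL v a = 0) : v = polar QL v f • a := by
  have h := hF.value h3 h2 v
  rw [hQv, hv, mul_zero, zero_add] at h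
  have hz := mul_self_eq_zero.1 ((mul_eq_zero.1 h.symm).resolve_right hF.du)
  conv_lhs => rw [hF.perp_eq h3 h2 hv, hz, zero_smul, add_zero]

end Frame

theorem sum_two_squares {K : Type*} [Field K] [Finite K] (h2 : (2 : K) ≠ 0) (x : K) :
    ∃ l k : K, l * l + k * k = x := by
  haveI := Fintype.ofFinite K
  obtain ⟨l, k, hlk⟩ := FiniteField.exists_root_sum_quadratic (R := K) (f := Polynomial.X ^ 2)
    (g := Polynomial.X ^ 2 - Polynomial.C x) (Polynomial.degree_X_pow 2)
    (Polynomial.degree_X_pow_sub_C (by decide) _) (FiniteField.odd_card_of_char_ne_two fun h => h2 (by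
      haveI := ringChar.of_eq h
      exact CharTwo.two_eq_zero))
  simp only [Polynomial.eval_pow, Polynomial.eval_X, Polynomial.eval_sub, Polynomial.eval_C] at hlk
  exact ⟨l, k, by linear_combination hlk⟩

namespace OExt3

variable {QL : QuadraticForm L V} {ε : Module.Dual F L} {Q : QuadraticForm F V} {M : Subgroup (V ≃ₗ[F] V)}
variable (hT : OExt3 QL ε Q M) [Finite F] [FiniteDimensional F L] [FiniteDimensional L V]

include hT

theorem odd : Odd (Module.finrank F L) := hT.prime.odd_of_ne_two (by have := hT.three_le; omega)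

theorem exists_frame {a : V} (ha0 : a ≠ 0) (ha : QL a = 0) : ∃ f u, Frame QL a f u := by
  obtain ⟨f, hf, haf⟩ := exists_pair hT.nd ha0 ha
  obtain ⟨u, hu, hQu⟩ := exists_aniso_perp hT.nd (ndOn_pair ha (y := f) (by rw [haf]; exact one_ne_zero))
    (lt_of_le_of_lt (finrank_pair_le (F := L) a f) hT.dim)
  exact ⟨f, u, ha, hf, haf, by rw [polar_comm]; exact hu a (Submodule.subset_span (by simp)),
    by rw [polar_comm]; exact hu f (Submodule.subset_span (by simp)), hQu⟩

/-- Distinct singular lines are not orthogonal. -/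
theorem mem_of_sing_perp {a v : V} (ha0 : a ≠ 0) (ha : QL a = 0) (hv : QL v = 0) (hp : polar QL v a = 0) :
    v ∈ line F L a := by
  obtain ⟨f, u, hF⟩ := hT.exists_frame ha0 ha
  rw [hF.sing_perp hT.three hT.two' hv hp]
  exact smul_mem_line a _

theorem exists_isE {a f u : V} (hF : Frame QL a f u) (c : L) : ∃ x ∈ M, IsE QL a u c x := by
  obtain ⟨x, hx, hxv, -⟩ := hT.toOExt.exists_E hF.sa (b := c • u) (by rw [polar_smul_right', hF.au, mul_zero])
  refine ⟨x, hx, fun v => ?_⟩
  rw [hxv, map_smul' QL c u, polar_smul_right', smul_smul, mul_comm c (polar QL v a)]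

/-- Linear elements preserve the form over the big field. -/
theorem lin_polar {x : V ≃ₗ[F] V} (hx : x ∈ M) (hxl : ∀ (l : L) (v : V), x (l • v) = l • x v) (p q : V) :
    polar QL (x p) (x q) = polar QL p q := hT.toOExt.eps_ext fun t => by
  rw [← polar_smul_right', ← hT.toOExt.polarQ, ← hxl, orth_polar (hT.toOExt.mem_orthQ hx), hT.toOExt.polarQ,
    polar_smul_right']

theorem lam_add {a : V} {T T' : L →ₗ[F] L} (ha : QL a = 0) (h : Lam QL M a T) (h' : Lam QL M a T') :
    Lam QL M a (T + T') := by
  obtain ⟨x, hx, hxv⟩ := h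
  obtain ⟨y, hy, hyv⟩ := h'
  refine ⟨x * y, mul_mem hx hy, fun v => ?_⟩
  show x (y v) = _
  rw [hxv, hyv, polar_add_left, polar_smul_left', polar_self', ha, mul_zero, mul_zero, add_zero,
    LinearMap.add_apply, add_smul]
  abel

theorem lam_zero {a : V} : Lam QL M a (0 : L →ₗ[F] L) := ⟨1, one_mem _, fun v => by simp⟩

theorem lam_neg {a : V} {T : L →ₗ[F] L} (ha : QL a = 0) (h : Lam QL M a T) : Lam QL M a (-T) := by
  obtain ⟨x, hx, hxv⟩ := h
  refine ⟨x⁻¹, inv_mem hx, fun v => ?_⟩
  show x.symm v = _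
  rw [LinearEquiv.symm_apply_eq, hxv, polar_add_left, polar_smul_left', polar_self', ha, mul_zero, mul_zero, add_zero,
    LinearMap.neg_apply, neg_smul]
  abel

theorem lam_skew {a : V} {T : L →ₗ[F] L} (ha0 : a ≠ 0) (ha : QL a = 0) (h : Lam QL M a T) (x y : L) :
    ε (x * T y) + ε (y * T x) = 0 := by
  obtain ⟨g, hg, hgv⟩ := h
  obtain ⟨f, hf, haf⟩ := exists_pair hT.nd ha0 ha
  have hfa : polar QL f a = 1 := by rw [polar_comm]; exact haf
  have hq : ∀ η : L, ε (η * T η) = 0 := fun η => by
    have := mem_orth.1 (hT.toOExt.mem_orthQ hg) (η • f)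
    rw [hgv, polar_smul_left', hfa, mul_one, hT.form, hT.form, map_add', map_smul', map_smul', polar_smul_left',
      polar_smul_right', hf, ha, hfa] at this
    simpa using this
  have h1 := hq (x + y)
  simp only [map_add, add_mul, mul_add] at h1
  linear_combination h1 - hq x - hq y

/-- Conjugating by a linear element. -/
theorem lam_conj {a b : V} {κ : L} {T : L →ₗ[F] L} (h : Lam QL M a T) {x : V ≃ₗ[F] V} (hx : x ∈ M)
    (hxl : ∀ (l : L) (v : V), x (l • v) = l • x v) (hxa : x a = κ • b) :
    Lam QL M b (LinearMap.mulLeft F κ ∘ₗ T ∘ₗ LinearMap.mulLeft F κ) := by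
  obtain ⟨y, hy, hyv⟩ := h
  refine ⟨x * y * x⁻¹, mul_mem (mul_mem hx hy) (inv_mem hx), fun v => ?_⟩
  show x (y (x.symm v)) = _
  rw [hyv, map_add, x.apply_symm_apply, hxl, hxa, smul_smul, ← hT.lin_polar hx hxl (x.symm v) a,
    x.apply_symm_apply, hxa, polar_smul_right']
  simp [mul_comm]

theorem lam_torus {a : V} {T : L →ₗ[F] L} (ha0 : a ≠ 0) (ha : QL a = 0) (h : Lam QL M a T) {l : L} (hl : l ≠ 0) :
    Lam QL M a (LinearMap.mulLeft F (l * l) ∘ₗ T ∘ₗ LinearMap.mulLeft F (l * l)) := by
  obtain ⟨f, hf, haf⟩ := exists_pair hT.nd ha0 ha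
  have hfa : polar QL f a = 1 := by rw [polar_comm]; exact haf
  have e1 : QL (a - f) = -1 := by rw [CfsgLib.Geometry.map_sub', ha, hf, haf]; ring
  have e2 : QL (a - l • f) = -l := by rw [CfsgLib.Geometry.map_sub', map_smul', polar_smul_right', ha, hf, haf]; ring
  have e1' : QL (a - f) ≠ 0 := by rw [e1]; exact neg_ne_zero.2 one_ne_zero
  have e2' : QL (a - l • f) ≠ 0 := by rw [e2]; exact neg_ne_zero.2 hl
  obtain ⟨x, hx, hxv, hxl, -⟩ := hT.toOExt.exists_rot e1' e2'
  refine hT.lam_conj h hx hxl ?_
  have h1 : refl QL (a - l • f) e2' a = l • f := by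
    rw [refl_apply, e2, polar_sub_right, polar_smul_right', polar_self', ha, haf, mul_zero, mul_one, zero_sub,
      inv_mul_cancel₀ (neg_ne_zero.2 hl), one_smul, sub_sub_cancel]
  have h2 : refl QL (a - f) e1' f = a := by
    rw [refl_apply, e1, polar_sub_right, polar_self', hf, hfa, mul_zero, sub_zero, mul_one, inv_neg, inv_one,
      neg_smul, one_smul]
    abel
  rw [hxv, h1, map_smul, h2, map_smul, h1, smul_smul, map_smul, h2]

/-- A non-zero displacement element exists at every singular point as soon as at one. -/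
theorem lam_transfer {a b : V} {T : L →ₗ[F] L} (ha0 : a ≠ 0) (ha : QL a = 0) (hb0 : b ≠ 0) (hb : QL b = 0)
    (h : Lam QL M a T) (hT0 : T ≠ 0) : ∃ T' : L →ₗ[F] L, Lam QL M b T' ∧ T' ≠ 0 := by
  obtain ⟨x, hx, c, hc, hxa, hxl⟩ := hT.toOExt.exists_move' (Or.inr hT.odd) ha0 hb0 ha hb
  refine ⟨_, hT.lam_conj (κ := algebraMap F L c) h hx hxl (by rw [hxa, algebraMap_smul]), fun e => hT0 ?_⟩
  have hc' : algebraMap F L c ≠ 0 := fun e' => hc ((algebraMap F L).injective (by rw [e', map_zero]))
  refine LinearMap.ext fun y => ?_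
  have := LinearMap.congr_fun e ((algebraMap F L c)⁻¹ * y)
  simpa [hc'] using this

/-- A skew map commuting up to a form with a multiplier outside the small field vanishes. -/
theorem skew_zero {τ : L} (hτ : τ ∉ Set.range (algebraMap F L)) {T : L →ₗ[F] L}
    (hsk : ∀ x y, ε (x * T y) + ε (y * T x) = 0) {R : Type*} [Field R] [Algebra R F] [Algebra R L]
    [IsScalarTower R F L] (h2 : (2 : R) ≠ 0) {ψ : F →ₗ[R] R} (hψ : ψ ≠ 0)
    (hsq : ∀ l : L, ψ (ε (τ * (l * l) * T (l * l))) = 0) : T = 0 := by
  haveI : Finite L := Module.finite_of_finite F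
  set B : L → L → R := fun x y => ψ (ε (τ * x * T y)) + ψ (ε (τ * y * T x)) with hB
  set q : L → R := fun x => ψ (ε (τ * x * T x)) with hq
  have hBadd : ∀ x x' y, B (x + x') y = B x y + B x' y := fun x x' y => by
    simp only [hB, map_add, mul_add, add_mul]; ring
  have hexp : ∀ x y, q (x + y) = q x + q y + B x y := fun x y => by
    simp only [hq, hB, map_add, mul_add, add_mul]; ring
  have hquad : ∀ x, q (x + x) = 4 * q x := fun x => by
    rw [hexp]; simp only [hq, hB]; ring
  have hneg : ∀ x y, q (x - y) = q x + q y - B x y := fun x y => by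
    simp only [hq, hB, map_sub, mul_sub, sub_mul]; ring
  have key : ∀ x y, B (x * x) (y * y) + 4 * q (x * y) = 0 := fun x y => by
    have h1 := hsq (x + y)
    have h1' := hsq (x - y)
    rw [show (x + y) * (x + y) = (x * x + y * y) + (x * y + x * y) by ring] at h1
    rw [show (x - y) * (x - y) = (x * x + y * y) - (x * y + x * y) by ring] at h1'
    change q _ = 0 at h1 h1'
    rw [hexp, hexp, hquad] at h1
    rw [hneg, hexp, hquad] at h1'
    have e1 : q (x * x) = 0 := hsq x
    have e2 : q (y * y) = 0 := hsq y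
    rw [e1, e2] at h1 h1'
    refine mul_left_cancel₀ h2 ?_
    linear_combination h1 + h1'
  have h4R : (4 : R) ≠ 0 := by
    rw [show (4 : R) = 2 * 2 by norm_num]; exact mul_ne_zero h2 h2
  let G : L →+ R := AddMonoidHom.mk' (fun z => B z 1) fun x x' => hBadd x x' 1
  have hG : G = 0 := by
    refine AddMonoidHom.eq_of_eqOn_dense (s := Set.range fun x : L => x ^ 4) (closure_fourth ?_) ?_
    · rw [Module.natCard_eq_pow_finrank (K := F) (V := L)]
      have h3 : 3 ≤ Nat.card F := by
        by_contra hc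
        have hF := Finite.one_lt_card (α := F)
        haveI := Fintype.ofFinite F
        have hodd := FiniteField.odd_card_of_char_ne_two (F := F) fun e => hT.two (by
          haveI := ringChar.of_eq e
          exact CharTwo.two_eq_zero)
        rw [← Nat.card_eq_fintype_card] at hodd
        omega
      have h := (Nat.pow_le_pow_left h3 3).trans (Nat.pow_le_pow_right Nat.card_pos hT.three_le)
      norm_num at h ⊢
      omega
    · rintro _ ⟨x, rfl⟩
      show B (x ^ 4) 1 = 0
      have := key (x * x) 1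
      rw [mul_one, mul_one] at this
      rw [show x ^ 4 = x * x * (x * x) by ring]
      have e : q (x * x) = 0 := hsq x
      rw [e, mul_zero, add_zero] at this
      exact this
  have hq0 : ∀ x, q x = 0 := fun x => by
    have := key x 1
    rw [mul_one, mul_one, show B (x * x) 1 = G (x * x) from rfl, hG, AddMonoidHom.zero_apply, zero_add] at this
    exact (mul_eq_zero.1 this).resolve_left h4R
  have hε0 : ∀ x, ε (τ * x * T x) = 0 := fun x => by
    set w := ε (τ * x * T x) with hw
    have hsqF : ∀ t : F, ψ (t * t * w) = 0 := fun t => by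
      have := hq0 (t • x)
      simp only [hq, map_smul, mul_smul_comm, smul_mul_assoc, smul_smul, smul_eq_mul] at this
      rw [hw]; exact this
    by_contra hw0
    refine hψ (LinearMap.ext fun s => ?_)
    obtain ⟨l, k, hlk⟩ := sum_two_squares hT.two (s / w)
    rw [LinearMap.zero_apply, show s = l * l * w + k * k * w by
      rw [← add_mul, hlk, div_mul_cancel₀ _ hw0], map_add, hsqF, hsqF, add_zero]
  have hcomm : ∀ x, T (τ * x) = τ * T x := fun x => by
    refine (hT.toOExt.eps_ext fun t => ?_).symm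
    have h1 : ε (τ * t * T x) + ε (τ * x * T t) = 0 := by
      have := hε0 (t + x)
      simp only [map_add, mul_add, add_mul] at this
      linear_combination this - hε0 t - hε0 x
    have h3 := hsk t (τ * x)
    rw [show t * (τ * T x) = τ * t * T x by ring]
    linear_combination h1 - h3
  let C : Subalgebra F L :=
    { carrier := {s | ∀ x, T (s * x) = s * T x}
      one_mem' := fun x => by rw [one_mul, one_mul]
      mul_mem' := fun {s s'} hs hs' x => by rw [mul_assoc, hs, hs', mul_assoc]
      zero_mem' := fun x => by rw [zero_mul, zero_mul, map_zero]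
      add_mem' := fun {s s'} hs hs' x => by rw [add_mul, map_add, hs, hs', add_mul]
      algebraMap_mem' := fun c x => by rw [← Algebra.smul_def, map_smul, Algebra.smul_def] }
  haveI := Subalgebra.isSimpleOrder_of_finrank_prime F L hT.prime
  rcases IsSimpleOrder.eq_bot_or_eq_top C with h | h
  · exact absurd (Algebra.mem_bot.1 (h ▸ (show τ ∈ C from hcomm))) hτ
  have hmul : ∀ x, T x = x * T 1 := fun x => by
    have := (h ▸ Algebra.mem_top : x ∈ C) 1
    rwa [mul_one] at this
  have h2L := hT.toOExt.two'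
  suffices T 1 = 0 by
    refine LinearMap.ext fun x => ?_
    rw [hmul, this, mul_zero, LinearMap.zero_apply]
  refine hT.toOExt.eps_ext fun t => ?_
  have h4 := hsk (t / 2) 1
  rw [hmul (t / 2), one_mul, ← map_add, ← two_mul, ← mul_assoc, mul_div_cancel₀ _ h2L] at h4
  rw [mul_zero, map_zero, h4]

/-- The rows of the displacement maps are as big as possible. -/
theorem row_surj {a : V} (ha0 : a ≠ 0) (ha : QL a = 0) {T : L →ₗ[F] L} (hTa : Lam QL M a T) (hT0 : T ≠ 0)
    {η₀ : L} (h0 : η₀ ≠ 0) {x : L} (hx : ε (η₀ * x) = 0) : ∃ T' : L →ₗ[F] L, Lam QL M a T' ∧ T' η₀ = x := by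
  haveI : Finite L := Module.finite_of_finite F
  set p := ringChar F with hp
  haveI : Fact p.Prime := ⟨CharP.char_is_prime F p⟩
  haveI : CharP L p := charP_of_injective_algebraMap (algebraMap F L).injective p
  letI : Algebra (ZMod p) F := ZMod.algebra F p
  letI : Algebra (ZMod p) L := ZMod.algebra L p
  haveI : IsScalarTower (ZMod p) F L := IsScalarTower.of_algebraMap_eq' (Subsingleton.elim _ _)
  haveI : FiniteDimensional (ZMod p) L := Module.Finite.of_finite
  haveI : FiniteDimensional (ZMod p) F := Module.Finite.of_finite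
  let ψ : F →ₗ[ZMod p] ZMod p := Algebra.trace (ZMod p) F
  have hψ : ψ ≠ 0 := Algebra.trace_ne_zero (ZMod p) F
  have h2p : (2 : ZMod p) ≠ 0 := fun h => hT.two (by
    rw [← map_ofNat (algebraMap (ZMod p) F) 2, h, map_zero])
  let X : AddSubgroup L :=
    { carrier := {y | ∃ T' : L →ₗ[F] L, Lam QL M a T' ∧ T' η₀ = y}
      zero_mem' := ⟨0, hT.lam_zero, rfl⟩
      add_mem' := fun {y y'} hy hy' => by
        obtain ⟨T₁, h₁, rfl⟩ := hy
        obtain ⟨T₂, h₂, rfl⟩ := hy'
        exact ⟨T₁ + T₂, hT.lam_add ha h₁ h₂, rfl⟩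
      neg_mem' := fun {y} hy => by
        obtain ⟨T₁, h₁, rfl⟩ := hy
        exact ⟨-T₁, hT.lam_neg ha h₁, rfl⟩ }
  by_contra hcon
  have hxX : x ∉ AddSubgroup.toZModSubmodule p X := hcon
  obtain ⟨φ, hφx, hφX⟩ := Submodule.exists_dual_map_eq_bot_of_notMem hxX inferInstance
  let ε' : Module.Dual (ZMod p) L := ψ ∘ₗ ε.restrictScalars (ZMod p)
  have hε' : ε' ≠ 0 := fun e => hψ (LinearMap.ext fun c => by
    obtain ⟨t, ht⟩ := hT.toOExt.exists_eps_one
    have := LinearMap.congr_fun e (c • t)
    simpa [ε', ht] using this)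
  obtain ⟨μ, hμ⟩ := exists_form ε' hε' φ
  set ζ := μ 1 with hζ
  have hφ : ∀ y, φ y = ψ (ε (ζ * y)) := fun y => by
    rw [hμ y, show μ y = ζ * y by rw [hζ, mul_comm, ← smul_eq_mul y, ← map_smul, smul_eq_mul, mul_one]]
    rfl
  have hτ : ζ / η₀ ∉ Set.range (algebraMap F L) := by
    rintro ⟨c, hc⟩
    refine hφx ?_
    rw [hφ, show ζ = c • η₀ by rw [Algebra.smul_def, hc, div_mul_cancel₀ _ h0], smul_mul_assoc, eps_smul', hx,
      mul_zero, map_zero]
  set T₁ := LinearMap.mulLeft F η₀ ∘ₗ T ∘ₗ LinearMap.mulLeft F η₀ with hT₁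
  have hz := hT.skew_zero hτ (T := T₁) (fun y z => by
      have := hT.lam_skew ha0 ha hTa (η₀ * y) (η₀ * z)
      rw [← this, hT₁]
      simp only [LinearMap.comp_apply, LinearMap.mulLeft_apply]
      congr 2 <;> ring) h2p hψ fun l => by
    rcases eq_or_ne l 0 with rfl | hl
    · simp
    have hm := (Submodule.mem_bot (ZMod p)).1 (hφX ▸ Submodule.mem_map_of_mem (f := φ)
      (show _ ∈ AddSubgroup.toZModSubmodule p X from ⟨_, hT.lam_torus ha0 ha hTa hl, rfl⟩))
    rw [hφ] at hm
    rw [← hm, hT₁]
    simp only [LinearMap.comp_apply, LinearMap.mulLeft_apply]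
    congr 2
    field_simp
  refine hT0 (LinearMap.ext fun y => ?_)
  have := LinearMap.congr_fun hz (η₀⁻¹ * y)
  simpa [hT₁, h0] using this

end OExt3

end CfsgLib.OrthField
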