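import Cfsg.Agent.Lib.OrthField.ThreeStep
import Mathlib.FieldTheory.Galois.Basic
import Mathlib.GroupTheory.Perm.Cycle.Type
import Mathlib.GroupTheory.SpecificGroups.Cyclic

/-!
Over a cubic extension a pair of lines meeting in a point cannot have an orthogonal vector.
-/

set_option autoImplicit false
set_option linter.unusedSectionVars false
set_option linter.style.haveILetI false

namespace CfsgLib.OrthField

open QuadraticMap CfsgLib.Geometry CfsgLib.OrthMax CfsgLib.FieldMax

variable {F L V : Type*} [Field F] [Field L] [Algebra F L] [AddCommGroup V] [Module F V] [Module L V]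
  [IsScalarTower F L V]

theorem Frame.fixed {QL : QuadraticForm L V} {a f u : V} (hF : Frame QL a f u) [FiniteDimensional L V]
    (h3 : Module.finrank L V = 3) (h2 : (2 : L) ≠ 0) {c : L} {x : V ≃ₗ[F] V} (hc : c ≠ 0) (hx : IsE QL a u c x)
    {v : V} (hv : x v = v) : v ∈ line F L a := by
  rw [hx, sub_sub, add_sub_assoc, add_eq_left] at hv
  have h1 := congrArg (fun w => polar QL w u) hv
  simp [polar_sub_left, polar_smul_left', polar_self', hF.au, hc, hF.du, h2] at h1
  rw [h1] at hv
  simp [hc, hF.ne0] at hv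
  rw [hF.perp_eq h3 h2 h1, hv, zero_div, zero_smul, add_zero]
  exact smul_mem_line a _

theorem Frame.swap {QL : QuadraticForm L V} {a f u : V} (hF : Frame QL a f u) : Frame QL f a u :=
  ⟨hF.sf, hF.sa, hF.fa, hF.fu, hF.au, hF.du⟩

/-- Endomorphisms of an extension of prime degree commute. -/
theorem algHom_comm [Finite F] [FiniteDimensional F L] (hp : (Module.finrank F L).Prime) (σ τ : L →ₐ[F] L) (t : L) :
    σ (τ t) = τ (σ t) := by
  haveI : Finite L := Module.finite_of_finite F
  haveI : Fact (Module.finrank F L).Prime := ⟨hp⟩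
  haveI : IsCyclic (L ≃ₐ[F] L) := isCyclic_of_prime_card (p := Module.finrank F L) (IsGalois.card_aut_eq_finrank F L)
  letI : CommGroup (L ≃ₐ[F] L) := IsCyclic.commGroup
  let e := fun f : L →ₐ[F] L => AlgEquiv.ofBijective f (Finite.injective_iff_bijective.1 f.injective)
  exact AlgEquiv.congr_fun (mul_comm (e σ) (e τ)) t

namespace OExt3

variable {QL : QuadraticForm L V} {ε : Module.Dual F L} {Q : QuadraticForm F V} {M : Subgroup (V ≃ₗ[F] V)}
variable (hT : OExt3 QL ε Q M) [Finite F] [FiniteDimensional F L] [FiniteDimensional L V]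

include hT

/-- An element keeping two independent vectors in the image keeps the image. -/
theorem keep (hNL : NoLam QL M) {g : V ≃ₗ[F] V} {a : V} (hp : Pair QL M g a) {x : V ≃ₗ[F] V} (hx : x ∈ M)
    {w₁ w₂ : V} (h₁ : w₁ ∈ img L g a) (h₂ : w₂ ∈ img L g a) (k₁ : x w₁ ∈ img L g a) (k₂ : x w₂ ∈ img L g a)
    (h₁0 : w₁ ≠ 0) (hind : w₂ ∉ F ∙ w₁) {y : V} (hy : y ∈ img L g a) : x y ∈ img L g a := by
  haveI : FiniteDimensional F V := Module.Finite.trans L V
  set x' := g⁻¹ * x * g with hx'
  have hx'M : x' ∈ M := mul_mem (mul_mem (inv_mem hp.mem) hx) hp.mem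
  have hm : ∀ y ∈ img L g a, x y ∈ img L g a → g.symm (x y) ∈ meet L x' a := fun y hy hxy => by
    obtain ⟨t, rfl⟩ := mem_img.1 hy
    obtain ⟨s, hs⟩ := mem_img.1 hxy
    refine ⟨?_, mem_img.2 ⟨t, rfl⟩⟩
    rw [← hs, g.symm_apply_apply]; exact smul_mem_line a s
  have hline : img L x' a = line F L a := by
    by_contra hne
    set v₁ := g.symm (x w₁) with hv₁
    have hv₁0 : v₁ ≠ 0 := by
      rw [hv₁, Ne, LinearEquiv.map_eq_zero_iff, LinearEquiv.map_eq_zero_iff]; exact h₁0
    have hlt : F ∙ v₁ < meet L x' a := by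
      refine lt_of_le_of_ne ((Submodule.span_singleton_le_iff_mem _ _).2 (hm w₁ h₁ k₁)) fun e => hind ?_
      obtain ⟨c, hc⟩ := Submodule.mem_span_singleton.1 (e.symm ▸ hm w₂ h₂ k₂ : g.symm (x w₂) ∈ F ∙ v₁)
      refine Submodule.mem_span_singleton.2 ⟨c, x.injective (g.symm.injective ?_)⟩
      rw [map_smul x, map_smul g.symm]
      exact hc
    have h := Submodule.finrank_lt_finrank_of_lt hlt
    rw [finrank_span_singleton hv₁0] at h
    refine hT.no_big_pair hNL (g := x') (a := a) ⟨hx'M, hp.ne0, hp.sing, hne, fun e => hv₁0 ?_⟩ (by omega)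
    exact (Submodule.mem_bot F).1 (e ▸ hm w₁ h₁ k₁)
  obtain ⟨t, rfl⟩ := mem_img.1 hy
  obtain ⟨s, hs⟩ := mem_line.1 (hline ▸ apply_mem_img x' a t)
  refine mem_img.2 ⟨s, ?_⟩
  rw [hs]
  exact g.apply_symm_apply _

/-- An element keeping the image is semilinear on it. -/
theorem on_img (hNL : NoLam QL M) {g : V ≃ₗ[F] V} {a : V} (hp : Pair QL M g a) {x : V ≃ₗ[F] V} (hx : x ∈ M)
    (hB : ∀ y ∈ img L g a, x y ∈ img L g a) :
    ∃ (σ : L →ₐ[F] L) (μ : L), μ ≠ 0 ∧ ∀ t : L, x (g (t • a)) = g ((σ t * μ) • a) := by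
  obtain ⟨f, u, hF⟩ := hT.exists_frame hp.ne0 hp.sing
  obtain ⟨σ, μ, -, hμ, hσ, -⟩ := hT.on_line hNL hF (mul_mem (mul_mem (inv_mem hp.mem) hx) hp.mem) fun t => by
    obtain ⟨s, hs⟩ := mem_img.1 (hB _ (apply_mem_img g a t))
    show g.symm (x (g (t • a))) ∈ _
    rw [← hs, g.symm_apply_apply]
    exact smul_mem_line a s
  refine ⟨σ, μ, hμ, fun t => ?_⟩
  rw [← hσ]
  exact (g.apply_symm_apply _).symm

theorem isE_pow {a f u : V} (hF : Frame QL a f u) {c : L} {x : V ≃ₗ[F] V} (hx : IsE QL a u c x) :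
    x ^ ringChar F = 1 := by
  haveI : CharP L (ringChar F) := charP_of_injective_algebraMap (algebraMap F L).injective _
  have : ∀ n : ℕ, IsE QL a u ((n : L) * c) (x ^ n) := by
    intro n
    induction n with
    | zero => rw [Nat.cast_zero, zero_mul, pow_zero]; exact fun v => by simp
    | succ n ih => rw [Nat.cast_succ, add_one_mul, pow_succ]; exact hF.isE_mul ih hx
  have h := this (ringChar F)
  rw [CharP.cast_eq_zero, zero_mul] at h
  exact hF.eq_one_of_isE h

/-- A Siegel element keeping the image commutes with one fixing it pointwise. -/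
theorem exists_commuting (hNL : NoLam QL M) {g : V ≃ₗ[F] V} {a u : V} {c : L} (hp : Pair QL M g a) {f : V}
    (hF : Frame QL a f u) {x : V ≃ₗ[F] V} (hx : x ∈ M) (hxE : IsE QL a u c x)
    (hB : ∀ y ∈ img L g a, x y ∈ img L g a) :
    ∃ h ∈ M, (∀ y ∈ img L g a, h y = y) ∧ h ≠ 1 ∧ x * h = h * x := by
  classical
  haveI : Finite L := Module.finite_of_finite F
  haveI : FiniteDimensional F V := Module.Finite.trans L V
  haveI := Fintype.ofFinite L
  set p := ringChar F with hpdef
  haveI : Fact p.Prime := ⟨CharP.char_is_prime F p⟩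
  haveI : CharP L p := charP_of_injective_algebraMap (algebraMap F L).injective p
  obtain ⟨σ, μ, hμ, hσ⟩ := hT.on_img hNL hp hx hB
  have hxs : ∀ s : L, ∃ t, g (s • a) = x (g (t • a)) := fun s => by
    obtain ⟨t, ht⟩ : ∃ t, σ t = s / μ := (Finite.injective_iff_surjective.1 σ.toRingHom.injective) (s / μ)
    exact ⟨t, by rw [hσ, ht, div_mul_cancel₀ _ hμ]⟩
  set y := g⁻¹ * x * g with hy
  have hyM : y ∈ M := mul_mem (mul_mem (inv_mem hp.mem) hx) hp.mem
  choose e he hev using fun c => hT.exists_isE hF c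
  have hconj : ∀ c, ∃ d, y * e c * y⁻¹ = e d := fun c => by
    obtain ⟨d, hd⟩ := hT.fix_line hNL hF (mul_mem (mul_mem hyM (he c)) (inv_mem hyM)) fun s => by
      obtain ⟨t, ht⟩ := hxs s
      have h1 : y (t • a) = s • a := by
        show g.symm (x (g (t • a))) = _
        rw [← ht, g.symm_apply_apply]
      show y (e c (y.symm (s • a))) = _
      rw [← h1, y.symm_apply_apply, hF.isE_fix (hev c)]
    exact ⟨d, LinearEquiv.ext fun v => by rw [hd, hev]⟩
  choose φ hφ using hconj
  have heinj : Function.Injective e := fun c c' h => by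
    have h1 := congrArg (fun x : V ≃ₗ[F] V => polar QL (x f) u) h
    simpa [hev c f, hev c' f, polar_sub_left, polar_add_left, polar_smul_left', polar_self', hF.au, hF.fu, hF.fa,
      hF.du, hT.toOExt.two'] using h1
  have hinj : Function.Injective φ := fun c c' h => heinj (mul_left_cancel (mul_right_cancel
    (((hφ c).trans (congrArg e h)).trans (hφ c').symm)))
  let π : Equiv.Perm L := Equiv.ofBijective φ (Finite.injective_iff_bijective.1 hinj)
  have hit : ∀ (n : ℕ) c, e ((π ^ n) c) = y ^ n * e c * (y ^ n)⁻¹ := by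
    intro n
    induction n with
    | zero => intro c; simp
    | succ n ih =>
      intro c
      rw [pow_succ' π, Equiv.Perm.mul_apply]
      show e (φ _) = _
      rw [← hφ, ih, pow_succ' y, mul_inv_rev y]
      simp only [mul_assoc]
  have hyp : y ^ p = 1 := by
    have h := conj_pow (a := g⁻¹) (b := x) (i := p)
    rw [inv_inv, hT.isE_pow hF hxE, mul_one, inv_mul_cancel] at h
    exact h
  have hπ : π ^ p ^ 1 = 1 := Equiv.ext fun c => heinj (by
    rw [pow_one, hit, hyp, one_mul, inv_one, mul_one]; rfl)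
  have h0 : π 0 = 0 := heinj (by
    show e (φ 0) = _
    rw [← hφ, hF.eq_one_of_isE (hev 0), mul_one, mul_inv_cancel])
  obtain ⟨c₁, hc₁, hc0⟩ := Equiv.Perm.exists_fixed_point_of_prime' (p := p) (α := L) (by
    obtain ⟨n, -, hn⟩ := FiniteField.card L p
    rw [hn]; exact dvd_pow_self p n.ne_zero) hπ h0
  refine ⟨g * e c₁ * g⁻¹, mul_mem (mul_mem hp.mem (he c₁)) (inv_mem hp.mem), fun w hw => ?_, fun h => hc0 ?_, ?_⟩
  · obtain ⟨t, rfl⟩ := mem_img.1 hw
    show g (e c₁ (g.symm (g (t • a)))) = _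
    rw [g.symm_apply_apply, hF.isE_fix (hev c₁)]
  · refine heinj ?_
    rw [hF.eq_one_of_isE (hev 0)]
    exact mul_left_cancel (a := g) (by rw [mul_one]; exact mul_inv_eq_one.1 h)
  · have h := hφ c₁
    rw [show φ c₁ = c₁ from hc₁, mul_inv_eq_iff_eq_mul, hy] at h
    have h' := congrArg (fun z => g * z * g⁻¹) h
    simp only [mul_assoc, mul_inv_cancel_left, mul_inv_cancel, mul_one] at h'
    simpa [mul_assoc] using h'

/-- The torus of a frame. -/
theorem exists_torus {a f u : V} (hF : Frame QL a f u) {w : L} (hw : w ≠ 0) :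
    ∃ d ∈ M, (∀ (l : L) (v : V), d (l • v) = l • d v) ∧ d a = (w * w) • a ∧ d f = (w * w)⁻¹ • f ∧ d u = u := by
  have e1 : QL (a - f) = -1 := by rw [CfsgLib.Geometry.map_sub', hF.sa, hF.sf, hF.af]; ring
  have e2 : QL (a - w • f) = -w := by
    rw [CfsgLib.Geometry.map_sub', map_smul', polar_smul_right', hF.sa, hF.sf, hF.af]; ring
  have e1' : QL (a - f) ≠ 0 := by rw [e1]; exact neg_ne_zero.2 one_ne_zero
  have e2' : QL (a - w • f) ≠ 0 := by rw [e2]; exact neg_ne_zero.2 hw
  obtain ⟨x, hx, hxv, hxl, hxfix⟩ := hT.toOExt.exists_rot e1' e2'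
  have h1 : refl QL (a - w • f) e2' a = w • f := by
    rw [refl_apply, e2, polar_sub_right, polar_smul_right', polar_self', hF.sa, hF.af, mul_zero, mul_one, zero_sub,
      inv_mul_cancel₀ (neg_ne_zero.2 hw), one_smul, sub_sub_cancel]
  have h1' : refl QL (a - w • f) e2' f = w⁻¹ • a := by
    rw [refl_apply, e2, polar_sub_right, polar_smul_right', polar_self', hF.sf, hF.fa, mul_zero, mul_zero, sub_zero,
      smul_sub, smul_smul]
    match_scalars <;> field_simp <;> ring
  have h2 : refl QL (a - f) e1' f = a := by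
    rw [refl_apply, e1, polar_sub_right, polar_self', hF.sf, hF.fa, mul_zero, sub_zero, mul_one, inv_neg, inv_one,
      neg_smul, one_smul]
    abel
  have h2' : refl QL (a - f) e1' a = f := by
    rw [refl_apply, e1, polar_sub_right, polar_self', hF.sa, hF.af, mul_zero, zero_sub, inv_mul_cancel₀
      (neg_ne_zero.2 one_ne_zero), one_smul, sub_sub_cancel]
  refine ⟨x, hx, hxl, ?_, ?_, hxfix u ?_ ?_⟩
  · rw [hxv, h1, map_smul, h2, map_smul, h1, smul_smul, map_smul, h2]
  · rw [hxv, h1', map_smul, h2', map_smul, h1', smul_smul, map_smul, h2', mul_inv]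
  · rw [polar_sub_right, hF.ua, hF.uf, sub_zero]
  · rw [polar_sub_right, polar_smul_right', hF.ua, hF.uf, mul_zero, sub_zero]

/-- A semilinear element fixing two vectors forces a rational coordinate on the opposite line. -/
theorem opposite_mem (hNL : NoLam QL M) {g : V ≃ₗ[F] V} {a f u : V} (hp : Pair QL M g a) (hF : Frame QL a f u)
    {σ η x₁ c : L} (hσ0 : σ ≠ 0) (hσB : σ • a ∈ img L g a) (huB : u ∈ img L g a)
    (hyB : x₁ • a + η • f ∈ img L g a) (hη : η ≠ 0) {x : V ≃ₗ[F] V} (hx : x ∈ M) (hxE : IsE QL a u c x) (hc : c ≠ 0)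
    (hB : ∀ y ∈ img L g a, x y ∈ img L g a) : η • f ∈ img L g a := by
  classical
  haveI : Finite L := Module.finite_of_finite F
  have h2 := hT.toOExt.two'
  obtain ⟨h, hh, hfix, hne, hcomm⟩ := hT.exists_commuting hNL hp hF hx hxE hB
  have hline : ∀ t : L, h (t • a) ∈ line F L a := fun t => hF.fixed hT.three h2 hc hxE (by
    show (x * h) (t • a) = _
    rw [hcomm, LinearEquiv.mul_apply, hF.isE_fix hxE])
  obtain ⟨τ, μ, κ, hμ, hτa, hτu⟩ := hT.on_line hNL hF hh hline
  have hμσ : τ σ * μ = σ := smul_left_injective L hF.ne0 ((hτa σ).symm.trans (hfix _ hσB))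
  have hτid : ¬ ∀ t, τ t = t := fun hid => hne (by
    rw [hid] at hμσ
    have hμ1 : μ = 1 := (mul_eq_left₀ hσ0).1 hμσ
    obtain ⟨d, hd⟩ := hT.fix_line hNL hF hh fun t => by rw [hτa, hid, hμ1, mul_one]
    have h1 := hfix u huB
    rw [hd, hF.ua, mul_zero, zero_smul, mul_zero, zero_smul, add_zero, sub_zero, sub_eq_self, polar_self',
      smul_eq_zero] at h1
    obtain rfl : d = 0 :=
      (mul_eq_zero.1 (h1.resolve_right hF.ne0)).resolve_right (mul_ne_zero h2 hF.du)
    exact hF.eq_one_of_isE hd)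
  haveI := Subalgebra.isSimpleOrder_of_finrank_prime F L hT.prime
  have hF' : ∀ t, τ t = t → t ∈ Set.range (algebraMap F L) := fun t ht => by
    rcases IsSimpleOrder.eq_bot_or_eq_top (AlgHom.equalizer τ (AlgHom.id F L)) with e | e
    · exact Algebra.mem_bot.1 (e ▸ (show t ∈ AlgHom.equalizer τ (AlgHom.id F L) from ht))
    · exact absurd (fun t => (show t ∈ AlgHom.equalizer τ (AlgHom.id F L) from e ▸ Algebra.mem_top)) hτid
  -- twisted commutation with the torus
  let ρ : L → L := fun t => polar QL (h (t • f)) f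
  have hρ : ∀ w : L, w ≠ 0 → ∀ t, ρ (t * (w * w)⁻¹) = τ (w * w) * ρ t := by
    intro w hw t
    obtain ⟨d, hd, hdl, hda, hdf, hdu⟩ := hT.exists_torus hF hw
    obtain ⟨d', hd', hdl', hda', hdf', hdu'⟩ := hT.exists_torus hF ((map_ne_zero τ).2 hw)
    have hhu : h.symm u = u := by rw [LinearEquiv.symm_apply_eq, hfix u huB]
    have hdu1 : d'.symm u = u := by rw [LinearEquiv.symm_apply_eq, hdu']
    obtain ⟨e, he⟩ := hT.fix_line hNL hF (g := h * d * h⁻¹ * d'⁻¹)
      (mul_mem (mul_mem (mul_mem hh hd) (inv_mem hh)) (inv_mem hd')) fun s => by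
      show h (d (h.symm (d'.symm (s • a)))) = s • a
      obtain ⟨t, ht⟩ : ∃ t, τ t = s / (τ w * τ w) / μ :=
        Finite.injective_iff_surjective.1 τ.toRingHom.injective _
      have h1 : d'.symm (s • a) = (τ t * μ) • a := by
        rw [LinearEquiv.symm_apply_eq, hdl', hda', smul_smul, ht]
        congr 1
        have := (map_ne_zero τ).2 hw
        field_simp
      rw [h1, ← hτa, h.symm_apply_apply, hdl, hda, smul_smul, hτa, map_mul, map_mul, ht]
      congr 1
      have := (map_ne_zero τ).2 hw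
      field_simp
    have hu' := he u
    change h (d (h.symm (d'.symm u))) = _ at hu'
    rw [hdu1, hhu, hdu, hfix u huB, hF.ua, mul_zero, zero_smul, mul_zero, zero_smul, add_zero, sub_zero,
      eq_comm, sub_eq_self, polar_self', smul_eq_zero] at hu'
    obtain rfl : e = 0 := (mul_eq_zero.1 (hu'.resolve_right hF.ne0)).resolve_right (mul_ne_zero h2 hF.du)
    have h3 := hF.eq_one_of_isE he
    rw [mul_inv_eq_one, mul_inv_eq_iff_eq_mul] at h3
    have h4 := LinearEquiv.congr_fun h3 (t • f)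
    simp only [LinearEquiv.mul_apply, hdl, hdf, smul_smul] at h4
    show polar QL (h ((t * (w * w)⁻¹) • f)) f = _
    rw [h4, map_mul]
    have hfv := hT.lin_polar hd' hdl' (h (t • f)) ((τ w * τ w) • f)
    rw [hdl', hdf', smul_smul, mul_inv_cancel₀ (mul_ne_zero ((map_ne_zero τ).2 hw) ((map_ne_zero τ).2 hw)),
      one_smul, polar_smul_right'] at hfv
    exact hfv
  have hρadd : ∀ s t, ρ (s + t) = ρ s + ρ t := fun s t => by
    show polar QL (h ((s + t) • f)) f = _
    rw [add_smul, map_add, polar_add_left]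
  have hsq : ∀ w : L, w ≠ 0 → ρ (η * (w * w)) = ρ η / τ (w * w) := fun w hw => by
    have := hρ w⁻¹ (inv_ne_zero hw) η
    rw [← mul_inv, inv_inv, map_inv₀] at this
    rw [this, div_eq_inv_mul]
  -- the coefficient vanishes
  have hρη : ρ η = 0 := by
    obtain ⟨s, hs⟩ : ∃ s : L, s ∉ Set.range (algebraMap F L) := by
      by_contra hc'
      push Not at hc'
      exact hτid fun t => by
        obtain ⟨r, rfl⟩ := hc' t
        exact τ.commutes r
    have hs0 : s ≠ 0 := fun e => hs ⟨0, by rw [e, map_zero]⟩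
    have hs1 : s + 1 ≠ 0 := fun e => hs ⟨-1, by rw [map_neg, map_one]; exact (eq_neg_of_add_eq_zero_left e).symm⟩
    have hs2 : s - 1 ≠ 0 := fun e => hs ⟨1, by rw [map_one]; exact (sub_eq_zero.1 e).symm⟩
    have hτs : τ s ∉ Set.range (algebraMap F L) := fun ⟨r, hr⟩ => hs ⟨r, τ.toRingHom.injective (show τ (algebraMap F L r) = τ s by rw [AlgHom.commutes, hr])⟩
    have hquad : ∀ b c' : F, τ s * τ s + algebraMap F L b * τ s + algebraMap F L c' ≠ 0 := fun b c' e => by
      have hd : (minpoly F (τ s)).natDegree ≤ 2 := by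
        refine Polynomial.natDegree_le_of_degree_le ((minpoly.degree_le_of_ne_zero F (τ s)
          (p := Polynomial.X ^ 2 + Polynomial.C b * Polynomial.X + Polynomial.C c') ?_ ?_).trans ?_)
        · intro h0
          have := congrArg (fun q => Polynomial.coeff q 2) h0
          simp [Polynomial.coeff_C] at this
        · simpa [pow_two] using e
        · compute_degree!
      have hint : IsIntegral F (τ s) := IsIntegral.of_finite F _
      have hdvd := minpoly.degree_dvd hint
      rcases (Nat.dvd_prime hT.prime).1 hdvd with h1 | h1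
      · exact hτs (minpoly.mem_range_of_degree_eq_one _ _ (by
          rw [Polynomial.degree_eq_natDegree (minpoly.ne_zero hint), h1]; rfl))
      · have := hT.three_le
        omega
    have key : ρ (η * ((s + 1) * (s + 1))) + ρ (η * ((s - 1) * (s - 1))) =
        ρ (η * (s * s)) + ρ (η * (s * s)) + (ρ (η * (1 * 1)) + ρ (η * (1 * 1))) := by
      simp only [← hρadd]; congr 1; ring
    rw [hsq _ hs1, hsq _ hs2, hsq _ hs0, hsq 1 one_ne_zero] at key
    simp only [map_mul, map_add, map_sub, map_one, mul_one, div_one] at key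
    by_contra hρ0
    set v := τ s with hv
    have hv0 : v ≠ 0 := (map_ne_zero τ).2 hs0
    have hv1 : v + 1 ≠ 0 := by
      have := (map_ne_zero τ).2 hs1
      rwa [map_add, map_one] at this
    have hv2 : v - 1 ≠ 0 := by
      have := (map_ne_zero τ).2 hs2
      rwa [map_sub, map_one] at this
    field_simp at key
    have h3 : (v * v + algebraMap F L 0 * v + algebraMap F L 1) * ((v * v + algebraMap F L 1 * v + algebraMap F L (-1)) *
        (v * v + algebraMap F L (-1) * v + algebraMap F L (-1))) = 0 := by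
      rw [map_zero, map_one, map_neg, map_one]
      refine mul_left_cancel₀ h2 ?_
      linear_combination -key
    exact mul_ne_zero (hquad 0 1) (mul_ne_zero (hquad 1 (-1)) (hquad (-1) (-1))) h3
  have hx1 : τ x₁ * μ = x₁ := by
    have := congrArg (fun v => polar QL v f) (hfix _ hyB)
    simp only [map_add, hτa, polar_add_left, polar_smul_left', hF.af, mul_one, polar_self', hF.sf, mul_zero,
      add_zero] at this
    rwa [show polar QL (h (η • f)) f = 0 from hρη, add_zero] at this
  obtain ⟨k, hk⟩ := hF' (x₁ / σ) (by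
    rw [map_div₀]
    conv_rhs => rw [← hx1, ← hμσ]
    rw [mul_div_mul_right _ _ hμ])
  have hx₁ : x₁ • a = k • σ • a := by
    rw [← algebraMap_smul L k (σ • a), smul_smul, hk, div_mul_cancel₀ _ hσ0]
  have := (img L g a).sub_mem hyB ((img L g a).smul_mem k hσB)
  rwa [hx₁, add_sub_cancel_left] at this

/-- Without displacement elements the image has no orthogonal vector. -/
theorem no_hperp (hNL : NoLam QL M) {g : V ≃ₗ[F] V} {a y : V} (hp : Pair QL M g a) (hy : y ∈ img L g a)
    (hyA : y ∉ line F L a) (hya : polar QL y a = 0) : False := by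
  haveI : FiniteDimensional F V := Module.Finite.trans L V
  have hr := hT.three_le
  rcases hT.hperp_step3 hp hy hyA hya with ⟨-, hk⟩ | ⟨g', hp', hlt⟩ | ⟨-, hk1, hnp⟩
  · exact hT.no_big_pair hNL hp (by omega)
  · have h1 : 1 ≤ Module.finrank F (meet L g a) := Submodule.one_le_finrank_iff.2 hp.meets
    exact hT.no_big_pair hNL hp' (by omega)
  set B := img L g a with hBdef
  have h2 := hT.toOExt.two'
  have ha := hp.sing
  obtain ⟨y₁, hy₁, hη⟩ : ∃ z ∈ B, polar QL z a ≠ 0 := by
    by_contra hc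
    push Not at hc
    exact hnp hc
  obtain ⟨z, hz, hz0⟩ := Submodule.exists_mem_ne_zero_of_ne_bot hp.meets
  obtain ⟨σ, rfl⟩ := mem_line.1 hz.1
  have hσ0 : σ ≠ 0 := fun e => hz0 (by rw [e, zero_smul])
  have heq : F ∙ (σ • a) = meet L g a := Submodule.eq_of_le_of_finrank_le
    ((Submodule.span_singleton_le_iff_mem _ _).2 hz) (by rw [finrank_span_singleton hz0]; exact hk1)
  have hmeet : ∀ t : L, t • a ∈ B → ∃ k : F, t = algebraMap F L k * σ := fun t ht => by
    have ht' : t • a ∈ meet L g a := ⟨smul_mem_line a t, ht⟩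
    rw [← heq] at ht'
    obtain ⟨k, hk⟩ := Submodule.mem_span_singleton.1 ht' 
    rw [← algebraMap_smul L k (σ • a), smul_smul] at hk
    exact ⟨k, (smul_left_injective L hp.ne0 hk).symm⟩
  set e := QL y with he
  have he0 : e ≠ 0 := fun h => hyA (hT.mem_of_sing_perp hp.ne0 ha h hya)
  -- the frame with the given vector
  obtain ⟨f₀, hf₀, haf₀⟩ := exists_pair hT.nd hp.ne0 ha
  set π := polar QL f₀ y with hπ
  set f := f₀ + (-π / (2 * e)) • y + (π * π / (4 * e)) • a with hfdef
  have hay : polar QL a y = 0 := by rw [polar_comm]; exact hya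
  have h4 : (4 : L) ≠ 0 := by rw [show (4 : L) = 2 * 2 by norm_num]; exact mul_ne_zero h2 h2
  have hF : Frame QL a f y := by
    refine ⟨ha, ?_, ?_, hay, ?_, he0⟩
    · simp only [hfdef, map_add', map_smul', polar_add_left, polar_smul_left', polar_smul_right', hf₀, ha, ← he,
        ← hπ, polar_comm QL f₀ a, haf₀, hya]
      field_simp; ring
    · simp [hfdef, polar_add_right, polar_smul_right', haf₀, hay, polar_self', ha]
    · simp only [hfdef, polar_add_left, polar_smul_left', ← hπ, polar_self', ← he, hay]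
      field_simp; ring
  set η := polar QL y₁ a with hηdef
  set z₁ := polar QL y₁ y / (2 * e) with hz₁
  set x₁ := polar QL y₁ f with hx₁
  have hy₁v : y₁ = x₁ • a + η • f + z₁ • y := hF.decomp hT.three h2 y₁
  set c := σ / (2 * e) with hc
  have hc0 : c ≠ 0 := div_ne_zero hσ0 (mul_ne_zero h2 he0)
  obtain ⟨x, hx, hxE⟩ := hT.exists_isE hF c
  have hxσ : x (σ • a) = σ • a := hF.isE_fix hxE σ
  have hxy : x y = y - σ • a := by
    rw [hxE, hya, polar_self', ← he]
    simp only [mul_zero, zero_smul, add_zero, sub_zero, hc, div_mul_cancel₀ _ (mul_ne_zero h2 he0)]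
  have hyσ : y ∉ F ∙ (σ • a) := fun h => by
    obtain ⟨k, hk⟩ := Submodule.mem_span_singleton.1 h
    exact hyA (hk ▸ Submodule.smul_mem _ k (smul_mem_line a σ))
  have hxB : ∀ v ∈ B, x v ∈ B := fun v hv => hT.keep hNL hp hx hz.2 hy (by rw [hxσ]; exact hz.2)
    (by rw [hxy]; exact B.sub_mem hy hz.2) hz0 hyσ hv
  -- the coefficients are rational
  have hd : x y₁ - y₁ = (c * η) • y - (c * (z₁ * (2 * e)) + c * c * e * η) • a := by
    have hz' : polar QL y₁ y = z₁ * (2 * e) := by rw [hz₁, div_mul_cancel₀ _ (mul_ne_zero h2 he0)]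
    rw [hxE, ← hηdef, hz', ← he]; module
  have hdB : x y₁ - y₁ ∈ B := B.sub_mem (hxB _ hy₁) hy₁
  obtain ⟨γ, hγ⟩ : ∃ γ : F, c * η = algebraMap F L γ := by
    have h1 := B.sub_mem hdB (hxB _ hdB)
    have e1 : x y₁ - y₁ - x (x y₁ - y₁) = (c * η * σ) • a := by
      rw [hd, hxE]
      simp only [polar_sub_left, polar_smul_left', hya, hay, polar_self', ha, ← he, mul_zero, sub_zero, zero_smul,
        add_zero, hc]
      match_scalars <;> field_simp <;> ring
    rw [e1] at h1
    obtain ⟨k, hk⟩ := hmeet _ h1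
    exact ⟨k, mul_right_cancel₀ hσ0 hk⟩
  have hγ0 : algebraMap F L γ ≠ 0 := hγ ▸ mul_ne_zero hc0 hη
  obtain ⟨k, hk⟩ : ∃ k : F, z₁ = algebraMap F L k := by
    have h1 := B.sub_mem (B.smul_mem γ hy) hdB
    rw [hd, ← algebraMap_smul L γ y, ← hγ, sub_sub_cancel] at h1
    obtain ⟨k, hk⟩ := hmeet _ h1
    refine ⟨k - γ / 2, ?_⟩
    rw [map_sub, map_div₀, map_ofNat, ← hγ]
    refine mul_left_cancel₀ hσ0 ?_
    rw [show c * (z₁ * (2 * e)) = σ * z₁ by rw [hc]; field_simp] at hk
    rw [show c * c * e * η = σ * (c * η / 2) by rw [hc]; field_simp] at hk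
    linear_combination hk
  have hy' : x₁ • a + η • f ∈ B := by
    have := B.sub_mem hy₁ (B.smul_mem k hy)
    rwa [← algebraMap_smul L k y, ← hk, hy₁v, add_sub_cancel_right] at this
  have hfB := hT.opposite_mem hNL hp hF hσ0 hz.2 hy hy' hη hx hxE hc0 hxB
  -- the opposite element
  set c' := η / (2 * e) with hc'
  obtain ⟨x', hx', hxE'⟩ := hT.exists_isE hF.swap c'
  have hyf : polar QL y f = 0 := hF.uf
  have hxy' : x' y = y - η • f := by
    rw [hxE', hyf, polar_self', ← he]
    simp only [mul_zero, zero_smul, add_zero, sub_zero, hc', div_mul_cancel₀ _ (mul_ne_zero h2 he0)]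
  have hyη : y ∉ F ∙ (η • f) := fun h => by
    obtain ⟨k, hk⟩ := Submodule.mem_span_singleton.1 h
    have := congrArg (fun v => polar QL v a) hk
    simp [lpolar_smul_left, polar_smul_left', hF.fa, hya] at this
    rcases this with h0 | h0
    · rw [← hk, h0, zero_smul] at hyA; exact hyA (Submodule.zero_mem _)
    · exact hη h0
  have hf0 : η • f ≠ 0 := smul_ne_zero hη hF.swap.ne0
  have hxB' : ∀ v ∈ B, x' v ∈ B := fun v hv => hT.keep hNL hp hx' hfB hy
    (by rw [hF.swap.isE_fix hxE']; exact hfB) (by rw [hxy']; exact B.sub_mem hy hfB) hf0 hyη hv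
  obtain ⟨τ, μ, -, hτ⟩ := hT.on_img hNL hp hx hxB
  obtain ⟨τ', μ', -, hτ'⟩ := hT.on_img hNL hp hx' hxB'
  -- a common fixed vector of the two products
  set γ' := algebraMap F L γ with hγ'
  have exA : ∀ l : L, x (l • a) = l • a := fun l => hF.isE_fix hxE l
  have exF : ∀ l : L, x' (l • f) = l • f := fun l => hF.swap.isE_fix hxE' l
  have exY : ∀ l : L, x (l • y) = l • y - (l * σ) • a := fun l => by
    rw [hxE.lin, hxy, smul_sub, smul_smul]
  have exY' : ∀ l : L, x' (l • y) = l • y - (l * η) • f := fun l => by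
    rw [hxE'.lin, hxy', smul_sub, smul_smul]
  have exG : ∀ l : L, x (l • f) = l • f + (l * (σ / (2 * e))) • y - (l * (σ * σ / (4 * e))) • a := fun l => by
    rw [hxE.lin, hxE, hF.fa, hF.fu, hc, ← he]
    match_scalars <;> field_simp <;> ring
  have exA' : ∀ l : L, x' (l • a) = l • a + (l * (η / (2 * e))) • y - (l * (η * η / (4 * e))) • f := fun l => by
    rw [hxE'.lin, hxE', hF.af, hF.au, hc', ← he]
    match_scalars <;> field_simp <;> ring
  have hγe : σ * η = γ' * (2 * e) := by
    rw [← hγ, hc]; field_simp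
  let w := σ • a + (2 - γ / 2) • y + η • f
  have hwB : w ∈ B := B.add_mem (B.add_mem hz.2 (B.smul_mem _ hy)) hfB
  have hw : x (x' w) = x' (x w) := by
    simp only [w, ← algebraMap_smul L (2 - γ / 2) y, map_sub, map_ofNat, map_div₀, ← hγ', map_add, exA, exF, exY, exY',
      exA', exG, smul_smul]
    have hη' : η = γ' * (2 * e) / σ := by rw [← hγe]; field_simp
    rw [hη']
    match_scalars <;> field_simp <;> ring
  have hw0 : w ≠ 0 := fun h => by
    have := congrArg (fun v => polar QL v a) h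
    simp [w, lpolar_smul_left, polar_add_left, polar_smul_left', polar_self', ha, hya, hF.fa, hη] at this
  obtain ⟨tw, htw⟩ := mem_img.1 hwB
  have htw0 : tw ≠ 0 := fun h => hw0 (by rw [← htw, h, zero_smul, map_zero])
  have hcomm := algHom_comm hT.prime τ τ'
  have hμ : τ μ' * μ = τ' μ * μ' := by
    rw [← htw, hτ', hτ, hτ, hτ', EmbeddingLike.apply_eq_iff_eq] at hw
    have h := smul_left_injective L hp.ne0 hw
    rw [map_mul, map_mul, hcomm, mul_assoc, mul_assoc] at h
    exact mul_left_cancel₀ ((map_ne_zero τ').2 ((map_ne_zero τ).2 htw0)) h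
  have hall : ∀ v ∈ B, x (x' v) = x' (x v) := fun v hv => by
    obtain ⟨t, rfl⟩ := mem_img.1 hv
    rw [hτ', hτ, hτ, hτ', map_mul, map_mul, hcomm, mul_assoc, mul_assoc, hμ]
  have h := congrArg (fun v => polar QL v y) (hall _ hz.2)
  simp only [exA, exA', map_add, map_sub, exY, exG, polar_add_left, polar_sub_left, polar_smul_left', hya, hay,
    hF.fu, polar_self', ← he, mul_zero, sub_zero, zero_add, add_zero] at h
  field_simp at h
  exact mul_ne_zero hσ0 hη (by linear_combination -h)

end OExt3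

end CfsgLib.OrthField
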