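import Cfsg.Agent.Lib.OrthField.ThreeCase
import Cfsg.Agent.Lib.Geometry.AltInvolutions
import Mathlib.FieldTheory.ChevalleyWarning

/-!
Some element displaces along a singular line.
-/

set_option autoImplicit false
set_option linter.unusedSectionVars false
set_option linter.style.haveILetI false

namespace CfsgLib.OrthField

open QuadraticMap CfsgLib.Geometry CfsgLib.OrthMax CfsgLib.FieldMax

section Generic

variable {K W : Type*} [Field K] [AddCommGroup W] [Module K W] [FiniteDimensional K W]

/-- The radical of an alternating form on an odd-dimensional space is odd-dimensional. -/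
theorem odd_finrank_ker {B : LinearMap.BilinForm K W} (hA : B.IsAlt) (ho : Odd (Module.finrank K W)) :
    Odd (Module.finrank K (LinearMap.ker B)) := by
  obtain ⟨C, hC⟩ := Submodule.exists_isCompl (LinearMap.ker B)
  obtain ⟨m, b, -⟩ := exists_sympBasis_of_nondeg hA C fun x hx h => by
    have hk : x ∈ LinearMap.ker B := by
      refine LinearMap.mem_ker.2 (LinearMap.ext fun y => ?_)
      obtain ⟨r, hr, c, hc, rfl⟩ := Submodule.mem_sup.1
        (hC.sup_eq_top ▸ Submodule.mem_top : y ∈ LinearMap.ker B ⊔ C)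
      rw [map_add, h c hc, add_zero, LinearMap.zero_apply, ← LinearMap.IsAlt.neg hA r x, LinearMap.mem_ker.1 hr, LinearMap.zero_apply,
        neg_zero]
    exact (Submodule.mem_bot K).1 (hC.inf_eq_bot ▸ ⟨hk, hx⟩)
  have h1 := Submodule.finrank_sup_add_finrank_inf_eq (LinearMap.ker B) C
  rw [hC.sup_eq_top, hC.inf_eq_bot, finrank_top, finrank_bot, add_zero, Module.finrank_eq_card_basis b,
    Fintype.card_sum, Fintype.card_fin] at h1
  obtain ⟨k, hk⟩ := ho
  exact ⟨k - m, by omega⟩

/-- Few quadrics in many variables have a number of common zeros divisible by the characteristic. -/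
theorem chevalley_quadratic [Finite K] (p : ℕ) [CharP K p] {ι : Type*} [Fintype ι] (Φ : ι → QuadraticForm K W)
    (h : 2 * Fintype.card ι < Module.finrank K W) : p ∣ Nat.card {x : W // ∀ i, Φ i x = 0} := by
  classical
  haveI := Fintype.ofFinite K
  let b := Module.finBasis K W
  let B := fun i => (Φ i).toBilin b
  let P : ι → MvPolynomial (Fin (Module.finrank K W)) K := fun k =>
    ∑ i, ∑ j, MvPolynomial.C (B k (b i) (b j)) * MvPolynomial.X i * MvPolynomial.X j
  have hP : ∀ k x, MvPolynomial.eval x (P k) = Φ k (b.equivFun.symm x) := by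
    intro k x
    have hB : ∀ v, B k v v = Φ k v := fun v => by
      conv_rhs => rw [← QuadraticMap.toQuadraticMap_toBilin (Φ k) b]
      rfl
    rw [← hB, Module.Basis.equivFun_symm_apply]
    simp only [P, map_sum, map_mul, MvPolynomial.eval_C, MvPolynomial.eval_X, LinearMap.sum_apply, map_smul,
      LinearMap.smul_apply, smul_eq_mul, Finset.mul_sum]
    rw [Finset.sum_comm]
    exact Finset.sum_congr rfl fun i _ => Finset.sum_congr rfl fun j _ => by ring
  have hdeg : ∀ k, (P k).totalDegree ≤ 2 := fun k => by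
    refine (MvPolynomial.totalDegree_finset_sum _ _).trans (Finset.sup_le fun i _ => ?_)
    refine (MvPolynomial.totalDegree_finset_sum _ _).trans (Finset.sup_le fun j _ => ?_)
    refine (MvPolynomial.totalDegree_mul _ _).trans ?_
    refine (Nat.add_le_add_right (MvPolynomial.totalDegree_mul _ _) _).trans ?_
    rw [MvPolynomial.totalDegree_C, MvPolynomial.totalDegree_X, MvPolynomial.totalDegree_X]
  have hsum : ∑ k, (P k).totalDegree ≤ 2 * Fintype.card ι := by
    refine (Finset.sum_le_sum fun k _ => hdeg k).trans ?_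
    rw [Finset.sum_const, Finset.card_univ, smul_eq_mul, mul_comm]
  have h1 := char_dvd_card_solutions_of_fintype_sum_lt p (f := P) (by rw [Fintype.card_fin]; omega)
  rw [← Nat.card_eq_fintype_card] at h1
  rwa [Nat.card_congr (b.equivFun.toEquiv.subtypeEquiv (p := fun v => ∀ i, Φ i v = 0)
    (q := fun x => ∀ i, MvPolynomial.eval x (P i) = 0)
    (fun v => by simp [hP]))]

end Generic

variable {F L V : Type*} [Field F] [Field L] [Algebra F L] [AddCommGroup V] [Module F V] [Module L V]
  [IsScalarTower F L V]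

theorem refl2_invol {QL : QuadraticForm L V} {d n : V} (hd : QL d ≠ 0) (hn : QL n ≠ 0) (hdn : polar QL d n = 0)
    (v : V) : refl QL d hd (refl QL n hn (refl QL d hd (refl QL n hn v))) = v := by
  have hnd : polar QL n d = 0 := by rw [polar_comm]; exact hdn
  simp only [refl_apply, polar_sub_left, polar_smul_left', polar_self', hdn, hnd, mul_zero, sub_zero]
  match_scalars <;> field_simp <;> ring

/-- An image of a singular line which is not a line. -/
structure Img (QL : QuadraticForm L V) (M : Subgroup (V ≃ₗ[F] V)) (g : V ≃ₗ[F] V) (a : V) : Prop where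
  mem : g ∈ M
  ne0 : a ≠ 0
  sing : QL a = 0
  noline : ∀ z, z ≠ 0 → img L g a ≠ line F L z

namespace OExt3

variable {QL : QuadraticForm L V} {ε : Module.Dual F L} {Q : QuadraticForm F V} {M : Subgroup (V ≃ₗ[F] V)}
variable (hT : OExt3 QL ε Q M) [Finite F] [FiniteDimensional F L] [FiniteDimensional L V]

include hT

theorem img_iso {g : V ≃ₗ[F] V} {a : V} (hI : Img QL M g a) {y y' : V} (hy : y ∈ img L g a) (hy' : y' ∈ img L g a) :
    polar Q y y' = 0 := by
  obtain ⟨t, rfl⟩ := mem_img.1 hy
  obtain ⟨t', rfl⟩ := mem_img.1 hy'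
  rw [orth_polar (hT.toOExt.mem_orthQ hI.mem), hT.toOExt.perpQ]
  rw [polar_smul_left', polar_smul_right', polar_self', hI.sing, mul_zero, mul_zero, mul_zero]

theorem pair_of_sing {g : V ≃ₗ[F] V} {a z : V} (hI : Img QL M g a) (hz : z ∈ img L g a) (hz0 : z ≠ 0)
    (hQz : QL z = 0) : ∃ g', Pair QL M g' z ∧ img L g' z = img L g a := by
  obtain ⟨t₀, ht₀⟩ := mem_img.1 hz
  have ht₀0 : t₀ ≠ 0 := fun e => hz0 (by rw [← ht₀, e, zero_smul, map_zero])
  obtain ⟨x, hx, c, hc, hxz, hxl⟩ := hT.toOExt.exists_move' (Or.inr hT.odd) hz0 (smul_ne_zero ht₀0 hI.ne0) hQz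
    (by rw [map_smul', hI.sing, mul_zero])
  rw [← smul_assoc] at hxz
  have hct : c • t₀ ≠ 0 := smul_ne_zero hc ht₀0
  have himg : img L (g * x) z = img L g a := by
    ext v
    rw [mem_img, mem_img]
    constructor
    · rintro ⟨t, rfl⟩
      refine ⟨t * c • t₀, ?_⟩
      show g _ = g (x (t • z))
      rw [hxl, hxz, smul_smul]
    · rintro ⟨t, rfl⟩
      refine ⟨t / (c • t₀), ?_⟩
      show g (x ((t / (c • t₀)) • z)) = g (t • a)
      rw [hxl, hxz, smul_smul, div_mul_cancel₀ _ hct]
  refine ⟨g * x, ⟨mul_mem hI.mem hx, hz0, hQz, by rw [himg]; exact hI.noline z hz0, fun e => hz0 ?_⟩, himg⟩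
  have : z ∈ meet L (g * x) z := ⟨self_mem_line z, by rw [himg]; exact hz⟩
  rwa [e, Submodule.mem_bot] at this

/-- An involution stabilising two points of the image is a sign on it. -/
theorem scalar_of_two (hNL : NoLam QL M) {g : V ≃ₗ[F] V} {a : V} (hI : Img QL M g a) {x : V ≃ₗ[F] V} (hx : x ∈ M)
    (hx2 : ∀ y ∈ img L g a, x (x y) = y) {y₁ y₂ : V} (h₁ : y₁ ∈ img L g a) (h₂ : y₂ ∈ img L g a) (h₁0 : y₁ ≠ 0)
    (hind : y₂ ∉ F ∙ y₁) (k₁ : x y₁ ∈ img L g a) (k₂ : x y₂ ∈ img L g a) :
    (∀ y ∈ img L g a, x y = y) ∨ ∀ y ∈ img L g a, x y = -y := by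
  haveI : FiniteDimensional F V := Module.Finite.trans L V
  haveI : Finite L := Module.finite_of_finite F
  set x' := g⁻¹ * x * g with hx'
  have hx'M : x' ∈ M := mul_mem (mul_mem (inv_mem hI.mem) hx) hI.mem
  have hm : ∀ y ∈ img L g a, x y ∈ img L g a → g.symm (x y) ∈ meet L x' a := fun y hy hxy => by
    obtain ⟨t, rfl⟩ := mem_img.1 hy
    obtain ⟨s, hs⟩ := mem_img.1 hxy
    refine ⟨?_, mem_img.2 ⟨t, rfl⟩⟩
    rw [← hs, g.symm_apply_apply]; exact smul_mem_line a s
  have hline : img L x' a = line F L a := by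
    by_contra hne
    set w₁ := g.symm (x y₁) with hw₁
    set w₂ := g.symm (x y₂) with hw₂
    have hw₁0 : w₁ ≠ 0 := by
      rw [hw₁, Ne, LinearEquiv.map_eq_zero_iff, LinearEquiv.map_eq_zero_iff]; exact h₁0
    have hlt : F ∙ w₁ < meet L x' a := by
      refine lt_of_le_of_ne ((Submodule.span_singleton_le_iff_mem _ _).2 (hm y₁ h₁ k₁)) fun e => hind ?_
      obtain ⟨c, hc⟩ := Submodule.mem_span_singleton.1 (e.symm ▸ hm y₂ h₂ k₂ : w₂ ∈ F ∙ w₁)
      refine Submodule.mem_span_singleton.2 ⟨c, x.injective (g.symm.injective ?_)⟩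
      rw [map_smul x, map_smul g.symm]
      exact hc
    have h1 := Submodule.finrank_lt_finrank_of_lt hlt
    rw [finrank_span_singleton hw₁0] at h1
    refine hT.no_big_pair hNL (g := x') (a := a) ⟨hx'M, hI.ne0, hI.sing, hne, fun e => hw₁0 ?_⟩ (by omega)
    exact (Submodule.mem_bot F).1 (e ▸ hm y₁ h₁ k₁)
  obtain ⟨f, u, hF⟩ := hT.exists_frame hI.ne0 hI.sing
  obtain ⟨σ, μ, κ, hμ, hσa, -⟩ := hT.on_line hNL hF hx'M fun t => hline ▸ apply_mem_img x' a t
  have hsq : ∀ t, σ (σ t * μ) * μ = t := fun t => smul_left_injective L hI.ne0 (by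
    show (σ (σ t * μ) * μ) • a = t • a
    rw [← hσa, ← hσa]
    show g.symm (x (g (g.symm (x (g (t • a)))))) = _
    rw [g.apply_symm_apply, hx2 _ (apply_mem_img g a t), g.symm_apply_apply])
  have h1 : σ μ * μ = 1 := by simpa using hsq 1
  have hinv : ∀ t, σ (σ t) = t := fun t => by
    have h := hsq t
    rw [map_mul, mul_assoc, h1, mul_one] at h
    exact h
  have hid : ∀ t, σ t = t := by
    let e : L ≃ₐ[F] L := AlgEquiv.ofBijective σ (Function.Involutive.bijective hinv)
    have he2 : e ^ 2 = 1 := AlgEquiv.ext fun t => by rw [pow_two]; exact hinv t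
    have h3 : orderOf e ∣ Module.finrank F L := by
      rw [← IsGalois.card_aut_eq_finrank F L]; exact orderOf_dvd_natCard e
    have h4 : orderOf e = 1 := by
      rcases (Nat.dvd_prime Nat.prime_two).1 (orderOf_dvd_of_pow_eq_one he2) with h | h
      · exact h
      · obtain ⟨k, hk⟩ := hT.odd
        rw [h, hk] at h3
        omega
    exact fun t => AlgEquiv.congr_fun (orderOf_eq_one_iff.1 h4) t
  rw [hid] at h1
  have hxg : ∀ t, x (g (t • a)) = g ((t * μ) • a) := fun t => by
    have h := hσa t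
    rw [hid] at h
    change g.symm (x (g (t • a))) = _ at h
    rw [← h, g.apply_symm_apply]
  rcases mul_self_eq_one_iff.1 h1 with rfl | rfl
  · refine Or.inl fun y hy => ?_
    obtain ⟨t, rfl⟩ := mem_img.1 hy
    rw [hxg, mul_one]
  · refine Or.inr fun y hy => ?_
    obtain ⟨t, rfl⟩ := mem_img.1 hy
    rw [hxg, mul_neg_one, neg_smul, map_neg]

/-- Two singular vectors of the image are proportional over the small field. -/
theorem sing_unique (hNL : NoLam QL M) {g : V ≃ₗ[F] V} {a z₁ z₂ : V} (hI : Img QL M g a) (h₁ : z₁ ∈ img L g a)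
    (h₁0 : z₁ ≠ 0) (hQ₁ : QL z₁ = 0) (h₂ : z₂ ∈ img L g a) (hQ₂ : QL z₂ = 0) : z₂ ∈ F ∙ z₁ := by
  haveI : FiniteDimensional F V := Module.Finite.trans L V
  haveI : Finite L := Module.finite_of_finite F
  by_contra hind
  have h₂0 : z₂ ≠ 0 := fun e => hind (e ▸ Submodule.zero_mem _)
  by_cases h12 : polar QL z₁ z₂ = 0
  · obtain ⟨g', hp, himg⟩ := hT.pair_of_sing hI h₁ h₁0 hQ₁
    have hm : ∀ v ∈ img L g a, QL v = 0 → polar QL v z₁ = 0 → v ∈ meet L g' z₁ := fun v hv hQv hvz =>
      ⟨hT.mem_of_sing_perp h₁0 hQ₁ hQv hvz, himg.symm ▸ hv⟩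
    have hlt : F ∙ z₁ < meet L g' z₁ :=
      lt_of_le_of_ne ((Submodule.span_singleton_le_iff_mem _ _).2 (hm _ h₁ hQ₁ (by rw [polar_self', hQ₁, mul_zero])))
        fun e => hind (e.symm ▸ hm _ h₂ hQ₂ (by rw [polar_comm]; exact h12))
    have h := Submodule.finrank_lt_finrank_of_lt hlt
    rw [finrank_span_singleton h₁0] at h
    exact hT.no_big_pair hNL hp (by omega)
  obtain ⟨n, hn, hQn⟩ := exists_aniso_perp hT.nd (ndOn_pair hQ₁ h12)
    (lt_of_le_of_lt (finrank_pair_le (F := L) z₁ z₂) hT.dim)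
  have hn1 := hn z₁ (Submodule.subset_span (by simp))
  have hn2 := hn z₂ (Submodule.subset_span (by simp))
  obtain ⟨c, hc, hsq⟩ := hT.toOExt.exists_class hT.odd (x := -(polar QL z₁ z₂ * QL n))
  set d := algebraMap F L c with hd
  have hd0 : d ≠ 0 := fun e => hc ((algebraMap F L).injective (by rw [← hd, e, map_zero]))
  have hQ : QL (z₁ - d • z₂) = -(d * polar QL z₁ z₂) := by
    rw [CfsgLib.Geometry.map_sub', map_smul', polar_smul_right', hQ₁, hQ₂]; ring
  have hQ0 : QL (z₁ - d • z₂) ≠ 0 := by rw [hQ]; exact neg_ne_zero.2 (mul_ne_zero hd0 h12)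
  have hdn : polar QL (z₁ - d • z₂) n = 0 := by
    rw [polar_sub_left, polar_smul_left', polar_comm QL z₁ n, polar_comm QL z₂ n, hn1, hn2, mul_zero, sub_zero]
  set x := res (F := F) (refl QL (z₁ - d • z₂) hQ0 * refl QL n hQn) with hx
  have hxM : x ∈ M := hT.toOExt.refl2_mem hQ0 hQn (by rw [hQ]; convert hsq using 1; ring)
  have hx1 : x z₁ = c • z₂ := by
    show refl QL _ hQ0 (refl QL n hQn z₁) = _
    rw [refl_eq_self QL n hQn (by rw [polar_comm]; exact hn1), refl_apply,
      polar_sub_right, polar_smul_right', polar_self', hQ₁, mul_zero, zero_sub, ← hQ, inv_mul_cancel₀ hQ0, one_smul,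
      sub_sub_cancel, hd, algebraMap_smul]
  have hx2 : ∀ y, x (x y) = y := fun y => refl2_invol hQ0 hQn hdn y
  have hxz₂ : x z₂ = c⁻¹ • z₁ := by
    have h := hx2 z₁
    rw [hx1, map_smul x] at h
    rw [← h, inv_smul_smul₀ hc]
  rcases hT.scalar_of_two hNL hI hxM (fun y _ => hx2 y) h₁ h₂ h₁0 hind
    (by rw [hx1]; exact Submodule.smul_mem _ _ h₂) (by rw [hxz₂]; exact Submodule.smul_mem _ _ h₁) with h | h
  · exact hind (Submodule.mem_span_singleton.2 ⟨c⁻¹, by rw [← h z₁ h₁, hx1, inv_smul_smul₀ hc]⟩)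
  · exact hind (Submodule.mem_span_singleton.2 ⟨-c⁻¹, by
      rw [neg_smul, ← smul_neg, ← h z₁ h₁, hx1, inv_smul_smul₀ hc]⟩)

theorem no_sing_perp (hNL : NoLam QL M) {g : V ≃ₗ[F] V} {a z y : V} (hI : Img QL M g a) (hz : z ∈ img L g a)
    (hz0 : z ≠ 0) (hQz : QL z = 0) (hy : y ∈ img L g a) (hQy : QL y ≠ 0) (hp : polar QL y z = 0) : False := by
  obtain ⟨g', hp', himg⟩ := hT.pair_of_sing hI hz hz0 hQz
  refine hT.no_hperp hNL hp' (himg.symm ▸ hy) (fun h => ?_) hp
  obtain ⟨t, rfl⟩ := mem_line.1 h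
  exact hQy (by rw [map_smul', hQz, mul_zero])

/-- A conjugate giving an orthogonal vector. -/
theorem perp_false (hNL : NoLam QL M) {g : V ≃ₗ[F] V} {a : V} (hg : g ∈ M) (ha0 : a ≠ 0) (ha : QL a = 0)
    {x : V ≃ₗ[F] V} (hx : x ∈ M) {z y : V} (hz : z ∈ img L g a) (hz0 : z ≠ 0) (hxz : x z ∈ img L g a)
    (hy : y ∈ img L g a) (hxy : x y ∉ img L g a) (hperp : ∀ b ∈ img L g a, polar Q (x y) b = 0) : False := by
  obtain ⟨tz, rfl⟩ := mem_img.1 hz
  obtain ⟨sz, hsz⟩ := mem_img.1 hxz
  obtain ⟨ty, rfl⟩ := mem_img.1 hy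
  set g' := g⁻¹ * x * g with hg'
  have hne : ∀ t : L, g' (t • a) ∈ line F L a → x (g (t • a)) ∈ img L g a := fun t h => by
    obtain ⟨s, hs⟩ := mem_line.1 h
    exact mem_img.2 ⟨s, by rw [hs]; exact g.apply_symm_apply _⟩
  have hp : Pair QL M g' a := ⟨mul_mem (mul_mem (inv_mem hg) hx) hg, ha0, ha,
    fun e => hxy (hne ty (e ▸ apply_mem_img g' a ty)), fun e => hz0 (by
      have : g' (tz • a) ∈ meet L g' a := ⟨by
        show g.symm (x (g (tz • a))) ∈ _
        rw [← hsz, g.symm_apply_apply]; exact smul_mem_line a sz, apply_mem_img g' a tz⟩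
      rw [e, Submodule.mem_bot, LinearEquiv.map_eq_zero_iff] at this
      rw [this, map_zero])⟩
  refine hT.no_hperp hNL hp (apply_mem_img g' a ty) (fun h => hxy (hne ty h)) (hT.toOExt.eps_ext fun t => ?_)
  rw [← polar_smul_right', ← hT.toOExt.polarQ, mul_zero, map_zero, ← orth_polar (hT.toOExt.mem_orthQ hg)]
  show polar Q (g (g.symm (x (g (ty • a))))) (g (t • a)) = 0
  rw [g.apply_symm_apply]
  exact hperp _ (apply_mem_img g a t)

/-- In the image, the coefficients along a singular vector fill the kernel of the trace functional. -/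
theorem perp_image (hNL : NoLam QL M) {g : V ≃ₗ[F] V} {a z : V} (hI : Img QL M g a) (hz : z ∈ img L g a)
    (hz0 : z ≠ 0) (hQz : QL z = 0) {x : L} (hx : ε x = 0) : ∃ y ∈ img L g a, polar QL y z = x := by
  haveI : FiniteDimensional F V := Module.Finite.trans L V
  set B := img L g a with hB
  let η : B →ₗ[F] L :=
    { toFun := fun y => polar QL (y : V) z
      map_add' := fun y y' => by rw [Submodule.coe_add, polar_add_left]
      map_smul' := fun c y => by rw [Submodule.coe_smul, lpolar_smul_left, RingHom.id_apply] }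
  have hle : LinearMap.range η ≤ LinearMap.ker ε := by
    rintro _ ⟨y, rfl⟩
    show ε (polar QL (y : V) z) = 0
    rw [← hT.toOExt.polarQ]
    exact hT.img_iso hI y.2 hz
  have hker : (LinearMap.ker η).map B.subtype ≤ F ∙ z := by
    rintro _ ⟨y, hy, rfl⟩
    refine hT.sing_unique hNL hI hz hz0 hQz y.2 ?_
    by_contra hQy
    exact hT.no_sing_perp hNL hI hz hz0 hQz y.2 hQy hy
  have h1 := Submodule.finrank_mono hker
  rw [Submodule.finrank_map_subtype_eq, finrank_span_singleton hz0] at h1
  have h2 := LinearMap.finrank_range_add_finrank_ker η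
  rw [show Module.finrank F B = Module.finrank F L from finrank_img g hI.ne0] at h2
  have h3 := LinearMap.finrank_range_add_finrank_ker ε
  have h4 : LinearMap.range ε = ⊤ := Module.Dual.range_eq_top_of_ne_zero hT.eps
  rw [h4, finrank_top, Module.finrank_self] at h3
  have he := Submodule.eq_of_le_of_finrank_le hle (by omega)
  obtain ⟨y, hy⟩ : x ∈ LinearMap.range η := he.symm ▸ hx
  exact ⟨y, y.2, hy⟩

theorem decomp3 {e₁ e₂ e₃ : V} (h₁ : QL e₁ ≠ 0) (h₂ : QL e₂ ≠ 0) (h₃ : QL e₃ ≠ 0) (h₁₂ : polar QL e₁ e₂ = 0)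
    (h₁₃ : polar QL e₁ e₃ = 0) (h₂₃ : polar QL e₂ e₃ = 0) (v : V) :
    v = (polar QL v e₁ / (2 * QL e₁)) • e₁ + (polar QL v e₂ / (2 * QL e₂)) • e₂ +
      (polar QL v e₃ / (2 * QL e₃)) • e₃ := by
  have h2 := hT.toOExt.two'
  let φ : L × L × L →ₗ[L] V := (LinearMap.toSpanSingleton L V e₁).coprod
    ((LinearMap.toSpanSingleton L V e₂).coprod (LinearMap.toSpanSingleton L V e₃))
  have hφ : ∀ p : L × L × L, φ p = p.1 • e₁ + p.2.1 • e₂ + p.2.2 • e₃ := fun p => by simp [φ, add_assoc]
  have hc : ∀ p : L × L × L, polar QL (φ p) e₁ = p.1 * (2 * QL e₁) ∧ polar QL (φ p) e₂ = p.2.1 * (2 * QL e₂) ∧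
      polar QL (φ p) e₃ = p.2.2 * (2 * QL e₃) := fun p => by
    simp [hφ, polar_add_left, polar_smul_left', polar_self', h₁₂, h₁₃, h₂₃, polar_comm QL e₂ e₁,
      polar_comm QL e₃ e₁, polar_comm QL e₃ e₂]
  have hinj : Function.Injective φ := (injective_iff_map_eq_zero φ).2 fun p hp => by
    obtain ⟨a1, a2, a3⟩ := hc p
    rw [hp, polar_zero_left] at a1 a2 a3
    exact Prod.ext ((mul_eq_zero.1 a1.symm).resolve_right (mul_ne_zero h2 h₁))
      (Prod.ext ((mul_eq_zero.1 a2.symm).resolve_right (mul_ne_zero h2 h₂))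
        ((mul_eq_zero.1 a3.symm).resolve_right (mul_ne_zero h2 h₃)))
  obtain ⟨p, rfl⟩ := (LinearMap.injective_iff_surjective_of_finrank_eq_finrank (f := φ) (by simp [hT.three])).1 hinj v
  obtain ⟨a1, a2, a3⟩ := hc p
  rw [a1, a2, a3, mul_div_cancel_right₀ _ (mul_ne_zero h2 h₁), mul_div_cancel_right₀ _ (mul_ne_zero h2 h₂),
    mul_div_cancel_right₀ _ (mul_ne_zero h2 h₃), ← hφ]

/-- A third orthogonal vector. -/
theorem exists_third {y q : V} (hy : QL y ≠ 0) (hq : QL q ≠ 0) (hyq : polar QL y q = 0) :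
    ∃ n, QL n ≠ 0 ∧ polar QL n y = 0 ∧ polar QL n q = 0 := by
  have hU : NdOn QL (Submodule.span L (insert y ({q} : Set V))) :=
    ndOn_insert hT.toOExt.two' (ndOn_single hT.toOExt.two' hq) hy fun v hv => by
      obtain ⟨r, rfl⟩ := Submodule.mem_span_singleton.1 hv
      rw [polar_smul_right', hyq, mul_zero]
  obtain ⟨n, hn, hQn⟩ := exists_aniso_perp hT.nd hU (lt_of_le_of_lt (finrank_pair_le (F := L) y q) hT.dim)
  exact ⟨n, hQn, hn y (Submodule.subset_span (by simp)), hn q (Submodule.subset_span (by simp))⟩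

/-- Two vectors of the image spanning a plane of square discriminant are impossible. -/
theorem no_square_plane (hNL : NoLam QL M) {g : V ≃ₗ[F] V} {a y q : V} {α : L} (hI : Img QL M g a)
    (hy : y ∈ img L g a) (hp : α • y + q ∈ img L g a) (hQy : QL y ≠ 0) (hQq : QL q ≠ 0) (hyq : polar QL y q = 0)
    (hsq : IsSquare (QL y * QL q)) : False := by
  classical
  haveI : FiniteDimensional F V := Module.Finite.trans L V
  haveI : Finite L := Module.finite_of_finite F
  have h2 := hT.toOExt.two'
  obtain ⟨m, hm⟩ := hsq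
  set k := m / QL q with hk
  have hkk : k * k * QL q = QL y := by rw [hk]; field_simp; linear_combination -hm
  have hk0 : k ≠ 0 := fun e => hQy (by rw [← hkk, e, zero_mul, zero_mul])
  obtain ⟨n, hQn, hny, hnq⟩ := hT.exists_third hQy hQq hyq
  have hqy : polar QL q y = 0 := by rw [polar_comm]; exact hyq
  set e := y - k • q with he
  have hQe : QL e = 2 * QL y := by
    rw [he, CfsgLib.Geometry.map_sub', map_smul', polar_smul_right', hyq, hkk]; ring
  have hQe0 : QL e ≠ 0 := by rw [hQe]; exact mul_ne_zero h2 hQy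
  set s := refl QL e hQe0 * refl QL y hQy with hs
  have hso : s ∈ orth QL := mul_mem (refl_mem_orth _ _ _) (refl_mem_orth _ _ _)
  have hye : polar QL y e = 2 * QL y := by rw [he, polar_sub_right, polar_self', polar_smul_right', hyq]; ring
  have hsy : s y = -(k • q) := by
    show refl QL e hQe0 (refl QL y hQy y) = _
    rw [refl_self, map_neg, refl_apply, hQe, hye, inv_mul_cancel₀ (mul_ne_zero h2 hQy), one_smul, he, sub_sub_cancel]
  have hsq' : s q = k⁻¹ • y := by
    show refl QL e hQe0 (refl QL y hQy q) = _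
    rw [refl_eq_self QL y hQy hqy, refl_apply, hQe, he, polar_sub_right, polar_smul_right', polar_self', hqy,
      show (2 * QL y)⁻¹ * (0 - k * (2 * QL q)) = -k⁻¹ by rw [← hkk]; field_simp; ring, neg_smul, sub_neg_eq_add,
      smul_sub, smul_smul, inv_mul_cancel₀ hk0, one_smul]
    abel
  have hsn : s n = n := by
    show refl QL e hQe0 (refl QL y hQy n) = _
    rw [refl_eq_self QL y hQy hny, refl_eq_self QL e hQe0 (by
      rw [he, polar_sub_right, polar_smul_right', hny, hnq, mul_zero, sub_zero])]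
  have hss : ∀ v, polar QL v n = 0 → s (s v) = -v := fun v hv => by
    rw [hT.decomp3 hQy hQq hQn hyq (by rw [polar_comm]; exact hny) (by rw [polar_comm]; exact hnq) v, hv, zero_div,
      zero_smul, add_zero]
    simp only [map_add, map_smul, hsy, hsq', map_neg, smul_smul]
    match_scalars <;> field_simp
  set x := res (F := F) (s * s) with hx
  have hxM : x ∈ M := hT.toOExt.sq_mem hso
  have hyn : polar QL y n = 0 := by rw [polar_comm]; exact hny
  have hqn : polar QL q n = 0 := by rw [polar_comm]; exact hnq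
  have hpn : polar QL (α • y + q) n = 0 := by rw [polar_add_left, polar_smul_left', hyn, hqn]; ring
  set B := img L g a with hB
  have hind : α • y + q ∉ F ∙ y := fun h => by
    obtain ⟨c, hc⟩ := Submodule.mem_span_singleton.1 h
    have := congrArg (fun v => polar QL v q) hc
    simp [lpolar_smul_left, polar_add_left, polar_smul_left', polar_self', hyq, hQq, h2] at this
  have hy0 : y ≠ 0 := fun e => hQy (by rw [e, QuadraticMap.map_zero])
  have hxx : ∀ v, x (x v) = v := fun v => by
    show s (s (s (s v))) = v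
    rw [hT.decomp3 hQy hQq hQn hyq hyn hqn v]
    simp only [map_add, map_smul, hsy, hsq', hsn, map_neg, smul_smul]
    match_scalars <;> field_simp
  have hBn : ∀ v ∈ B, polar QL v n = 0 := by
    rcases hT.scalar_of_two hNL hI hxM (fun v _ => hxx v) hy hp hy0 hind
      (by show s (s y) ∈ B; rw [hss y hyn]; exact B.neg_mem hy)
      (by show s (s (α • y + q)) ∈ B; rw [hss _ hpn]; exact B.neg_mem hp) with h | h
    · exfalso
      have h1 : s (s y) = y := h y hy
      rw [hss y hyn, neg_eq_iff_add_eq_zero, ← two_smul L, smul_eq_zero] at h1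
      exact hy0 (h1.resolve_left h2)
    · intro v hv
      have h1 : s (s v) = -v := h v hv
      have h3 : polar QL (s (s v)) n = polar QL v n := by
        nth_rw 1 [← hsn, ← hsn]
        rw [orth_polar hso, orth_polar hso]
      rw [h1, polar_neg_left, neg_eq_iff_add_eq_zero, ← two_mul] at h3
      exact (mul_eq_zero.1 h3).resolve_left h2
  -- a singular vector in the image
  have hsF : ∀ (c : F) v, s (c • v) = c • s v := fun c v => (res (F := F) s).map_smul c v
  let K : LinearMap.BilinForm F B := LinearMap.mk₂ F (fun z z' => polar Q (s (z : V)) (z' : V))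
    (fun z₁ z₂ z' => by rw [Submodule.coe_add, map_add, polar_add_left])
    (fun c z z' => by rw [Submodule.coe_smul, hsF, polar_smul_left', smul_eq_mul])
    (fun z z₁ z₂ => by rw [Submodule.coe_add, polar_add_right])
    (fun c z z' => by rw [Submodule.coe_smul, polar_smul_right', smul_eq_mul])
  have hsQ : ∀ u v, polar Q (s u) (s v) = polar Q u v := fun u v => by
    rw [hT.toOExt.polarQ, hT.toOExt.polarQ, orth_polar hso]
  have hA : K.IsAlt := fun z => by
    show polar Q (s (z : V)) (z : V) = 0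
    have h := hsQ (s z) z
    rw [hss _ (hBn z z.2), polar_neg_left, polar_comm Q (z : V) (s z), neg_eq_iff_add_eq_zero, ← two_mul] at h
    exact (mul_eq_zero.1 h).resolve_left hT.two
  have hodd := odd_finrank_ker hA (by
    rw [show Module.finrank F B = Module.finrank F L from finrank_img g hI.ne0]; exact hT.odd)
  set W := polarPerp Q (line F L n) with hW
  have hWmem : ∀ v, v ∈ W ↔ polar QL v n = 0 := fun v => by
    refine ⟨fun h => hT.toOExt.eps_ext fun t => ?_, fun h => mem_polarPerp.2 fun w hw => ?_⟩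
    · rw [mul_zero, map_zero, ← polar_smul_right', ← hT.toOExt.polarQ, polar_comm]
      exact mem_polarPerp.1 h (t • n) (smul_mem_line n t)
    · obtain ⟨t, rfl⟩ := mem_line.1 hw
      rw [polar_comm, hT.toOExt.polarQ, polar_smul_right', h, mul_zero, map_zero]
  have hBW : polarPerp Q (B ⊔ line F L n) = B := by
    have hn0 : n ≠ 0 := fun e => hQn (by rw [e, QuadraticMap.map_zero])
    symm
    refine Submodule.eq_of_le_of_finrank_le (fun v hv => mem_polarPerp.2 fun w hw => ?_) ?_
    · obtain ⟨b, hb, l, hl, rfl⟩ := Submodule.mem_sup.1 hw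
      obtain ⟨t, rfl⟩ := mem_line.1 hl
      rw [polar_add_left, hT.img_iso hI hb hv, zero_add, polar_comm, hT.toOExt.polarQ, polar_smul_right',
        hBn v hv, mul_zero, map_zero]
    · have h1 := finrank_polarPerp hT.toOExt.ndQ (B ⊔ line F L n)
      have h3 := Submodule.finrank_sup_add_finrank_inf_eq B (line F L n)
      have h4 : B ⊓ line F L n = ⊥ := eq_bot_iff.2 fun v hv => by
        obtain ⟨t, rfl⟩ := mem_line.1 hv.2
        have h5 := hBn _ hv.1
        rw [polar_smul_left', polar_self'] at h5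
        rw [Submodule.mem_bot, (mul_eq_zero.1 h5).resolve_right (mul_ne_zero h2 hQn), zero_smul]
      have h5 : Module.finrank F B = Module.finrank F L := finrank_img g hI.ne0
      rw [h4, finrank_bot, finrank_line hn0, h5] at h3
      have h6 := Module.finrank_mul_finrank F L V
      rw [hT.three] at h6
      omega
  have hkerB : ∀ z : B, z ∈ LinearMap.ker K → s (z : V) ∈ B := fun z hz => by
    refine hBW.le (mem_polarPerp.2 fun w hw => ?_)
    obtain ⟨b, hb, l, hl, rfl⟩ := Submodule.mem_sup.1 hw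
    obtain ⟨t, rfl⟩ := mem_line.1 hl
    rw [polar_add_left, polar_comm Q b, show polar Q (s (z : V)) b = K z ⟨b, hb⟩ from rfl,
      LinearMap.mem_ker.1 hz, LinearMap.zero_apply, zero_add, hT.toOExt.polarQ, polar_smul_left']
    nth_rw 1 [← hsn]
    rw [orth_polar hso, polar_comm, hBn z z.2, mul_zero, map_zero]
  let f : LinearMap.ker K →ₗ[F] LinearMap.ker K :=
    { toFun := fun z => ⟨⟨s (z : B), hkerB _ z.2⟩, LinearMap.mem_ker.2 (LinearMap.ext fun b => by
        show polar Q (s (s ((z : B) : V))) (b : V) = 0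
        rw [hss _ (hBn _ (z : B).2), polar_neg_left, hT.img_iso hI (z : B).2 b.2, neg_zero])⟩
      map_add' := fun z z' => Subtype.ext (Subtype.ext (by simp))
      map_smul' := fun c z => Subtype.ext (Subtype.ext (by simp [hsF])) }
  have hff : f * f = -1 := LinearMap.ext fun z => Subtype.ext (Subtype.ext (by
    show s (s ((z : B) : V)) = _
    rw [hss _ (hBn _ (z : B).2)]
    rfl))
  obtain ⟨i, hi⟩ : IsSquare (-1 : F) := ⟨LinearMap.det f, by
    have h := congrArg (fun φ : LinearMap.ker K →ₗ[F] LinearMap.ker K => LinearMap.det φ) hff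
    simp only [map_mul] at h
    rw [h, show (-1 : LinearMap.ker K →ₗ[F] LinearMap.ker K) = (-1 : F) • LinearMap.id from by
      exact LinearMap.ext fun z => by simp, LinearMap.det_smul, LinearMap.det_id, mul_one, hodd.neg_one_pow]⟩
  haveI : Nontrivial (LinearMap.ker K) := Module.nontrivial_of_finrank_pos (R := F) (by
    obtain ⟨m, hm⟩ := hodd
    omega)
  obtain ⟨z₀, hz₀⟩ := exists_ne (0 : LinearMap.ker K)
  obtain ⟨z, hz, hz0, j, hj, hsz⟩ : ∃ z ∈ B, z ≠ 0 ∧ ∃ j : F, j * j = -1 ∧ s z = j • z := by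
    set v := ((z₀ : B) : V) with hv
    have hv0 : v ≠ 0 := fun e => hz₀ (Subtype.ext (Subtype.ext e))
    by_cases h : s v + i • v = 0
    · exact ⟨v, (z₀ : B).2, hv0, -i, by rw [neg_mul_neg]; exact hi.symm,
        by rw [neg_smul]; exact eq_neg_of_add_eq_zero_left h⟩
    · refine ⟨_, B.add_mem (hkerB _ z₀.2) (B.smul_mem i (z₀ : B).2), h, i, hi.symm, ?_⟩
      rw [map_add, hsF, hss _ (hBn _ (z₀ : B).2), smul_add, smul_smul, ← hi, neg_one_smul]
      abel
  have hQz : QL z = 0 := by
    have h := mem_orth.1 hso z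
    rw [hsz, ← algebraMap_smul L j z, map_smul', ← map_mul, hj, map_neg, map_one, neg_one_mul,
      neg_eq_iff_add_eq_zero, ← two_mul] at h
    exact (mul_eq_zero.1 h).resolve_left h2
  -- a Siegel element makes an orthogonal vector
  obtain ⟨g', hp', himg⟩ := hT.pair_of_sing hI hz hz0 hQz
  obtain ⟨f', hf', hzf, hf'U⟩ := exists_partner hT.nd (L ∙ n) (fun h => hz0 (by
      obtain ⟨t, rfl⟩ := Submodule.mem_span_singleton.1 h
      rw [map_smul', mul_eq_zero, mul_self_eq_zero] at hQz
      rw [hQz.resolve_right hQn, zero_smul])) hQz (fun w hw => by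
      obtain ⟨t, rfl⟩ := Submodule.mem_span_singleton.1 hw
      rw [polar_smul_right', hBn z hz, mul_zero])
  have hF : Frame QL z f' n :=
    ⟨hQz, hf', hzf, hBn z hz, hf'U n (Submodule.mem_span_singleton_self n), hQn⟩
  obtain ⟨y', hy', hy'0⟩ : ∃ y' ∈ B, polar QL y' z ≠ 0 := by
    by_contra hc
    push Not at hc
    have h1 := hT.img_iso hI hy hz
    exact hT.no_sing_perp hNL hI hz hz0 hQz hy hQy (hc y hy)
  set η₀ := polar QL y' z with hη₀
  obtain ⟨κ, hκ, ⟨c, hc⟩⟩ := hT.toOExt.exists_class hT.odd (x := (QL n * η₀)⁻¹)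
  obtain ⟨x', hx', hxv⟩ := hT.exists_isE hF c
  have hc0 : c ≠ 0 := by
    rintro rfl
    rw [mul_zero, mul_eq_zero, inv_eq_zero] at hc
    rcases hc with h | h
    · exact hκ ((algebraMap F L).injective (by rw [h, map_zero]))
    · exact mul_ne_zero hQn hy'0 h
  have hxy : x' y' = y' + (c * η₀) • n - (c * c * QL n * η₀) • z := by
    rw [hxv, hBn y' hy', mul_zero, zero_smul, sub_zero]
  refine hT.perp_false hNL hI.mem hI.ne0 hI.sing hx' hz hz0 ?_ hy' (fun h => ?_) fun b hb => ?_
  · rw [← one_smul L z, hF.isE_fix hxv, one_smul]; exact hz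
  · have h1 := hBn _ h
    rw [hxy, polar_sub_left, polar_add_left, polar_smul_left', polar_smul_left', hBn y' hy', hBn z hz,
      polar_self'] at h1
    simp [hc0, hy'0, h2, hQn] at h1
  · rw [hxy, show c * c * QL n * η₀ = algebraMap F L κ by rw [← hc]; field_simp, algebraMap_smul, polar_sub_left,
      polar_add_left, hT.img_iso hI hy' hb, polar_smul_left' Q κ, hT.img_iso hI hz hb, hT.toOExt.polarQ,
      polar_smul_left', polar_comm QL n b, hBn b hb, mul_zero, map_zero]
    ring

/-- A vector orthogonal to the image has a vector of it orthogonal over the big field. -/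
theorem exists_kerB {g : V ≃ₗ[F] V} {a d : V} (hI : Img QL M g a) (hd : ∀ b ∈ img L g a, polar Q d b = 0) :
    ∃ y ∈ img L g a, y ≠ 0 ∧ polar QL d y = 0 := by
  haveI : FiniteDimensional F V := Module.Finite.trans L V
  set B := img L g a with hB
  let η : B →ₗ[F] L :=
    { toFun := fun y => polar QL d (y : V)
      map_add' := fun y y' => by rw [Submodule.coe_add, polar_add_right]
      map_smul' := fun c y => by rw [Submodule.coe_smul, lpolar_smul_right, RingHom.id_apply] }
  have hle : LinearMap.range η ≤ LinearMap.ker ε := by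
    rintro _ ⟨y, rfl⟩
    show ε (polar QL d (y : V)) = 0
    rw [← hT.toOExt.polarQ]
    exact hd _ y.2
  have h2 := LinearMap.finrank_range_add_finrank_ker η
  rw [show Module.finrank F B = Module.finrank F L from finrank_img g hI.ne0] at h2
  have h3 := LinearMap.finrank_range_add_finrank_ker ε
  rw [Module.Dual.range_eq_top_of_ne_zero hT.eps, finrank_top, Module.finrank_self] at h3
  have h4 := Submodule.finrank_mono hle
  have hne : LinearMap.ker η ≠ ⊥ := fun e => by
    rw [e, finrank_bot] at h2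
    omega
  obtain ⟨y, hy, hy0⟩ := Submodule.exists_mem_ne_zero_of_ne_bot hne
  exact ⟨y, y.2, fun e => hy0 (Subtype.ext e), hy⟩

theorem orth_split {y w : V} (hy : QL y ≠ 0) :
    ∃ (α : L) (q : V), w = α • y + q ∧ polar QL y q = 0 ∧ polar QL w y = α * (2 * QL y) := by
  refine ⟨polar QL w y / (2 * QL y), w - (polar QL w y / (2 * QL y)) • y, by abel, ?_,
    (div_mul_cancel₀ _ (mul_ne_zero hT.toOExt.two' hy)).symm⟩
  rw [polar_sub_right, polar_smul_right', polar_self', div_mul_cancel₀ _ (mul_ne_zero hT.toOExt.two' hy), polar_comm,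
    sub_self]

/-- The main move. -/
theorem core (hNL : NoLam QL M) {g : V ≃ₗ[F] V} {a v y₁ q : V} {α : L} (hI : Img QL M g a)
    (hv : ∀ b ∈ img L g a, polar Q v b = 0) (hvB : v ∉ img L g a) (hy₁ : y₁ ∈ img L g a) (hQv : QL v = QL y₁)
    (hQy : QL y₁ ≠ 0) (hQd : QL (v - y₁) ≠ 0) (hp : α • y₁ + q ∈ img L g a) (hyq : polar QL y₁ q = 0)
    (hQq : QL q ≠ 0) (hd : polar QL (v - y₁) (α • y₁ + q) = 0) : False := by
  haveI : Finite L := Module.finite_of_finite F
  by_cases hsq : IsSquare (QL y₁ * QL q)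
  · exact hT.no_square_plane hNL hI hy₁ hp hQy hQq hyq hsq
  obtain ⟨n, hQn, hny, hnq⟩ := hT.exists_third hQy hQq hyq
  set z := α • y₁ + q with hz
  have hy₁n : polar QL y₁ n = 0 := by rw [polar_comm]; exact hny
  have hqn : polar QL q n = 0 := by rw [polar_comm]; exact hnq
  have hzn : polar QL z n = 0 := by rw [hz, polar_add_left, polar_smul_left', hy₁n, hqn]; ring
  have hrd : refl QL (v - y₁) hQd y₁ = v := by
    rw [refl_apply, show polar QL y₁ (v - y₁) = -QL (v - y₁) by
      rw [polar_sub_right, CfsgLib.Geometry.map_sub', hQv, polar_self', polar_comm QL v y₁]; ring,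
      mul_neg, inv_mul_cancel₀ hQd, neg_one_smul, sub_neg_eq_add, add_sub_cancel]
  have hrdz : refl QL (v - y₁) hQd z = z := refl_eq_self QL _ hQd (by rw [polar_comm]; exact hd)
  have hz0 : z ≠ 0 := fun e => hQq (by
    have h := congrArg (fun w => polar QL w q) e
    simp [hz, polar_add_left, polar_smul_left', polar_self', hyq, hT.toOExt.two'] at h
    exact h)
  by_cases hX : IsSquare (QL (v - y₁) * QL n)
  · refine hT.perp_false hNL hI.mem hI.ne0 hI.sing (hT.toOExt.refl2_mem hQd hQn hX) hp hz0 ?_ hy₁ ?_ ?_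
    · show refl QL _ hQd (refl QL n hQn z) ∈ _
      rw [refl_eq_self QL n hQn hzn, hrdz]; exact hp
    · show refl QL _ hQd (refl QL n hQn y₁) ∉ _
      rw [refl_eq_self QL n hQn hy₁n, hrd]; exact hvB
    · show ∀ b ∈ _, polar Q (refl QL _ hQd (refl QL n hQn y₁)) b = 0
      rw [refl_eq_self QL n hQn hy₁n, hrd]; exact hv
  have hqy : polar QL q y₁ = 0 := by rw [polar_comm]; exact hyq
  have hsq4 : IsSquare (QL (v - y₁) * QL n * (QL y₁ * QL q)) := isSquare_mul_of_not hX hsq
  have hx1 : refl QL y₁ hQy (refl QL q hQq y₁) = -y₁ := by rw [refl_eq_self QL q hQq hyq, refl_self]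
  have hxz : refl QL y₁ hQy (refl QL q hQq z) = -z := by
    rw [hz, map_add, map_smul, refl_eq_self QL q hQq hyq, refl_self, map_add, map_smul, map_neg, refl_self,
      refl_eq_self QL y₁ hQy hqy]
    module
  refine hT.perp_false hNL hI.mem hI.ne0 hI.sing (hT.toOExt.refl4_mem hQd hQn hQy hQq hsq4) hp hz0 ?_ hy₁ ?_ ?_
  · show refl QL _ hQd (refl QL n hQn (refl QL y₁ hQy (refl QL q hQq z))) ∈ _
    rw [hxz, map_neg, refl_eq_self QL n hQn hzn, map_neg, hrdz]; exact Submodule.neg_mem _ hp
  · show refl QL _ hQd (refl QL n hQn (refl QL y₁ hQy (refl QL q hQq y₁))) ∉ _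
    rw [hx1, map_neg, refl_eq_self QL n hQn hy₁n, map_neg, hrd, neg_mem_iff]; exact hvB
  · show ∀ b ∈ _, polar Q (refl QL _ hQd (refl QL n hQn (refl QL y₁ hQy (refl QL q hQq y₁)))) b = 0
    rw [hx1, map_neg, refl_eq_self QL n hQn hy₁n, map_neg, hrd]
    exact fun b hb => by rw [polar_neg_left, hv b hb, neg_zero]

/-- No two vectors of the image span a degenerate plane. -/
theorem no_degenerate (hNL : NoLam QL M) {g : V ≃ₗ[F] V} {a y e : V} {α : L} (hI : Img QL M g a)
    (hy : y ∈ img L g a) (hw : α • y + e ∈ img L g a) (hQy : QL y ≠ 0) (he0 : e ≠ 0) (hQe : QL e = 0)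
    (hye : polar QL y e = 0) : False := by
  classical
  haveI : FiniteDimensional F V := Module.Finite.trans L V
  haveI : Finite L := Module.finite_of_finite F
  have h2 := hT.toOExt.two'
  have hey : polar QL e y = 0 := by rw [polar_comm]; exact hye
  have hy0 : y ≠ 0 := fun h => hQy (by rw [h, QuadraticMap.map_zero])
  set B := img L g a with hB
  set w := α • y + e with hwdef
  have hew : polar QL e w = 0 := by
    rw [hwdef, polar_add_right, polar_smul_right', hey, polar_self', hQe, mul_zero, mul_zero, add_zero]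
  let Φ : L →ₗ[F] Module.Dual F B :=
    LinearMap.mk₂ F (fun t b => ε (t * polar QL e (b : V)))
      (fun t t' b => by rw [add_mul, map_add]) (fun c t b => by rw [smul_mul_assoc, eps_smul', smul_eq_mul])
      (fun t b b' => by rw [Submodule.coe_add, polar_add_right, mul_add, map_add])
      (fun c t b => by rw [Submodule.coe_smul, lpolar_smul_right, mul_smul_comm, eps_smul', smul_eq_mul])
  obtain ⟨t, ht, htB⟩ : ∃ t, Φ t = 0 ∧ t • e ∉ B := by
    by_contra hcon
    push Not at hcon
    let S : Submodule F B := Submodule.span F {⟨y, hy⟩, ⟨w, hw⟩}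
    have hrange : LinearMap.range Φ ≤ S.dualAnnihilator := by
      rintro _ ⟨t, rfl⟩
      refine (Submodule.mem_dualAnnihilator _).2 fun b hb => ?_
      obtain ⟨p, q, rfl⟩ := Submodule.mem_span_pair.1 hb
      show ε (t * polar QL e (p • y + q • w)) = 0
      simp [polar_add_right, lpolar_smul_right, hey, hew]
    have h1 : Module.finrank F S = 2 := by
      have hli : LinearIndependent F ![(⟨y, hy⟩ : B), ⟨w, hw⟩] := by
        rw [LinearIndependent.pair_iff]
        intro p q hpq
        have hpq' : p • y + q • w = 0 := congrArg Subtype.val hpq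
        obtain ⟨f, hf, hef⟩ := exists_pair hT.nd he0 hQe
        set f' := f - (polar QL f y / (2 * QL y)) • y with hf'
        have e1 := congrArg (fun v => polar QL v f') hpq'
        simp only [hwdef, smul_add, polar_add_left, lpolar_smul_left, polar_smul_left', polar_zero_left] at e1
        have hyf' : polar QL y f' = 0 := by
          rw [hf', polar_sub_right, polar_smul_right', polar_self', div_mul_cancel₀ _ (mul_ne_zero h2 hQy),
            polar_comm, sub_self]
        have hef' : polar QL e f' = 1 := by rw [hf', polar_sub_right, polar_smul_right', hey, hef]; ring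
        rw [hyf', hef'] at e1
        simp at e1
        subst e1
        rw [zero_smul, add_zero, smul_eq_zero] at hpq'
        exact ⟨hpq'.resolve_right hy0, rfl⟩
      have h := finrank_span_eq_card hli
      rw [Matrix.range_cons, Matrix.range_cons, Matrix.range_empty, Set.union_empty, Set.singleton_union,
        Fintype.card_fin] at h
      exact h
    have h3 := Subspace.finrank_add_finrank_dualAnnihilator_eq S
    rw [h1, show Module.finrank F B = Module.finrank F L from finrank_img g hI.ne0] at h3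
    have h4 := Submodule.finrank_mono hrange
    have h5 := LinearMap.finrank_range_add_finrank_ker Φ
    have h6 : Module.finrank F (LinearMap.ker Φ) ≤ 1 := by
      by_cases hbot : LinearMap.ker Φ = ⊥
      · rw [hbot, finrank_bot]; norm_num
      obtain ⟨t₁, ht₁, ht₁0⟩ := Submodule.exists_mem_ne_zero_of_ne_bot hbot
      refine le_trans (Submodule.finrank_mono (t := F ∙ t₁) fun t ht => ?_)
        (by simpa using finrank_span_le_card (R := F) ({t₁} : Set L))
      obtain ⟨c, hc⟩ := Submodule.mem_span_singleton.1 (hT.sing_unique hNL hI (hcon t₁ ht₁)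
        (smul_ne_zero ht₁0 he0) (by rw [map_smul', hQe, mul_zero]) (hcon t ht) (by rw [map_smul', hQe, mul_zero]))
      rw [← smul_assoc] at hc
      exact Submodule.mem_span_singleton.2 ⟨c, smul_left_injective L he0 hc⟩
    omega
  set v := t • e + y with hv
  have hvB : v ∉ B := fun h => htB (by have := B.sub_mem h hy; rwa [hv, add_sub_cancel_right] at this)
  have hvperp : ∀ b ∈ B, polar Q v b = 0 := fun b hb => by
    rw [hv, polar_add_left, hT.img_iso hI hy hb, add_zero, hT.toOExt.polarQ, polar_smul_left']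
    exact LinearMap.congr_fun ht ⟨b, hb⟩
  have hQv : QL v = QL (-y) := by
    rw [hv, map_add', map_smul', polar_smul_left', hQe, hey, QuadraticMap.map_neg]; ring
  have hQd : QL (v - -y) = 2 * 2 * QL y := by
    rw [hv, sub_neg_eq_add, map_add', map_add', map_smul', hQe, polar_smul_left', polar_add_left, polar_smul_left',
      hey, polar_self']
    ring
  obtain ⟨y₃, hy₃, hy₃0, hd₃⟩ := hT.exists_kerB hI (d := v - -y) fun b hb => by
    rw [sub_neg_eq_add, polar_add_left, hvperp b hb, hT.img_iso hI hy hb, add_zero]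
  have hQny : QL (-y) ≠ 0 := by rwa [QuadraticMap.map_neg]
  obtain ⟨β, q, hy₃q, hq, -⟩ := hT.orth_split (w := y₃) hQny
  by_cases hQq : QL q = 0
  swap
  · exact hT.core hNL hI hvperp hvB (B.neg_mem hy) hQv hQny (by rw [hQd]; exact mul_ne_zero (mul_ne_zero h2 h2) hQy)
      (hy₃q ▸ hy₃) hq hQq (hy₃q ▸ hd₃)
  have hyq : polar QL y q = 0 := by rw [polar_neg_left, neg_eq_zero] at hq; exact hq
  have hd' : t * polar QL e q - β * (2 * (2 * QL y)) = 0 := by
    rw [← hd₃, hy₃q, hv, sub_neg_eq_add]
    simp only [polar_add_left, polar_add_right, polar_smul_left', polar_smul_right', polar_neg_right, hey, hyq,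
      polar_self']
    ring
  have h2d : (2 : L) * (2 * QL y) ≠ 0 := mul_ne_zero h2 (mul_ne_zero h2 hQy)
  by_cases heq : polar QL e q = 0
  · rw [heq, mul_zero, zero_sub, neg_eq_zero] at hd'
    obtain rfl : β = 0 := (mul_eq_zero.1 hd').resolve_right h2d
    rw [zero_smul, zero_add] at hy₃q
    subst hy₃q
    exact hT.no_sing_perp hNL hI hy₃ hy₃0 hQq hy hQy hyq
  obtain ⟨s, hs, hsq⟩ := hT.toOExt.exists_class hT.odd (x := QL y * polar QL e q)
  refine hT.no_square_plane hNL hI hy (α := s • α - β) (q := s • e + q) ?_ hQy ?_ ?_ ?_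
  · rw [show (s • α - β) • y + (s • e + q) = s • w + y₃ by
      rw [hwdef, hy₃q, sub_smul, smul_assoc, smul_neg, smul_add]; abel]
    exact B.add_mem (B.smul_mem _ hw) hy₃
  · rw [← algebraMap_smul L s e, map_add', map_smul', hQe, hQq, mul_zero, zero_add, zero_add, polar_smul_left']
    exact mul_ne_zero (fun h => hs ((algebraMap F L).injective (by rw [h, map_zero]))) heq
  · rw [polar_add_right, lpolar_smul_right, hye, hyq, smul_zero, add_zero]
  · rw [← algebraMap_smul L s e, map_add', map_smul', hQe, hQq, mul_zero, zero_add, zero_add, polar_smul_left']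
    convert hsq using 1
    ring

/-- The values of the form on the orthogonal outside the image avoid those on the image. -/
theorem no_value (hNL : NoLam QL M) {g : V ≃ₗ[F] V} {a v y₁ : V} (hI : Img QL M g a)
    (hv : ∀ b ∈ img L g a, polar Q v b = 0) (hvB : v ∉ img L g a) (hy₁ : y₁ ∈ img L g a) (hQv : QL v = QL y₁) :
    False := by
  haveI : FiniteDimensional F V := Module.Finite.trans L V
  haveI : Finite L := Module.finite_of_finite F
  have h2 := hT.toOExt.two'
  set B := img L g a with hB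
  have hmain : ∀ v y, (∀ b ∈ B, polar Q v b = 0) → v ∉ B → y ∈ B → QL v = QL y → QL y ≠ 0 → QL (v - y) ≠ 0 →
      False := by
    intro v y hv hvB hy hQv hQy hQd
    obtain ⟨z, hz, hz0, hd⟩ := hT.exists_kerB hI (d := v - y) fun b hb => by
      rw [polar_sub_left, hv b hb, hT.img_iso hI hy hb, sub_zero]
    obtain ⟨α, q, rfl, hyq, -⟩ := hT.orth_split (w := z) hQy
    by_cases hQq : QL q = 0
    swap
    · exact hT.core hNL hI hv hvB hy hQv hQy hQd hz hyq hQq hd
    by_cases hq0 : q = 0
    · subst hq0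
      rw [add_zero] at hd hz0
      have h1 : polar QL (v - y) y = -QL (v - y) := by
        rw [polar_sub_left, CfsgLib.Geometry.map_sub', hQv, polar_self']; ring
      rw [polar_smul_right', h1, mul_eq_zero, neg_eq_zero] at hd
      exact hz0 (by rw [hd.resolve_right hQd, zero_smul])
    exact hT.no_degenerate hNL hI hy hz hQy hq0 hQq hyq
  have hmain' : ∀ v y, (∀ b ∈ B, polar Q v b = 0) → v ∉ B → y ∈ B → QL v = QL y → QL y ≠ 0 → False := by
    intro v y hv hvB hy hQv hQy
    by_cases h : QL (v - y) = 0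
    swap
    · exact hmain v y hv hvB hy hQv hQy h
    refine hmain v (-y) hv hvB (B.neg_mem hy) (by rw [hQv, QuadraticMap.map_neg]) (by rwa [QuadraticMap.map_neg]) ?_
    intro h'
    rw [CfsgLib.Geometry.map_sub', hQv] at h
    rw [sub_neg_eq_add, map_add', hQv] at h'
    have h4 : 2 * (2 * QL y) = 0 := by linear_combination h + h'
    exact mul_ne_zero h2 (mul_ne_zero h2 hQy) h4
  by_cases hQy : QL y₁ = 0
  swap
  · exact hmain' v y₁ hv hvB hy₁ hQv hQy
  rw [hQy] at hQv
  have hv0 : v ≠ 0 := fun e => hvB (e ▸ B.zero_mem)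
  obtain ⟨y, hy, hy0, hvy⟩ := hT.exists_kerB hI hv
  by_cases hQy' : QL y = 0
  · obtain ⟨l, hl⟩ := mem_line.1 (hT.mem_of_sing_perp hy0 hQy' hQv hvy)
    have hker : ∀ x, ε x = 0 → ε (l * x) = 0 := fun x hx => by
      obtain ⟨b, hb, rfl⟩ := hT.perp_image hNL hI hy hy0 hQy' hx
      have h := hv b hb
      rwa [← hl, hT.toOExt.polarQ, polar_smul_left', polar_comm QL y b] at h
    obtain ⟨o, ho⟩ := hT.toOExt.exists_eps_one
    have hl' : l = algebraMap F L (ε (l * o)) := hT.toOExt.eps_ext fun t => by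
      have h := hker (t - ε t • o) (by rw [map_sub, eps_smul', ho, mul_one, sub_self])
      rw [mul_sub, mul_smul_comm, map_sub, eps_smul', sub_eq_zero] at h
      rw [mul_comm t l, h, mul_comm t, ← Algebra.smul_def, eps_smul', mul_comm]
    refine hvB ?_
    rw [← hl, hl', algebraMap_smul]
    exact B.smul_mem _ hy
  refine hmain' (v + y) y (fun b hb => by rw [polar_add_left, hv b hb, hT.img_iso hI hy hb, add_zero])
    (fun h => hvB (by have := B.sub_mem h hy; rwa [add_sub_cancel_right] at this)) hy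
    (by rw [map_add', hQv, hvy, zero_add, add_zero]) hQy'

/-- Equal values on the image come from opposite vectors. -/
theorem collision (hNL : NoLam QL M) {g : V ≃ₗ[F] V} {a y w : V} (hI : Img QL M g a) (hy : y ∈ img L g a)
    (hw : w ∈ img L g a) (hQy : QL y ≠ 0) (hQw : QL w = QL y) : w = y ∨ w = -y := by
  haveI : Finite L := Module.finite_of_finite F
  have h2 := hT.toOExt.two'
  obtain ⟨α, q, rfl, hyq, hwy⟩ := hT.orth_split (w := w) hQy
  by_cases hq0 : q = 0
  · subst hq0
    rw [add_zero, map_smul', mul_eq_right₀ hQy] at hQw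
    rcases mul_self_eq_one_iff.1 hQw with rfl | rfl
    · left; rw [one_smul, add_zero]
    · right; rw [neg_one_smul, add_zero]
  exfalso
  by_cases hQq : QL q = 0
  · exact hT.no_degenerate hNL hI hy hw hQy hq0 hQq hyq
  by_cases hsq : IsSquare (QL y * QL q)
  · exact hT.no_square_plane hNL hI hy hw hQy hQq hyq hsq
  set w := α • y + q with hwdef
  have hQqv : QL q = QL y * (1 - α * α) := by
    rw [hwdef, map_add', map_smul', polar_smul_left', hyq] at hQw
    linear_combination hQw
  have he1 : QL (y - w) = 2 * QL y - α * (2 * QL y) := by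
    rw [CfsgLib.Geometry.map_sub', polar_comm QL y w, hwy, hQw]; ring
  have he2 : QL (y + w) = 2 * QL y + α * (2 * QL y) := by
    rw [map_add', polar_comm QL y w, hwy, hQw]; ring
  have hα : α ≠ 1 ∧ α ≠ -1 := ⟨fun e => hQq (by rw [hQqv, e]; ring), fun e => hQq (by rw [hQqv, e]; ring)⟩
  have he1' : QL (y - w) ≠ 0 := by
    rw [he1, ← one_sub_mul]; exact mul_ne_zero (sub_ne_zero.2 (Ne.symm hα.1)) (mul_ne_zero h2 hQy)
  have he2' : QL (y + w) ≠ 0 := by
    rw [he2, ← one_add_mul]
    exact mul_ne_zero (fun e => hα.2 (eq_neg_of_add_eq_zero_right e)) (mul_ne_zero h2 hQy)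
  have h12 : QL (y - w) * QL (y + w) = 2 * 2 * (QL y * QL q) := by rw [he1, he2, hQqv]; ring
  obtain ⟨n, hQn, hny, hnq⟩ := hT.exists_third hQy hQq hyq
  have hyn : polar QL y n = 0 := by rw [polar_comm]; exact hny
  have hwn : polar QL w n = 0 := by
    rw [hwdef, polar_add_left, polar_smul_left', hyn, polar_comm QL q n, hnq]; ring
  have hy0 : y ≠ 0 := fun h => hQy (by rw [h, QuadraticMap.map_zero])
  have hind : w ∉ F ∙ y := fun h => by
    obtain ⟨c, hc⟩ := Submodule.mem_span_singleton.1 h
    have := congrArg (fun v => polar QL v q) hc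
    simp [hwdef, lpolar_smul_left, polar_add_left, polar_smul_left', polar_self', hyq, hQq, h2] at this
  have hne : w ≠ y ∧ w ≠ -y := ⟨fun e => hind (by rw [e]; exact Submodule.mem_span_singleton_self y),
    fun e => hind (by rw [e]; exact Submodule.neg_mem _ (Submodule.mem_span_singleton_self y))⟩
  by_cases hX : IsSquare (QL (y - w) * QL n)
  · have hxy : refl QL (y - w) he1' (refl QL n hQn y) = w := by
      rw [refl_eq_self QL n hQn hyn, refl_apply, show polar QL y (y - w) = QL (y - w) by
        rw [polar_sub_right, polar_self', polar_comm QL y w, hwy, he1], inv_mul_cancel₀ he1', one_smul, sub_sub_cancel]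
    have hinv : ∀ b, refl QL (y - w) he1' (refl QL n hQn (refl QL (y - w) he1' (refl QL n hQn b))) = b :=
      refl2_invol he1' hQn (by rw [polar_sub_left, hyn, hwn, sub_zero])
    have hxw : refl QL (y - w) he1' (refl QL n hQn w) = y := by
      have h := hinv y
      rwa [hxy] at h
    rcases hT.scalar_of_two hNL hI (hT.toOExt.refl2_mem he1' hQn hX) (fun b _ => hinv b) hy hw hy0 hind
      (by show refl QL _ he1' (refl QL n hQn y) ∈ _; rwa [hxy])
      (by show refl QL _ he1' (refl QL n hQn w) ∈ _; rwa [hxw]) with h | h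
    · exact hne.1 (hxy.symm.trans (h y hy))
    · exact hne.2 (hxy.symm.trans (h y hy))
  · have hY : IsSquare (QL (y + w) * QL n) := by
      have hX' : ¬ IsSquare (2 * 2 * (QL y * QL q)) := fun ⟨r, hr⟩ => hsq ⟨r / 2, by
        rw [div_mul_div_comm, ← hr]; field_simp⟩
      have h := isSquare_mul_of_not hX hX'
      obtain ⟨r, hr⟩ := h
      refine ⟨r / QL (y - w), ?_⟩
      rw [div_mul_div_comm, ← hr, ← h12]
      field_simp
    have hxy : refl QL (y + w) he2' (refl QL n hQn y) = -w := by
      rw [refl_eq_self QL n hQn hyn, refl_apply, show polar QL y (y + w) = QL (y + w) by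
        rw [polar_add_right, polar_self', polar_comm QL y w, hwy, he2], inv_mul_cancel₀ he2', one_smul]
      abel
    have hinv : ∀ b, refl QL (y + w) he2' (refl QL n hQn (refl QL (y + w) he2' (refl QL n hQn b))) = b :=
      refl2_invol he2' hQn (by rw [polar_add_left, hyn, hwn, add_zero])
    have hxw : refl QL (y + w) he2' (refl QL n hQn w) = -y := by
      have h := hinv y
      rw [hxy, map_neg, map_neg] at h
      exact neg_eq_iff_eq_neg.1 h
    rcases hT.scalar_of_two hNL hI (hT.toOExt.refl2_mem he2' hQn hY) (fun b _ => hinv b) hy hw hy0 hind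
      (by show refl QL _ he2' (refl QL n hQn y) ∈ _; rw [hxy]; exact Submodule.neg_mem _ hw)
      (by show refl QL _ he2' (refl QL n hQn w) ∈ _; rw [hxw]; exact Submodule.neg_mem _ hy) with h | h
    · exact hne.2 (neg_eq_iff_eq_neg.1 (hxy.symm.trans (h y hy)))
    · exact hne.1 (neg_injective (hxy.symm.trans (h y hy)))

/-- Some element displaces along a singular line. -/
theorem exists_lam {g : V ≃ₗ[F] V} {a : V} (hI : Img QL M g a) : ¬ NoLam QL M := by
  classical
  intro hNL
  haveI : FiniteDimensional F V := Module.Finite.trans L V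
  haveI : Finite V := Module.finite_of_finite F
  haveI : Finite L := Module.finite_of_finite F
  haveI := Fintype.ofFinite F
  have h2 := hT.toOExt.two'
  set B := img L g a with hB
  have hBr : Module.finrank F B = Module.finrank F L := finrank_img g hI.ne0
  have hr := hT.three_le
  -- a non-singular vector
  obtain ⟨w, hw, hQw⟩ : ∃ w ∈ B, QL w ≠ 0 := by
    by_contra hc
    push Not at hc
    obtain ⟨z, hz, hz0⟩ := Submodule.exists_mem_ne_zero_of_ne_bot (show B ≠ ⊥ from fun e => by
      rw [e, finrank_bot] at hBr; omega)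
    have h1 := Submodule.finrank_mono (show B ≤ F ∙ z from fun v hv =>
      hT.sing_unique hNL hI hz hz0 (hc z hz) hv (hc v hv))
    rw [finrank_span_singleton hz0] at h1
    omega
  set P := polarPerp Q B with hP
  have hBP : B ≤ P := fun v hv => mem_polarPerp.2 fun b hb => hT.img_iso hI hb hv
  obtain ⟨C', hC'⟩ := Submodule.exists_isCompl (B.comap P.subtype)
  set C := C'.map P.subtype with hC
  have hCP : C ≤ P := Submodule.map_subtype_le _ _
  have hCB : ∀ c ∈ C, ∀ b ∈ B, c + b ∈ B → c = 0 := by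
    rintro _ ⟨c, hc, rfl⟩ b hb h
    have h1 : c ∈ B.comap P.subtype ⊓ C' := ⟨by
      have := B.sub_mem h hb
      rwa [add_sub_cancel_right] at this, hc⟩
    rw [hC'.inf_eq_bot, Submodule.mem_bot] at h1
    rw [h1, map_zero]
  have hdimC : Module.finrank F C = Module.finrank F L := by
    have h1 := finrank_polarPerp hT.toOExt.ndQ B
    rw [hBr] at h1
    have h3 := Submodule.finrank_sup_add_finrank_inf_eq (B.comap P.subtype) C'
    rw [hC'.sup_eq_top, hC'.inf_eq_bot, finrank_top, finrank_bot, add_zero,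
      (Submodule.comapSubtypeEquivOfLe hBP).finrank_eq, hBr] at h3
    have h4 : Module.finrank F C = Module.finrank F C' := Submodule.finrank_map_subtype_eq _ _
    have h6 := Module.finrank_mul_finrank F L V
    rw [hT.three] at h6
    change Module.finrank F P + _ = _ at h1
    omega
  let X := C × F × B
  let l₁ : X →ₗ[F] V := C.subtype ∘ₗ LinearMap.fst F C (F × B) +
    (LinearMap.toSpanSingleton F V w) ∘ₗ LinearMap.fst F F B ∘ₗ LinearMap.snd F C (F × B)
  let l₂ : X →ₗ[F] V := B.subtype ∘ₗ LinearMap.snd F F B ∘ₗ LinearMap.snd F C (F × B)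
  let QF : QuadraticMap F V L := QL.restrictScalars
  let Ψ : QuadraticMap F X L := QF.comp l₁ - QF.comp l₂
  have hΨ : ∀ x : X, Ψ x = QL ((x.1 : V) + x.2.1 • w) - QL (x.2.2 : V) := fun x => rfl
  let bL := Module.finBasis F L
  let Φ : Fin (Module.finrank F L) → QuadraticForm F X := fun i => (bL.coord i).compQuadraticMap Ψ
  have hΦ : ∀ x, (∀ i, Φ i x = 0) ↔ Ψ x = 0 := fun x => by
    refine ⟨fun h => bL.ext_elem fun i => ?_, fun h i => ?_⟩
    · rw [map_zero, Finsupp.zero_apply]; exact h i
    · show bL.coord i (Ψ x) = 0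
      rw [h, map_zero]
  set p := ringChar F with hp
  have hpp : p.Prime := CharP.char_is_prime F p
  have hcw := chevalley_quadratic p Φ (by
    rw [Fintype.card_fin, Module.finrank_prod, Module.finrank_prod, Module.finrank_self, hdimC, hBr]; omega)
  rw [Nat.card_congr (Equiv.subtypeEquivRight hΦ)] at hcw
  by_cases hex : ∃ x : X, Ψ x = 0 ∧ x.1 ≠ 0
  · obtain ⟨x, hx, hx1⟩ := hex
    refine hT.no_value hNL hI (v := (x.1 : V) + x.2.1 • w) (y₁ := x.2.2) (fun b hb => ?_) (fun h => hx1 ?_) x.2.2.2 ?_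
    · rw [polar_add_left, polar_smul_left', hT.img_iso hI hw hb, mul_zero, add_zero, polar_comm]
      exact mem_polarPerp.1 (hCP x.1.2) b hb
    · exact Subtype.ext (hCB _ x.1.2 _ (B.smul_mem _ hw) h)
    · exact sub_eq_zero.1 ((hΨ x).symm.trans hx)
  push Not at hex
  -- counting the solutions without the complement
  let Y := {t : F // t ≠ 0} × Bool ⊕ {y : B // QL (y : V) = 0}
  let sgn : Bool → F := fun b => if b then 1 else -1
  let φ : Y → {x : X // Ψ x = 0} := Sum.elim
    (fun tb => ⟨(0, (tb.1.1, ⟨(sgn tb.2 * tb.1.1) • w, B.smul_mem _ hw⟩)), by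
      rw [hΨ]
      have hQ : ∀ c : F, QL (c • w) = algebraMap F L (c * c) * QL w := fun c => by
        rw [← algebraMap_smul L c w, map_smul', map_mul]
      simp only [Submodule.coe_zero, zero_add, hQ, sgn]
      split_ifs <;> simp⟩)
    (fun y => ⟨(0, (0, y.1)), by rw [hΨ]; simp [y.2]⟩)
  have hφ : Function.Bijective φ := by
    refine ⟨?_, fun ⟨x, hx⟩ => ?_⟩
    · have hw0 : w ≠ 0 := fun e => hQw (by rw [e, QuadraticMap.map_zero])
      rintro (⟨⟨t, ht⟩, b⟩ | y) (⟨⟨t', ht'⟩, b'⟩ | y') h
      · have h1 : t = t' := congrArg (fun p : {x : X // Ψ x = 0} => p.1.2.1) h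
        have h2' := congrArg (fun p : {x : X // Ψ x = 0} => (p.1.2.2 : V)) h
        subst h1
        simp only [φ, Sum.elim_inl] at h2'
        have h3 := smul_left_injective F hw0 h2'
        have h4 := mul_right_cancel₀ ht h3
        have : b = b' := by
          clear h h2' h3
          cases b <;> cases b'
          · rfl
          · exfalso; simp only [sgn, Bool.false_eq_true, if_true, if_false] at h4; exact hT.two (by linear_combination -h4)
          · exfalso; simp only [sgn, Bool.false_eq_true, if_true, if_false] at h4; exact hT.two (by linear_combination h4)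
          · rfl
        rw [this]
      · exact absurd (congrArg (fun p : {x : X // Ψ x = 0} => p.1.2.1) h) ht
      · exact absurd (congrArg (fun p : {x : X // Ψ x = 0} => p.1.2.1) h).symm ht'
      · exact congrArg Sum.inr (Subtype.ext (congrArg (fun p : {x : X // Ψ x = 0} => p.1.2.2) h))
    · have hc := hex x hx
      obtain ⟨c, t, y⟩ := x
      simp only at hc
      subst hc
      have hx' : QL (t • w) = QL (y : V) := by
        have h := (hΨ _).symm.trans hx
        rw [sub_eq_zero] at h
        simpa using h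
      by_cases ht : t = 0
      · subst ht
        rw [zero_smul, QuadraticMap.map_zero] at hx'
        exact ⟨Sum.inr ⟨y, hx'.symm⟩, rfl⟩
      have hQt : QL (t • w) ≠ 0 := by
        rw [← algebraMap_smul L t w, map_smul']
        refine mul_ne_zero (mul_ne_zero ?_ ?_) hQw <;>
          exact fun e => ht ((algebraMap F L).injective (by rw [e, map_zero]))
      rcases hT.collision hNL hI (B.smul_mem t hw) y.2 hQt hx'.symm with h | h
      · refine ⟨Sum.inl (⟨t, ht⟩, true), Subtype.ext (Prod.ext rfl (Prod.ext rfl (Subtype.ext ?_)))⟩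
        simp [φ, sgn, h]
      · refine ⟨Sum.inl (⟨t, ht⟩, false), Subtype.ext (Prod.ext rfl (Prod.ext rfl (Subtype.ext ?_)))⟩
        simp [φ, sgn, h]
  rw [← Nat.card_congr (Equiv.ofBijective φ hφ), Nat.card_sum, Nat.card_prod, Nat.card_eq_fintype_card (α := Bool),
    Fintype.card_bool] at hcw
  have hcardt : Nat.card {t : F // t ≠ 0} = Nat.card F - 1 := by
    rw [Nat.card_eq_fintype_card, Nat.card_eq_fintype_card, Fintype.card_subtype_compl, Fintype.card_subtype_eq]
  have hS : Nat.card {y : B // QL (y : V) = 0} = 1 ∨ Nat.card {y : B // QL (y : V) = 0} = Nat.card F := by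
    by_cases hz : ∃ z ∈ B, z ≠ 0 ∧ QL z = 0
    · obtain ⟨z, hz, hz0, hQz⟩ := hz
      refine Or.inr (Nat.card_congr (Equiv.ofBijective (fun c : F => (⟨⟨c • z, B.smul_mem c hz⟩, by
        show QL (c • z) = 0
        rw [← algebraMap_smul L c z, map_smul', hQz, mul_zero]⟩ : {y : B // QL (y : V) = 0}))
        ⟨fun c c' h => smul_left_injective F hz0 (congrArg (fun y : {y : B // QL (y : V) = 0} => ((y : B) : V)) h),
          fun y => ?_⟩)).symm
      obtain ⟨c, hc⟩ := Submodule.mem_span_singleton.1 (hT.sing_unique hNL hI hz hz0 hQz y.1.2 y.2)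
      exact ⟨c, Subtype.ext (Subtype.ext hc)⟩
    · push Not at hz
      refine Or.inl (Nat.card_eq_one_iff_unique.2 ⟨⟨fun y y' => ?_⟩, ⟨⟨0, by simp⟩⟩⟩)
      have hy0 : ∀ y : {y : B // QL (y : V) = 0}, ((y : B) : V) = 0 := fun y => by
        by_contra hne
        exact hz _ y.1.2 hne y.2
      exact Subtype.ext (Subtype.ext ((hy0 y).trans (hy0 y').symm))
  obtain ⟨n, -, hn⟩ := FiniteField.card F p
  have hpq : p ∣ Nat.card F := by
    rw [Nat.card_eq_fintype_card, hn]; exact dvd_pow_self p n.ne_zero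
  have hp2 : p ≠ 2 := fun e => hT.two (by
    have h := CharP.cast_eq_zero F p
    rw [e] at h
    exact_mod_cast h)
  rw [hcardt] at hcw
  obtain ⟨k, hk⟩ := hpq
  obtain ⟨m, hm⟩ := hcw
  have hq1 : 1 ≤ Nat.card F := Nat.card_pos
  rcases hS with h | h <;> rw [h] at hm
  · have h5 : p ∣ 1 := by
      rw [← Int.natCast_dvd_natCast]
      refine ⟨2 * k - m, ?_⟩
      have e1 : ((Nat.card F : ℕ) : ℤ) = p * k := by exact_mod_cast hk
      have e2 : ((Nat.card F : ℤ) - 1) * 2 + 1 = p * m := by
        have := congrArg (Nat.cast : ℕ → ℤ) hm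
        push_cast [Nat.cast_sub hq1] at this
        linarith
      push_cast
      linear_combination 2 * e1 - e2
    exact hpp.ne_one (Nat.dvd_one.1 h5)
  · have h5 : p ∣ 2 := by
      rw [← Int.natCast_dvd_natCast]
      refine ⟨3 * k - m, ?_⟩
      have e1 : ((Nat.card F : ℕ) : ℤ) = p * k := by exact_mod_cast hk
      have e2 : ((Nat.card F : ℤ) - 1) * 2 + Nat.card F = p * m := by
        have := congrArg (Nat.cast : ℕ → ℤ) hm
        push_cast [Nat.cast_sub hq1] at this
        linarith
      push_cast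
      linear_combination 3 * e1 - e2
    exact hp2 ((Nat.prime_dvd_prime_iff_eq hpp Nat.prime_two).1 h5)

end OExt3

end CfsgLib.OrthField
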