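import Cfsg.Agent.Lib.OrthField.ThreeBasic
import Cfsg.Agent.Lib.Geometry.SemisimpleSimilitude
import Cfsg.Agent.Lib.Coprime.Action2
import Mathlib.GroupTheory.Transfer

/-!
Elements preserving a singular line, and pairs of lines with a big intersection.
-/

set_option autoImplicit false
set_option linter.unusedSectionVars false
set_option linter.style.haveILetI false

namespace CfsgLib.OrthField

open QuadraticMap CfsgLib.Geometry CfsgLib.OrthMax CfsgLib.FieldMax

variable {F L V : Type*} [Field F] [Field L] [Algebra F L] [AddCommGroup V] [Module F V] [Module L V]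
  [IsScalarTower F L V]

/-- No element displaces along a singular line. -/
def NoLam (QL : QuadraticForm L V) (M : Subgroup (V ≃ₗ[F] V)) : Prop :=
  ∀ (a : V) (T : L →ₗ[F] L), a ≠ 0 → QL a = 0 → Lam QL M a T → T = 0

namespace OExt3

variable {QL : QuadraticForm L V} {ε : Module.Dual F L} {Q : QuadraticForm F V} {M : Subgroup (V ≃ₗ[F] V)}
variable (hT : OExt3 QL ε Q M) [Finite F] [FiniteDimensional F L] [FiniteDimensional L V]

include hT

theorem det_one {g : V ≃ₗ[F] V} (hg : g ∈ M) : LinearMap.det (g : V →ₗ[F] V) = 1 := by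
  haveI : FiniteDimensional F V := Module.Finite.trans L V
  have hc := (mem_commutator_iff_siegelGroup hT.toOExt.ndQ hT.toOExt.dimQ ⟨g, hT.toOExt.mem_orthQ hg⟩).2
    (hT.le hg)
  have h := Abelianization.commutator_subset_ker
    ((LinearEquiv.det : (V ≃ₗ[F] V) →* Fˣ).comp (orth Q).subtype) hc
  rw [MonoidHom.mem_ker] at h
  rw [← LinearEquiv.coe_det]
  exact congrArg Units.val h

theorem det_unip {y : V ≃ₗ[F] V} (h : ((y : V →ₗ[F] V) - 1) ^ 3 = 0) : LinearMap.det (y : V →ₗ[F] V) = 1 := by
  haveI : FiniteDimensional F V := Module.Finite.trans L V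
  haveI : Nontrivial V := Module.nontrivial_of_finrank_pos (R := L) (by rw [hT.three]; norm_num)
  set p := ringChar F with hp
  have hpp : p.Prime := CharP.char_is_prime F p
  haveI : Fact p.Prime := ⟨hpp⟩
  haveI : CharP (Module.End F V) p :=
    charP_of_injective_algebraMap (FaithfulSMul.algebraMap_injective F (Module.End F V)) p
  have h9 : 3 ≤ p ^ 2 := by nlinarith [hpp.two_le]
  have h1 : ((y : V →ₗ[F] V) - 1) ^ p ^ 2 = 0 := by
    rw [← Nat.add_sub_cancel' h9, pow_add, h, zero_mul]
  rw [sub_pow_char_pow_of_commute _ _ (Commute.one_right _), one_pow, sub_eq_zero] at h1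
  have h2 := congrArg (fun f : V →ₗ[F] V => LinearMap.det f) h1
  simp only [map_pow, map_one] at h2
  have h3 : (LinearMap.det (y : V →ₗ[F] V) - 1) ^ p ^ 2 = 0 := by
    rw [sub_pow_char_pow_of_commute _ _ (Commute.one_right _), h2, one_pow, sub_self]
  exact sub_eq_zero.1 (pow_eq_zero_iff (pow_ne_zero _ hpp.ne_zero) |>.1 h3)

theorem det_res_refl {u : V} (hu : QL u ≠ 0) :
    LinearMap.det (res (F := F) (refl QL u hu) : V →ₗ[F] V) = -1 := by
  show LinearMap.det (((refl QL u hu : V ≃ₗ[L] V) : V →ₗ[L] V).restrictScalars F) = _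
  rw [LinearMap.det_restrictScalars, det_refl, show (-1 : L) = algebraMap F L (-1) by rw [map_neg, map_one],
    Algebra.norm_algebraMap, hT.odd.neg_one_pow]

/-- The only element that fixes the line and acts trivially on the quotient of its perp is a Siegel element. -/
theorem eq_isE (hNL : NoLam QL M) {a f u : V} (hF : Frame QL a f u) {x : V ≃ₗ[F] V} (hx : x ∈ M)
    (hfix : ∀ t : L, x (t • a) = t • a) (hrad : ∀ v, polar QL v a = 0 → x v - v ∈ line F L a) :
    ∃ c, IsE QL a u c x := by
  have h2 := hT.toOExt.two'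
  have hd := hF.du
  haveI := Fintype.ofFinite F
  have hxo := hT.toOExt.mem_orthQ hx
  let X : L →ₗ[F] L :=
    { toFun := fun t => polar QL (x (t • u) - t • u) f
      map_add' := fun t s => by simp only [add_smul, map_add, polar_sub_left, polar_add_left]; ring
      map_smul' := fun c t => by
        simp only [RingHom.id_apply]
        rw [smul_assoc, map_smul x, ← smul_sub, lpolar_smul_left] }
  have hXv : ∀ t : L, x (t • u) = t • u + X t • a := fun t => by
    obtain ⟨s, hs⟩ := mem_line.1 (hrad (t • u) (by rw [polar_smul_left', hF.ua, mul_zero]))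
    have e : X t = s := by
      show polar QL (x (t • u) - t • u) f = s
      rw [← hs, polar_smul_left', hF.af, mul_one]
    rw [e, hs, add_sub_cancel]
  have hβa : ∀ v, polar QL (x v) a = polar QL v a := fun v => hT.toOExt.eps_ext fun t => by
    rw [← polar_smul_right', ← hT.toOExt.polarQ, ← hfix, orth_polar hxo, hT.toOExt.polarQ, polar_smul_right']
  -- the adjoint
  have hex : ∀ η : L, ∃ μ : L, ∀ t, ε (t * μ) = ε (η * X t) := fun η => by
    obtain ⟨ν, hν⟩ := exists_form ε hT.eps (ε ∘ₗ LinearMap.mulLeft F η ∘ₗ X)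
    refine ⟨ν 1, fun t => ?_⟩
    rw [← smul_eq_mul, ← map_smul, smul_eq_mul, mul_one, ← hν]
    rfl
  choose Xf hXf using hex
  let Xs : L →ₗ[F] L :=
    { toFun := Xf
      map_add' := fun η η' => hT.toOExt.eps_ext fun t => by rw [mul_add, map_add, hXf, hXf, hXf, add_mul, map_add]
      map_smul' := fun c η => hT.toOExt.eps_ext fun t => by
        rw [RingHom.id_apply, mul_smul_comm, eps_smul', hXf, hXf, smul_mul_assoc, eps_smul'] }
  have hXs : ∀ η t, ε (t * Xs η) = ε (η * X t) := hXf
  have hβu : ∀ v, polar QL (x v) u = polar QL v u - Xs (polar QL v a) := fun v => hT.toOExt.eps_ext fun t => by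
    have e : polar Q (x v) (t • u) = polar Q v (t • u) - ε (X t * polar QL v a) := by
      rw [show t • u = x (t • u) - x (X t • a) by rw [hXv, hfix]; abel, polar_sub_right, orth_polar hxo,
        orth_polar hxo, hT.toOExt.polarQ v (X t • a), polar_smul_right', hfix, hXv, add_sub_cancel_right]
    rw [hT.toOExt.polarQ, hT.toOExt.polarQ, polar_smul_right', polar_smul_right'] at e
    rw [mul_sub, map_sub, hXs, e, mul_comm (polar QL v a)]
  -- commutators with the Siegel elements
  have hcomm : ∀ c η, X (c * η) = c * Xs η := by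
    intro c η
    obtain ⟨E, hE, hEv⟩ := hT.exists_isE hF c
    have hz : ∀ z, x (E z) = E (x z) + (X (c * polar QL z a) - c * Xs (polar QL z a)) • a := fun z => by
      rw [hEv z, hEv (x z), hβa, hβu, map_sub, map_sub, map_add, hXv, hfix, hfix, mul_sub]
      module
    have hEa : ∀ v, polar QL (E v) a = polar QL v a := fun v => by
      rw [hEv, polar_sub_left, polar_sub_left, polar_add_left, polar_smul_left', polar_smul_left', polar_smul_left',
        polar_self', hF.sa, hF.ua]
      ring
    have hlam : Lam QL M a (X ∘ₗ LinearMap.mulLeft F c - LinearMap.mulLeft F c ∘ₗ Xs) := by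
      refine ⟨x * E * x⁻¹ * E⁻¹, mul_mem (mul_mem (mul_mem hx hE) (inv_mem hx)) (inv_mem hE), fun v => ?_⟩
      obtain ⟨z, rfl⟩ : ∃ z, E (x z) = v := ⟨x.symm (E.symm v), by rw [x.apply_symm_apply, E.apply_symm_apply]⟩
      show x (E (x.symm (E.symm (E (x z))))) = _
      rw [E.symm_apply_apply, x.symm_apply_apply, hz, hEa, hβa]
      rfl
    have := LinearMap.congr_fun (hNL a _ hF.ne0 hF.sa hlam) η
    simpa [sub_eq_zero] using this
  set ξ := Xs 1 with hξ
  have hXmul : ∀ t, X t = t * ξ := fun t => by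
    have := hcomm t 1
    rwa [mul_one] at this
  set c₀ := ξ / (2 * QL u) with hc₀
  obtain ⟨E, hE, hEv⟩ := hT.exists_isE hF c₀
  obtain ⟨E', hE', hEv'⟩ := hT.exists_isE hF (-c₀)
  set y := E * x with hy
  have hyM : y ∈ M := mul_mem hE hx
  have hya : ∀ t : L, y (t • a) = t • a := fun t => by
    show E (x (t • a)) = _
    rw [hfix, hF.isE_fix hEv]
  have hyu : ∀ t : L, y (t • u) = t • u := fun t => by
    show E (x (t • u)) = _
    rw [hXv, map_add, hF.isE_fix hEv, hXmul, hEv, polar_smul_left', polar_smul_left', polar_self', hF.ua, hc₀]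
    match_scalars <;> field_simp <;> ring
  have hyo := hT.toOExt.mem_orthQ hyM
  have hy1 : ∀ v, polar QL (y v - v) a = 0 := fun v => hT.toOExt.eps_ext fun t => by
    rw [← polar_smul_right', ← hT.toOExt.polarQ, polar_sub_left]
    nth_rw 1 [← hya t]
    rw [orth_polar hyo, sub_self, mul_zero, map_zero]
  have hy2 : ∀ v, polar QL (y v - v) u = 0 := fun v => hT.toOExt.eps_ext fun t => by
    rw [← polar_smul_right', ← hT.toOExt.polarQ, polar_sub_left]
    nth_rw 1 [← hyu t]
    rw [orth_polar hyo, sub_self, mul_zero, map_zero]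
  have hyv : ∀ v, y v - v = polar QL (y v - v) f • a := fun v => by
    conv_lhs => rw [hF.perp_eq hT.three h2 (hy1 v), hy2, zero_div, zero_smul, add_zero]
  let T : L →ₗ[F] L :=
    { toFun := fun η => polar QL (y (η • f) - η • f) f
      map_add' := fun t s => by simp only [add_smul, map_add, polar_sub_left, polar_add_left]; ring
      map_smul' := fun c t => by
        simp only [RingHom.id_apply]
        rw [smul_assoc, map_smul y, ← smul_sub, lpolar_smul_left] }
  have hlam : Lam QL M a T := ⟨y, hyM, fun v => by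
    conv_lhs => rw [hF.decomp hT.three h2 v, map_add, map_add, hya, hyu]
    have h1 := hyv (polar QL v a • f)
    conv_rhs => rw [hF.decomp hT.three h2 v]
    rw [(hF.coord _ _ _).1, show y (polar QL v a • f) = polar QL v a • f + T (polar QL v a) • a from
      (sub_eq_iff_eq_add'.1 h1)]
    abel⟩
  have hT0 := hNL a T hF.ne0 hF.sa hlam
  refine ⟨-c₀, ?_⟩
  have hy1' : y = 1 := by
    obtain ⟨z, hzM, hzv⟩ := hlam
    refine LinearEquiv.ext fun v => ?_
    show y v = v
    have h1 := hyv (polar QL v a • f)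
    conv_lhs => rw [hF.decomp hT.three h2 v, map_add, map_add, hya, hyu]
    conv_rhs => rw [hF.decomp hT.three h2 v]
    rw [show y (polar QL v a • f) = polar QL v a • f + T (polar QL v a) • a from (sub_eq_iff_eq_add'.1 h1), hT0,
      LinearMap.zero_apply, zero_smul, add_zero]
  have hEE : E * E' = 1 := hF.eq_one_of_isE (by have := hF.isE_mul hEv hEv'; rwa [add_neg_cancel] at this)
  rwa [show x = E' from mul_left_cancel (hy1'.trans hEE.symm)]

/-- Elements preserving a line are semilinear there. -/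
theorem on_line (hNL : NoLam QL M) {a f u : V} (hF : Frame QL a f u) {g : V ≃ₗ[F] V} (hg : g ∈ M)
    (hgA : ∀ t : L, g (t • a) ∈ line F L a) :
    ∃ (σ : L →ₐ[F] L) (μ κ : L), μ ≠ 0 ∧ (∀ t, g (t • a) = (σ t * μ) • a) ∧
      ∀ t, g (t • u) - (σ t * κ) • u ∈ line F L a := by
  haveI : FiniteDimensional F V := Module.Finite.trans L V
  have h2 := hT.toOExt.two'
  have hd := hF.du
  have hgo := hT.toOExt.mem_orthQ hg
  have hmap : (line F L a).map (g : V →ₗ[F] V) = line F L a := by
    refine Submodule.eq_of_le_of_finrank_eq ?_ (LinearEquiv.finrank_map_eq g _)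
    rintro _ ⟨v, hv, rfl⟩
    obtain ⟨t, rfl⟩ := mem_line.1 hv
    exact hgA t
  have hsymm : ∀ t : L, g.symm (t • a) ∈ line F L a := fun t => by
    obtain ⟨v, hv, hgv⟩ : t • a ∈ (line F L a).map (g : V →ₗ[F] V) := hmap.symm ▸ smul_mem_line a t
    rw [← hgv]
    show g.symm (g v) ∈ _
    rwa [g.symm_apply_apply]
  have hperp : ∀ v, polar QL v a = 0 → polar QL (g v) a = 0 := fun v hv => hT.toOExt.eps_ext fun t => by
    obtain ⟨s, hs⟩ := mem_line.1 (hsymm t)
    rw [← polar_smul_right', ← hT.toOExt.polarQ, show t • a = g (s • a) by rw [hs, g.apply_symm_apply],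
      orth_polar hgo, hT.toOExt.polarQ, polar_smul_right', hv, mul_zero, mul_zero, map_zero]
  have hperp' : ∀ v, polar QL v a = 0 → polar QL (g.symm v) a = 0 := fun v hv => hT.toOExt.eps_ext fun t => by
    obtain ⟨s, hs⟩ := mem_line.1 (hgA t)
    rw [← polar_smul_right', ← hT.toOExt.polarQ, ← orth_polar hgo, g.apply_symm_apply, ← hs, hT.toOExt.polarQ,
      polar_smul_right', hv, mul_zero, mul_zero, map_zero]
  set N : L → L := fun t => polar QL (g (t • a)) f with hNdef
  have hN : ∀ t, g (t • a) = N t • a := fun t => by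
    obtain ⟨s, hs⟩ := mem_line.1 (hgA t)
    show _ = polar QL (g (t • a)) f • a
    rw [← hs, polar_smul_left', hF.af, mul_one]
  have hNinj : ∀ t, N t = 0 → t = 0 := fun t h => by
    have := hN t
    rw [h, zero_smul, LinearEquiv.map_eq_zero_iff] at this
    exact (smul_eq_zero.1 this).resolve_right hF.ne0
  set d := 2 * QL u with hd'
  have hd0 : d ≠ 0 := mul_ne_zero h2 hd
  set S : L → L := fun t => polar QL (g (t • u)) u / d with hSdef
  have hφ : ∀ c, ∃ e, ∀ t, N (d * (c * t)) = d * (e * S t) := by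
    intro c
    obtain ⟨E, hE, hEv⟩ := hT.exists_isE hF c
    obtain ⟨e, he⟩ := hT.eq_isE hNL hF (mul_mem (mul_mem hg hE) (inv_mem hg)) (fun t => by
      obtain ⟨s, hs⟩ := mem_line.1 (hsymm t)
      show g (E (g.symm (t • a))) = _
      rw [← hs, hF.isE_fix hEv, hs, g.apply_symm_apply]) (fun v hv => by
      have h1 : polar QL (g.symm v) a = 0 := hperp' v hv
      show g (E (g.symm v)) - v ∈ _
      rw [hEv, h1, mul_zero, zero_smul, mul_zero, zero_smul, add_zero, sub_zero, map_sub, g.apply_symm_apply,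
        sub_sub_cancel_left]
      exact neg_mem (hgA _))
    refine ⟨e, fun t => ?_⟩
    have h1 : g (E (t • u)) = g (t • u) - N (d * (c * t)) • a := by
      rw [hEv, polar_smul_left', hF.ua, polar_smul_left', polar_self', mul_zero, mul_zero, zero_smul, mul_zero,
        zero_smul, add_zero, sub_zero, map_sub, ← hN, hd',
        show c * (t * (2 * QL u)) = 2 * QL u * (c * t) by ring]
    have h3 := he (g (t • u))
    change g (E (g.symm (g (t • u)))) = _ at h3
    rw [g.symm_apply_apply, h1, hperp _ (by rw [polar_smul_left', hF.ua, mul_zero]), mul_zero, zero_smul, mul_zero,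
      zero_smul, add_zero, sub_zero, sub_right_inj] at h3
    rw [smul_left_injective L hF.ne0 h3]
    show e * polar QL (g (t • u)) u = d * (e * (polar QL (g (t • u)) u / d))
    field_simp
  choose φ hφ using hφ
  set Nd : L → L := fun t => N (d * t) / d with hNd
  have hNd' : ∀ c t, Nd (c * t) = φ c * S t := fun c t => by
    show N (d * (c * t)) / d = _
    rw [hφ, mul_div_cancel_left₀ _ hd0]
  have h1 : Nd 1 ≠ 0 := fun h => by
    have := hNinj _ ((div_eq_zero_iff.1 h).resolve_right hd0)
    rw [mul_one] at this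
    exact hd0 this
  have hNdadd : ∀ s t, Nd (s + t) = Nd s + Nd t := fun s t => by
    show polar QL (g ((d * (s + t)) • a)) f / d = _
    rw [mul_add, add_smul, map_add, polar_add_left, add_div]
  have hmul : ∀ c t, Nd (c * t) * Nd 1 = Nd c * Nd t := fun c t => by
    have e1 := hNd' 1 1; have e2 := hNd' c 1; have e3 := hNd' 1 t
    rw [mul_one] at e1 e2
    rw [one_mul] at e3
    rw [hNd' c t, e1, e2, e3]
    ring
  let σr : L →+* L :=
    { toFun := fun t => Nd t / Nd 1
      map_one' := div_self h1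
      map_mul' := fun c t => by rw [div_mul_div_comm, ← hmul, mul_div_mul_right _ _ h1]
      map_zero' := by
        show Nd 0 / Nd 1 = 0
        have := hNdadd 0 0
        rw [add_zero, left_eq_add] at this
        rw [this, zero_div]
      map_add' := fun s t => by rw [hNdadd, add_div] }
  let σ : L →ₐ[F] L :=
    { σr with
      commutes' := fun c => by
        show Nd (algebraMap F L c) / Nd 1 = _
        rw [div_eq_iff h1]
        show polar QL (g ((d * algebraMap F L c) • a)) f / d = algebraMap F L c * (polar QL (g ((d * 1) • a)) f / d)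
        rw [mul_one, show (d * algebraMap F L c) • a = c • d • a by rw [mul_comm, mul_smul, algebraMap_smul],
          map_smul g, lpolar_smul_left, Algebra.smul_def, mul_div_assoc] }
  have hNs : ∀ t, N t = σ t * (σ d⁻¹ * (d * Nd 1)) := fun t => by
    rw [← mul_assoc, ← map_mul]
    show _ = Nd (t * d⁻¹) / Nd 1 * (d * Nd 1)
    rw [mul_comm d, ← mul_assoc, div_mul_cancel₀ _ h1]
    show _ = N (d * (t * d⁻¹)) / d * d
    rw [div_mul_cancel₀ _ hd0, show d * (t * d⁻¹) = t by field_simp]
  have hμ : σ d⁻¹ * (d * Nd 1) ≠ 0 :=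
    mul_ne_zero ((map_ne_zero σ).2 (inv_ne_zero hd0)) (mul_ne_zero hd0 h1)
  have hφ1 : φ 1 ≠ 0 := fun h => h1 (by
    have := hNd' 1 1
    rwa [mul_one, h, zero_mul] at this)
  refine ⟨σ, _, Nd 1 / φ 1, hμ, fun t => by rw [hN, hNs], fun t => ?_⟩
  have hS : S t = σ t * (Nd 1 / φ 1) := by
    show _ = Nd t / Nd 1 * (Nd 1 / φ 1)
    have := hNd' 1 t
    rw [one_mul] at this
    rw [this]
    field_simp
  rw [← hS]
  have hv : polar QL (g (t • u)) a = 0 := hperp _ (by rw [polar_smul_left', hF.ua, mul_zero])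
  refine mem_line.2 ⟨polar QL (g (t • u)) f, ?_⟩
  rw [eq_sub_iff_add_eq]
  exact (hF.perp_eq hT.three h2 hv).symm

/-- The pointwise stabiliser of the line. -/
theorem fix_line (hNL : NoLam QL M) {a f u : V} (hF : Frame QL a f u) {g : V ≃ₗ[F] V} (hg : g ∈ M)
    (hfix : ∀ t : L, g (t • a) = t • a) : ∃ c, IsE QL a u c g := by
  have h2 := hT.toOExt.two'
  obtain ⟨σ, μ, κ, -, hσa, hσu⟩ := hT.on_line hNL hF hg fun t => (hfix t).symm ▸ smul_mem_line a t
  have hμ : μ = 1 := smul_left_injective L hF.ne0 (by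
    have := (hσa 1).symm.trans (hfix 1)
    simpa using this)
  have hσ : ∀ t, σ t = t := fun t => smul_left_injective L hF.ne0 (by
    have := (hσa t).symm.trans (hfix t)
    simpa [hμ] using this)
  simp only [hσ] at hσu
  have hgo := hT.toOExt.mem_orthQ hg
  have hκ : κ * κ = 1 := by
    have hq : ∀ t : L, ε (t * t * ((κ * κ - 1) * QL u)) = 0 := fun t => by
      obtain ⟨s, hs⟩ := mem_line.1 (hσu t)
      have e : g (t • u) = (t * κ) • u + s • a := by rw [hs]; abel
      have h := mem_orth.1 hgo (t • u)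
      rw [e, hT.form, hT.form, map_add', map_smul', map_smul', map_smul', polar_smul_left', polar_smul_right', hF.sa,
        hF.ua] at h
      rw [show t * t * ((κ * κ - 1) * QL u) = t * κ * (t * κ) * QL u + s * s * 0 + t * κ * (s * 0) - t * t * QL u by
        ring, map_sub, h, sub_self]
    have : (κ * κ - 1) * QL u = 0 := hT.toOExt.eps_ext fun t => by
      have h := hq (t / 2 + 1)
      rw [show (t / 2 + 1) * (t / 2 + 1) * ((κ * κ - 1) * QL u) = t / 2 * (t / 2) * ((κ * κ - 1) * QL u) +
        1 * 1 * ((κ * κ - 1) * QL u) + t * ((κ * κ - 1) * QL u) by field_simp; ring, map_add, map_add, hq, hq] at h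
      simpa using h
    linear_combination (mul_eq_zero.1 this).resolve_right hF.du
  rcases mul_self_eq_one_iff.1 hκ with rfl | rfl
  · refine hT.eq_isE hNL hF hg hfix fun v hv => ?_
    obtain ⟨s, hs⟩ := mem_line.1 (hσu (polar QL v u / (2 * QL u)))
    rw [hF.perp_eq hT.three h2 hv, map_add, hfix, mem_line]
    refine ⟨s, ?_⟩
    rw [hs, mul_one]; abel
  exfalso
  haveI : FiniteDimensional F V := Module.Finite.trans L V
  set y := g * res (F := F) (refl QL u hF.du) with hy
  have hra : ∀ v, polar QL v u = 0 → refl QL u hF.du v = v := fun v => refl_eq_self QL u hF.du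
  have hya : ∀ t : L, y (t • a) = t • a := fun t => by
    show g (refl QL u hF.du (t • a)) = _
    rw [hra _ (by rw [polar_smul_left', hF.au, mul_zero]), hfix]
  have hperp : ∀ v, polar QL v a = 0 → y v - v ∈ line F L a := fun v hv => by
    obtain ⟨s, hs⟩ := mem_line.1 (hσu (-(polar QL v u / (2 * QL u))))
    rw [hF.perp_eq hT.three h2 hv]
    show g (refl QL u hF.du _) - _ ∈ _
    rw [map_add, hra _ (by rw [polar_smul_left', hF.au, mul_zero]), map_smul, refl_self, smul_neg, ← neg_smul,
      map_add, hfix, mem_line]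
    refine ⟨s, ?_⟩
    rw [hs, neg_mul_neg, mul_one]; abel
  have hall : ∀ v, polar QL (y v - v) a = 0 := fun v => hT.toOExt.eps_ext fun t => by
    rw [← polar_smul_right', ← hT.toOExt.polarQ, mul_zero, map_zero, polar_sub_left]
    nth_rw 1 [← hya t]
    rw [sub_eq_zero]
    refine orth_polar (g := y) (fun w => ?_) v (t • a)
    show Q (g (refl QL u hF.du w)) = Q w
    rw [mem_orth.1 hgo, hT.form, hT.form, mem_orth.1 (refl_mem_orth QL u hF.du)]
  have h3 : ((y : V →ₗ[F] V) - 1) ^ 3 = 0 := by
    refine LinearMap.ext fun v => ?_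
    simp only [pow_succ, pow_zero, one_mul, Module.End.mul_apply, LinearMap.zero_apply, LinearMap.sub_apply,
      Module.End.one_apply, LinearEquiv.coe_coe]
    obtain ⟨s, hs⟩ := mem_line.1 (hperp _ (hall v))
    rw [← hs, hya, sub_self]
  have e := hT.det_unip h3
  rw [hy, show ((g * res (F := F) (refl QL u hF.du) : V ≃ₗ[F] V) : V →ₗ[F] V) =
    (g : V →ₗ[F] V) * (res (F := F) (refl QL u hF.du) : V →ₗ[F] V) from rfl, map_mul, hT.det_one hg,
    hT.det_res_refl, one_mul] at e
  exact hT.two (by linear_combination (-1 : F) * e)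

/-- Two fixed vectors of the line that are independent over the small field. -/
theorem fix_of_two (hNL : NoLam QL M) {a f u : V} (hF : Frame QL a f u) {g : V ≃ₗ[F] V} (hg : g ∈ M)
    (hgA : ∀ t : L, g (t • a) ∈ line F L a) {t₁ t₂ : L} (h₁ : t₁ ≠ 0) (h₂ : ∀ c : F, t₂ ≠ c • t₁)
    (e₁ : g (t₁ • a) = t₁ • a) (e₂ : g (t₂ • a) = t₂ • a) : ∃ c, IsE QL a u c g := by
  obtain ⟨σ, μ, κ, hμ, hσa, -⟩ := hT.on_line hNL hF hg hgA
  rw [hσa] at e₁ e₂
  have e₁' := smul_left_injective L hF.ne0 e₁
  have e₂' := smul_left_injective L hF.ne0 e₂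
  have hfix : σ (t₂ / t₁) = t₂ / t₁ := by
    conv_rhs => rw [← e₂', ← e₁']
    rw [map_div₀, mul_div_mul_right _ _ hμ]
  haveI := Subalgebra.isSimpleOrder_of_finrank_prime F L hT.prime
  have htop : ∀ t, σ t = t := by
    rcases IsSimpleOrder.eq_bot_or_eq_top (AlgHom.equalizer σ (AlgHom.id F L)) with h | h
    · obtain ⟨c, hc⟩ := Algebra.mem_bot.1 (h ▸ (show t₂ / t₁ ∈ AlgHom.equalizer σ (AlgHom.id F L) from hfix))
      exact absurd (by rw [Algebra.smul_def, hc, div_mul_cancel₀ _ h₁]) (h₂ c)
    · exact fun t => (show t ∈ AlgHom.equalizer σ (AlgHom.id F L) from h ▸ Algebra.mem_top)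
  rw [htop] at e₁'
  have hμ1 : μ = 1 := mul_left_cancel₀ h₁ (e₁'.trans (mul_one t₁).symm)
  exact hT.fix_line hNL hF hg fun t => by rw [hσa, htop, hμ1, mul_one]

/-- Without displacement elements two different lines meet at most in a point. -/
theorem no_big_pair (hNL : NoLam QL M) {g : V ≃ₗ[F] V} {a : V} (hp : Pair QL M g a)
    (h2k : 2 ≤ Module.finrank F (meet L g a)) : False := by
  classical
  haveI : FiniteDimensional F V := Module.Finite.trans L V
  haveI : Finite V := Module.finite_of_finite F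
  haveI : Finite L := Module.finite_of_finite F
  haveI : Finite (V ≃ₗ[F] V) := Finite.of_injective (fun e => (e : V → V)) DFunLike.coe_injective
  obtain ⟨f, u, hF⟩ := hT.exists_frame hp.ne0 hp.sing
  set P := meet L g a with hP
  obtain ⟨z₁, hz₁, hz₁0⟩ := Submodule.exists_mem_ne_zero_of_ne_bot hp.meets
  obtain ⟨z₂, hz₂, hz₂'⟩ : ∃ z₂ ∈ P, z₂ ∉ F ∙ z₁ := by
    by_contra hc
    push Not at hc
    have := Submodule.finrank_mono (show P ≤ F ∙ z₁ from hc)
    rw [finrank_span_singleton hz₁0] at this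
    omega
  obtain ⟨t₁, rfl⟩ := mem_line.1 hz₁.1
  obtain ⟨t₂, rfl⟩ := mem_line.1 hz₂.1
  have ht₁ : t₁ ≠ 0 := fun e => hz₁0 (by rw [e, zero_smul])
  have ht₂ : ∀ c : F, t₂ ≠ c • t₁ := fun c e => hz₂' (by
    rw [e, smul_assoc]; exact Submodule.smul_mem _ c (Submodule.mem_span_singleton_self _))
  let G : Subgroup (V ≃ₗ[F] V) :=
    { carrier := {x | x ∈ M ∧ ∀ z ∈ P, x z = z}
      one_mem' := ⟨one_mem _, fun z _ => rfl⟩
      mul_mem' := fun {x y} hx hy => ⟨mul_mem hx.1 hy.1, fun z hz => by
        show x (y z) = z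
        rw [hy.2 z hz, hx.2 z hz]⟩
      inv_mem' := fun {x} hx => ⟨inv_mem hx.1, fun z hz => by
        show x.symm z = z
        rw [LinearEquiv.symm_apply_eq, hx.2 z hz]⟩ }
  have hE1 : ∀ (c : L) (x : V ≃ₗ[F] V), x ∈ M → IsE QL a u c x → x ∈ G := fun c x hx hxE =>
    ⟨hx, fun z hz => by obtain ⟨t, rfl⟩ := mem_line.1 hz.1; exact hF.isE_fix hxE t⟩
  let U : Subgroup G :=
    { carrier := {x | ∃ c, IsE QL a u c (x : V ≃ₗ[F] V)}
      one_mem' := ⟨0, fun v => by simp⟩
      mul_mem' := fun {x y} hx hy => by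
        obtain ⟨c, hc⟩ := hx
        obtain ⟨c', hc'⟩ := hy
        exact ⟨c + c', hF.isE_mul hc hc'⟩
      inv_mem' := fun {x} hx => by
        obtain ⟨c, hc⟩ := hx
        obtain ⟨y, hy, hyv⟩ := hT.exists_isE hF (-c)
        refine ⟨-c, ?_⟩
        have : (x : V ≃ₗ[F] V) * y = 1 := hF.eq_one_of_isE (by
          have := hF.isE_mul hc hyv; rwa [add_neg_cancel] at this)
        rw [Subgroup.coe_inv, inv_eq_of_mul_eq_one_right this]
        exact hyv }
  have hfixset : ∀ (c : L) (x : V ≃ₗ[F] V), c ≠ 0 → IsE QL a u c x → ∀ v, x v = v → v ∈ line F L a := by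
    intro c x hc hx v hv
    rw [hx, sub_sub, add_sub_assoc, add_eq_left] at hv
    have h1 := congrArg (fun w => polar QL w u) hv
    simp [polar_sub_left, polar_add_left, polar_smul_left', polar_self', hF.au, hc, hF.du, hT.toOExt.two'] at h1
    rw [h1] at hv
    simp [hc, hF.ne0] at hv
    rw [hF.perp_eq hT.three hT.toOExt.two' h1, hv, zero_div, zero_smul, add_zero]
    exact smul_mem_line a _
  have hpres : ∀ x : G, (∀ t : L, (x : V ≃ₗ[F] V) (t • a) ∈ line F L a) → x ∈ U := fun x hx =>
    hT.fix_of_two hNL hF x.2.1 hx ht₁ ht₂ (x.2.2 _ hz₁) (x.2.2 _ hz₂)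
  set p := ringChar F with hpdef
  haveI : Fact p.Prime := ⟨CharP.char_is_prime F p⟩
  haveI : CharP L p := charP_of_injective_algebraMap (algebraMap F L).injective p
  have hexp : ∀ x ∈ U, x ^ p = 1 := by
    rintro x ⟨c, hc⟩
    have : ∀ n : ℕ, IsE QL a u ((n : L) * c) ((x : V ≃ₗ[F] V) ^ n) := by
      intro n
      induction n with
      | zero => rw [Nat.cast_zero, zero_mul, pow_zero]; exact fun v => by simp
      | succ n ih => rw [Nat.cast_succ, add_one_mul, pow_succ]; exact hF.isE_mul ih hc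
    have h := this p
    rw [CharP.cast_eq_zero, zero_mul] at h
    exact Subtype.ext ((Subgroup.coe_pow _ x p).trans (hF.eq_one_of_isE h))
  have hUp : IsPGroup p U := fun x => ⟨1, Subtype.ext (by rw [pow_one]; exact hexp x x.2)⟩
  choose e he hev using fun c => hT.exists_isE hF c
  let ι : L → U := fun c => ⟨⟨e c, hE1 c _ (he c) (hev c)⟩, c, hev c⟩
  have hι : Function.Injective ι := fun c c' h => by
    have h' : e c = e c' := congrArg (fun x : U => ((x : G) : V ≃ₗ[F] V)) h
    have h1 := congrArg (fun x : V ≃ₗ[F] V => polar QL (x f) u) h'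
    simpa [hev c f, hev c' f, polar_sub_left, polar_add_left, polar_smul_left', polar_self', hF.au, hF.fu, hF.fa,
      hF.du, hT.toOExt.two'] using h1
  have hcomm : ∀ x ∈ U, ∀ y ∈ U, x * y = y * x := by
    rintro x ⟨c, hc⟩ y ⟨c', hc'⟩
    refine Subtype.ext (LinearEquiv.ext fun v => ?_)
    show ((x : V ≃ₗ[F] V) * y) v = ((y : V ≃ₗ[F] V) * x) v
    rw [hF.isE_mul hc hc' v, hF.isE_mul hc' hc v, add_comm c c']
  have hnc : ¬ IsCyclic U := fun hcy => by
    obtain ⟨x, hx⟩ := hcy.exists_generator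
    have h1 : Nat.card U = orderOf x := (orderOf_eq_card_of_forall_mem_zpowers hx).symm
    have h2 : orderOf x ≤ p := Nat.le_of_dvd (Nat.Prime.pos Fact.out)
      (orderOf_dvd_of_pow_eq_one (Subtype.ext (hexp x x.2)))
    have h3 := Nat.card_le_card_of_injective ι hι
    rw [Module.natCard_eq_pow_finrank (K := F) (V := L)] at h3
    have h4 : p ≤ Nat.card F := by
      haveI := Fintype.ofFinite F
      obtain ⟨n, -, hn⟩ := FiniteField.card F p
      rw [Nat.card_eq_fintype_card, hn]
      exact Nat.le_self_pow n.ne_zero p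
    have h5 : Nat.card F ^ 1 < Nat.card F ^ Module.finrank F L :=
      Nat.pow_lt_pow_right Finite.one_lt_card (by have := hT.three_le; omega)
    rw [pow_one] at h5
    omega
  obtain ⟨S, hS⟩ := hUp.exists_le_sylow
  have hnorm : ∀ n : G, (∀ x ∈ U, n⁻¹ * x * n ∈ U) → n ∈ U := by
    intro n hn
    refine hpres n fun t => ?_
    obtain ⟨c, hc⟩ := hn (ι 1) (ι 1).2
    refine hfixset 1 (e 1) one_ne_zero (hev 1) _ ?_
    have h := hF.isE_fix hc t
    change (n : V ≃ₗ[F] V).symm (e 1 ((n : V ≃ₗ[F] V) (t • a))) = t • a at h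
    rwa [LinearEquiv.symm_apply_eq] at h
  have hSU : (S : Subgroup G) = U := by
    refine le_antisymm ?_ hS
    by_contra hne
    haveI : Group.IsNilpotent S := S.2.isNilpotent
    have hlt : U.subgroupOf (S : Subgroup G) < ⊤ := lt_top_iff_ne_top.2 fun h => hne (Subgroup.subgroupOf_eq_top.1 h)
    obtain ⟨n, hn, hn'⟩ := SetLike.exists_of_lt (normalizerCondition_of_isNilpotent _ hlt)
    refine hn' (Subgroup.mem_subgroupOf.2 (hnorm n fun x hx => ?_))
    have := (Subgroup.mem_normalizer_iff''.1 hn ⟨x, hS hx⟩).1 (Subgroup.mem_subgroupOf.2 hx)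
    simpa [Subgroup.mem_subgroupOf] using this
  have hnormU : ∀ n ∈ Subgroup.normalizer ((S : Subgroup G) : Set G), n ∈ U := fun n hn =>
    hnorm n fun x hx => by
      rw [← hSU] at hx ⊢
      exact (Subgroup.mem_normalizer_iff''.1 hn x).1 hx
  have hN : Subgroup.normalizer ((S : Subgroup G) : Set G) ≤ Subgroup.centralizer ((S : Subgroup G) : Set G) :=
    fun n hn => Subgroup.mem_centralizer_iff.2 fun x hx => hcomm x (hSU ▸ hx) n (hnormU n hn)
  set K := (MonoidHom.transferSylow S hN).ker with hK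
  haveI : IsMulCommutative (S : Subgroup G) := ⟨⟨fun x y => Subtype.ext
    (hcomm x (hSU ▸ x.2) y (hSU ▸ y.2))⟩⟩
  have hcmp := MonoidHom.ker_transferSylow_isComplement' S hN
  have hcop : (Nat.card (S : Subgroup G)).Coprime (Nat.card K) := by
    obtain ⟨n, hn⟩ := IsPGroup.iff_card.1 S.2
    rw [hn]
    exact Nat.Coprime.pow_left _ ((Nat.Prime.coprime_iff_not_dvd Fact.out).2
      (MonoidHom.not_dvd_card_ker_transferSylow S hN))
  have hKbot : K = ⊥ := le_bot_iff.1 (CfsgLib.Coprime.le_of_centralizer_le_of_not_isCyclic (A := (S : Subgroup G))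
    (fun h => hnc (hSU ▸ h)) (by rw [Subgroup.normalizer_eq_top]; exact le_top) hcop fun x hx hx1 k hk => by
      obtain ⟨c, hc⟩ := (hSU ▸ hx : x ∈ U)
      have hc0 : c ≠ 0 := fun e => hx1 (Subtype.ext (hF.eq_one_of_isE (e ▸ hc)))
      have hkU : k ∈ U := hpres k fun t => hfixset c x hc0 hc _ (by
        have h := congrArg (fun y : G => (y : V ≃ₗ[F] V) (t • a)) (Subgroup.mem_centralizer_singleton_iff.1 hk.2)
        simp only [Subgroup.coe_mul, LinearEquiv.mul_apply, hF.isE_fix hc t] at h
        exact h.symm)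
      have : k ∈ K ⊓ (S : Subgroup G) := ⟨hk.1, hSU.symm ▸ hkU⟩
      rwa [hcmp.disjoint.eq_bot] at this)
  have htop : (S : Subgroup G) = ⊤ := Subgroup.isComplement'_bot_left.1 (hKbot ▸ hcmp)
  -- the conjugate Siegel element
  set x := g * e 1 * g⁻¹ with hx
  have hxB : ∀ y ∈ img L g a, x y = y := fun y hy => by
    obtain ⟨t, rfl⟩ := mem_img.1 hy
    show g (e 1 (g.symm (g (t • a)))) = _
    rw [g.symm_apply_apply, hF.isE_fix (hev 1)]
  have hxG : x ∈ G := ⟨mul_mem (mul_mem hp.mem (he 1)) (inv_mem hp.mem), fun z hz => hxB z hz.2⟩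
  obtain ⟨c, hc⟩ := (show (⟨x, hxG⟩ : G) ∈ U by rw [← hSU, htop]; trivial)
  rcases eq_or_ne c 0 with rfl | hc0
  · have hx1 : x = 1 := hF.eq_one_of_isE hc
    have h1 : e 1 = 1 := by
      rw [hx, mul_inv_eq_one] at hx1
      exact mul_left_cancel (hx1.trans (mul_one g).symm)
    exact one_ne_zero (hι (show ι 1 = ι 0 from Subtype.ext (Subtype.ext (by
      show e 1 = e 0
      rw [h1, hF.eq_one_of_isE (hev 0)]))))
  exact hp.ne (Submodule.eq_of_le_of_finrank_eq (fun y hy => hfixset c x hc0 hc y (hxB y hy))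
    (by rw [finrank_img g hp.ne0, finrank_line hp.ne0]))

/-- An orthogonal vector in the image forces orthogonality with maximal intersection, or a bigger intersection. -/
theorem hperp_step3 {g : V ≃ₗ[F] V} {a : V} (hp : Pair QL M g a) {y₀ : V} (hy₀ : y₀ ∈ img L g a)
    (hy₀A : y₀ ∉ line F L a) (hy₀a : polar QL y₀ a = 0) :
    (PerpImg QL g a ∧ Module.finrank F (meet L g a) + 1 = Module.finrank F L) ∨
      (∃ g', Pair QL M g' a ∧ Module.finrank F (meet L g a) < Module.finrank F (meet L g' a)) ∨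
      (Module.finrank F L = 3 ∧ Module.finrank F (meet L g a) ≤ 1 ∧ ¬ PerpImg QL g a) := by
  classical
  haveI : FiniteDimensional F V := Module.Finite.trans L V
  haveI : Finite L := Module.finite_of_finite F
  refine (em (∃ g', Pair QL M g' a ∧ Module.finrank F (meet L g a) < Module.finrank F (meet L g' a))).elim
    (fun h => Or.inr (Or.inl h)) fun hno => ?_
  set B := img L g a with hBdef
  have ha := hp.sing
  have h2 := hT.toOExt.two'
  set e := QL y₀ with he
  have he0 : e ≠ 0 := fun h => hy₀A (hT.mem_of_sing_perp hp.ne0 ha h hy₀a)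
  have hay : polar QL a y₀ = 0 := by rw [polar_comm]; exact hy₀a
  let S : Submodule F L := B.comap ((LinearMap.toSpanSingleton L V a).restrictScalars F)
  have hS : ∀ s, s ∈ S ↔ s • a ∈ B := fun _ => Iff.rfl
  obtain ⟨z, hz, hz0⟩ := Submodule.exists_mem_ne_zero_of_ne_bot hp.meets
  obtain ⟨σ, hσ⟩ := mem_line.1 hz.1
  have hσS : σ ∈ S := (hS σ).2 (hσ ▸ hz.2)
  have hσ0 : σ ≠ 0 := fun e => hz0 (by rw [← hσ, e, zero_smul])
  have hSbot : S ≠ ⊥ := fun e => hσ0 ((Submodule.mem_bot F).1 (e ▸ hσS))
  have hStop : S ≠ ⊤ := fun e => hp.ne (Submodule.eq_of_le_of_finrank_eq (fun w hw => by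
    obtain ⟨r, rfl⟩ := mem_line.1 hw
    exact (hS r).1 (e ▸ Submodule.mem_top)) (by rw [finrank_img g hp.ne0, finrank_line hp.ne0])).symm
  -- stabilisation
  have hstab : ∀ s ∈ S, ∀ y ∈ B, (polar QL y a * (s * s) / e) • a ∈ B ∧
      (s / e) • (polar QL y a • y₀ - polar QL y y₀ • a) ∈ B := by
    intro s hs y hy
    have key : ∀ c : L, (-2 * c * e) • a ∈ B →
        c • (polar QL y a • y₀ - polar QL y y₀ • a) - (c * c * e * polar QL y a) • a ∈ B := by
      intro c hc
      obtain ⟨x, hx, hxv, hxl⟩ := hT.toOExt.exists_E ha (b := c • y₀) (by rw [polar_smul_right', hay, mul_zero])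
      have hxa : x a = a := by simp [hxv, polar_self', ha, hay, polar_smul_right']
      by_contra hbad
      refine hno (hT.toOExt.bigger hp hx (fun z hz => smul_fix hxl hxa hz.1) hy₀ hy₀A ?_ hy fun h => hbad ?_)
      · convert B.add_mem hy₀ hc using 1
        rw [hxv, hy₀a, polar_smul_right', polar_self', ← he, mul_zero, zero_smul, zero_smul, sub_zero, add_zero]
        module
      · convert B.sub_mem h hy using 1
        rw [hxv, polar_smul_right', map_smul', ← he]
        module
    have h1 := key (-s / (2 * e)) (by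
      rw [show -2 * (-s / (2 * e)) * e = s by field_simp]; exact (hS s).1 hs)
    have h1' := key (s / (2 * e)) (by
      rw [show -2 * (s / (2 * e)) * e = -s by field_simp, neg_smul]; exact B.neg_mem ((hS s).1 hs))
    refine ⟨?_, ?_⟩
    · convert B.smul_mem (-2 : F) (B.add_mem h1 h1') using 1
      rw [← algebraMap_smul L (-2 : F)]
      rw [map_neg, map_ofNat]
      match_scalars <;> field_simp <;> ring
    · convert B.sub_mem h1' h1 using 1
      match_scalars <;> field_simp <;> ring
  have hstab' : ∀ s ∈ S, ∀ y ∈ B, polar QL y a = 0 → polar QL y y₀ / e * s ∈ S := by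
    intro s hs y hy hya
    have := (hstab s hs y hy).2
    rw [hya, zero_smul, zero_sub, smul_neg, smul_smul] at this
    rw [hS, show polar QL y y₀ / e * s = s / e * polar QL y y₀ by ring]
    exact neg_mem_iff.1 this
  have hθF : ∀ y ∈ B, polar QL y a = 0 → polar QL y y₀ / e ∈ Set.range (algebraMap F L) := fun y hy hya =>
    mem_range_of_stable F hT.prime hSbot hStop fun s hs => hstab' s hs y hy hya
  -- vectors orthogonal to `a` lie in the intersection and the given vector
  have hker : ∀ y ∈ B, polar QL y a = 0 → y ∈ meet L g a ⊔ F ∙ y₀ := by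
    intro y hy hya
    obtain ⟨m, hm⟩ := hθF y hy hya
    obtain ⟨f, hf, haf⟩ := exists_pair hT.nd hp.ne0 ha
    obtain ⟨u, hu, hQu⟩ := exists_aniso_perp hT.nd (ndOn_pair ha (y := f) (by rw [haf]; exact one_ne_zero))
      (lt_of_le_of_lt (finrank_pair_le (F := L) a f) hT.dim)
    set w := y - (m / 2) • y₀ with hw
    have hwa : polar QL w a = 0 := by rw [hw, polar_sub_left, hya, lpolar_smul_left, hy₀a, smul_zero, sub_zero]
    have hwy : polar QL w y₀ = 0 := by
      rw [hw, polar_sub_left, lpolar_smul_left, polar_self', ← he, Algebra.smul_def, map_div₀, hm, map_ofNat]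
      field_simp
      ring
    have hF : Frame QL a f u := ⟨ha, hf, haf, by rw [polar_comm]; exact hu a (Submodule.subset_span (by simp)),
      by rw [polar_comm]; exact hu f (Submodule.subset_span (by simp)), hQu⟩
    have hwA : w ∈ line F L a := by
      have e1 := hF.perp_eq hT.three h2 hwa
      have e2 := hF.perp_eq hT.three h2 hy₀a
      set z₀ := polar QL y₀ u / (2 * QL u)
      have hz₀ : z₀ ≠ 0 := fun h => hy₀A (by rw [e2, h, zero_smul, add_zero]; exact smul_mem_line a _)
      set zw := polar QL w u / (2 * QL u)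
      have : zw * z₀ * (2 * QL u) = 0 := by
        rw [← hwy]
        conv_rhs => rw [e1, e2]
        simp [polar_add_left, polar_add_right, polar_smul_left', polar_smul_right', polar_self', ha, hF.au, hF.ua]
        ring
      have hzw : zw = 0 := (mul_eq_zero.1 ((mul_eq_zero.1 this).resolve_right (mul_ne_zero h2 hQu))).resolve_right hz₀
      rw [e1, hzw, zero_smul, add_zero]
      exact smul_mem_line a _
    rw [show y = w + (m / 2) • y₀ by rw [hw, sub_add_cancel]]
    exact Submodule.add_mem_sup ⟨hwA, B.sub_mem hy (B.smul_mem _ hy₀)⟩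
      (Submodule.smul_mem _ _ (Submodule.mem_span_singleton_self y₀))
  by_cases hperp : PerpImg QL g a
  · refine Or.inl ⟨hperp, ?_⟩
    have hlt := hT.toOExt.meet_lt hp
    have h1 := Submodule.finrank_mono (show B ≤ meet L g a ⊔ F ∙ y₀ from fun y hy => hker y hy (hperp y hy))
    have h3 := Submodule.finrank_add_le_finrank_add_finrank (meet L g a) (F ∙ y₀)
    have h4 : Module.finrank F (F ∙ y₀) ≤ 1 := by simpa using finrank_span_le_card (R := F) ({y₀} : Set V)
    rw [hBdef, finrank_img g hp.ne0] at h1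
    omega
  refine Or.inr (Or.inr ?_)
  obtain ⟨y₁, hy₁, hy₁a⟩ : ∃ y ∈ B, polar QL y a ≠ 0 := by
    by_contra hc
    push Not at hc
    exact hperp hc
  set π := polar QL y₁ a / e with hπ
  have hπ0 : π ≠ 0 := div_ne_zero hy₁a he0
  have hsq : ∀ y ∈ B, ∀ s ∈ S, polar QL y a / e * (s * s) ∈ S := fun y hy s hs => by
    rw [hS, div_mul_eq_mul_div]; exact (hstab s hs y hy).1
  have hpol : ∀ y ∈ B, ∀ s ∈ S, ∀ s' ∈ S, polar QL y a / e * (s * s') ∈ S := fun y hy s hs s' hs' => by
    have := S.smul_mem ((2 : F)⁻¹) (S.sub_mem (S.sub_mem (hsq y hy _ (S.add_mem hs hs')) (hsq y hy s hs))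
      (hsq y hy s' hs'))
    convert this using 1
    rw [show polar QL y a / e * ((s + s') * (s + s')) - polar QL y a / e * (s * s) - polar QL y a / e * (s' * s') =
      (2 : F) • (polar QL y a / e * (s * s')) by rw [Algebra.smul_def, map_ofNat]; ring, smul_smul,
      inv_mul_cancel₀ hT.two, one_smul]
  -- every `η s / e` stabilises `S`
  have hF1 : ∀ y ∈ B, ∀ s ∈ S, polar QL y a / e * s ∈ Set.range (algebraMap F L) := fun y hy s hs =>
    mem_range_of_stable F hT.prime hSbot hStop fun s' hs' => by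
      rw [mul_assoc]; exact hpol y hy s hs s' hs'
  let ηm : B →ₗ[F] L :=
    { toFun := fun y => polar QL (y : V) a
      map_add' := fun y y' => by rw [Submodule.coe_add, polar_add_left]
      map_smul' := fun c y => by rw [Submodule.coe_smul, lpolar_smul_left, RingHom.id_apply] }
  have hrange : Module.finrank F (LinearMap.range ηm) ≤ 1 := by
    refine le_trans (Submodule.finrank_mono (t := F ∙ (e / σ)) ?_) ?_
    · rintro _ ⟨y, rfl⟩
      obtain ⟨c, hc⟩ := hF1 y y.2 σ hσS
      refine Submodule.mem_span_singleton.2 ⟨c, ?_⟩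
      show c • (e / σ) = polar QL (y : V) a
      rw [Algebra.smul_def, hc]; field_simp
    · simpa using finrank_span_le_card (R := F) ({e / σ} : Set L)
  have hk1 : Module.finrank F (meet L g a) ≤ 1 := by
    have hmap : S.map ((LinearMap.toSpanSingleton L V a).restrictScalars F) = meet L g a := by
      refine le_antisymm ?_ fun v hv => ?_
      · rintro _ ⟨s, hs, rfl⟩; exact ⟨smul_mem_line a s, hs⟩
      · obtain ⟨s, rfl⟩ := mem_line.1 hv.1; exact ⟨s, hv.2, rfl⟩
    rw [← hmap]
    refine le_trans (Submodule.finrank_map_le _ _) (le_trans (Submodule.finrank_mono (t := F ∙ π⁻¹) fun s hs => ?_) ?_)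
    · obtain ⟨c, hc⟩ := hF1 y₁ hy₁ s hs
      refine Submodule.mem_span_singleton.2 ⟨c, ?_⟩
      rw [Algebra.smul_def, hc, ← hπ]; field_simp
    · simpa using finrank_span_le_card (R := F) ({π⁻¹} : Set L)
  have hkerdim := LinearMap.finrank_range_add_finrank_ker ηm
  rw [show Module.finrank F B = Module.finrank F L from finrank_img g hp.ne0] at hkerdim
  have hle : (LinearMap.ker ηm).map B.subtype ≤ meet L g a ⊔ F ∙ y₀ := by
    rintro _ ⟨y, hy, rfl⟩
    exact hker y y.2 hy
  have h5 := Submodule.finrank_mono hle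
  rw [Submodule.finrank_map_subtype_eq] at h5
  have h6 := Submodule.finrank_add_le_finrank_add_finrank (meet L g a) (F ∙ y₀)
  have h7 : Module.finrank F (F ∙ y₀) ≤ 1 := by simpa using finrank_span_le_card (R := F) ({y₀} : Set V)
  have := hT.three_le
  exact ⟨by omega, hk1, hperp⟩

end OExt3

end CfsgLib.OrthField
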